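import Cfsg.Agent.Lib.SecRank.NoNormalEight
import Cfsg.Agent.Lib.PGroup.Critical

/-!
# 2-groups of normal rank two with an automorphism of odd prime power order

The setting, counting fixed points, and the basic properties of a critical subgroup `H`, of
`A = C(H) = Z(H)` and of `D = C(A)`.
-/

set_option autoImplicit false
set_option linter.style.haveILetI false

namespace Cfsg.Agent.NormalRankTwo

open Subgroup
open SecRank (SqSub)

universe u

/-- A 2-group whose normal abelian subgroups are 2-generated, with a nontrivial automorphism of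
odd prime power order, and a critical subgroup. -/
structure Ctx (T : Type u) [Group T] [Finite T] where
  pT : IsPGroup 2 T
  d2 : ∀ A : Subgroup T, A.Normal → IsMulCommutative A → ∃ a b : T, closure {a, b} = A
  σ : MulAut T
  p : ℕ
  hp : p.Prime
  p2 : p ≠ 2
  m : ℕ
  σpow : σ ^ p ^ m = 1
  σne : σ ≠ 1
  H : Subgroup T
  Hchar : H.Characteristic
  Hsq : ∀ h ∈ H, h * h ∈ centralizer (H : Set T)
  Hcomm : ⁅H, (⊤ : Subgroup T)⁆ ≤ H ⊓ centralizer (H : Set T)
  Hself : centralizer (H : Set T) ≤ H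

/-- Counting fixed points of a map of prime power order. -/
theorem modEq_fixed {α : Type*} [Finite α] {p m : ℕ} (hp : p.Prime) {f : α → α}
    (hf : f^[p ^ m] = id) : Nat.card α ≡ Nat.card {x // f x = x} [MOD p] := by
  classical
  have : Fintype α := Fintype.ofFinite α
  haveI : Fact p.Prime := ⟨hp⟩
  let F : Function.End α := f
  have hpow : ∀ k x, (F ^ k) x = f^[k] x := by
    intro k
    induction k with
    | zero => intro x; rfl
    | succ k ih => intro x; rw [pow_succ', Function.iterate_succ_apply']; exact congrArg f (ih x)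
  have h := Equiv.Perm.card_fixedPoints_modEq (f := F) (p := p) (n := m)
    (funext fun x => by rw [hpow, hf]; rfl)
  rw [Nat.card_eq_fintype_card]
  refine h.trans ?_
  rw [← Nat.card_eq_fintype_card]
  exact Nat.ModEq.refl _

variable {T : Type u} [Group T] [Finite T]

theorem exists_ctx (pT : IsPGroup 2 T)
    (d2 : ∀ A : Subgroup T, A.Normal → IsMulCommutative A → ∃ a b : T, closure {a, b} = A)
    (σ : MulAut T) {p m : ℕ} (hp : p.Prime) (p2 : p ≠ 2) (h : σ ^ p ^ m = 1) (hne : σ ≠ 1) :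
    ∃ X : Ctx T, X.σ = σ := by
  haveI : Fact (Nat.Prime 2) := ⟨Nat.prime_two⟩
  obtain ⟨H, hH, hfr, hc, hs⟩ := PGroup.exists_critical pT
  refine ⟨⟨pT, d2, σ, p, hp, p2, m, h, hne, H, hH, fun x hx => hfr ?_, hc, hs⟩, rfl⟩
  refine ⟨⟨x, hx⟩ ^ 2, PGroup.pow_mem_frattini (pT.to_subgroup H) _, ?_⟩
  simp [pow_two]

omit [Finite T] in
theorem comm_swap {x y : T} (h : (x⁻¹ * y⁻¹ * x * y) * (x⁻¹ * y⁻¹ * x * y) = 1) :
    y⁻¹ * x⁻¹ * y * x = x⁻¹ * y⁻¹ * x * y := by
  rw [← inv_eq_of_mul_eq_one_right h]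
  group

/-- The solutions of `x * x = 1` in a commutative subgroup. -/
def omega (K : Subgroup T) (hK : ∀ a ∈ K, ∀ b ∈ K, a * b = b * a) : Subgroup T where
  carrier := {x | x ∈ K ∧ x * x = 1}
  one_mem' := ⟨one_mem K, one_mul 1⟩
  mul_mem' := by
    rintro a b ⟨ha, ha2⟩ ⟨hb, hb2⟩
    refine ⟨mul_mem ha hb, ?_⟩
    calc a * b * (a * b) = a * (b * a) * b := by group
      _ = a * a * (b * b) := by rw [hK b hb a ha]; group
      _ = 1 := by rw [ha2, hb2, one_mul]
  inv_mem' := by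
    rintro a ⟨ha, ha2⟩
    exact ⟨inv_mem ha, by rw [← mul_inv_rev, ha2, inv_one]⟩

/-- The four-group generated by two commuting involutions. -/
def four {x y : T} (hx : x * x = 1) (hy : y * y = 1) (h : x * y = y * x) : Subgroup T where
  carrier := {1, x, y, x * y}
  one_mem' := Or.inl rfl
  mul_mem' := by
    have xxy : x * (x * y) = y := by rw [← mul_assoc, hx, one_mul]
    have yxy : y * (x * y) = x := by rw [h, ← mul_assoc, hy, one_mul]
    have xyy : x * y * y = x := by rw [mul_assoc, hy, mul_one]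
    have xyx : x * y * x = y := by rw [mul_assoc, ← h, xxy]
    have xyxy : x * y * (x * y) = 1 := by rw [← mul_assoc, xyx, hy]
    rintro a b (rfl | rfl | rfl | rfl) (rfl | rfl | rfl | rfl) <;>
      simp [hx, hy, h.symm, xxy, yxy, xyy, xyx, xyxy]
  inv_mem' := by
    have h1 : (x * y)⁻¹ = x * y := by
      rw [mul_inv_rev, inv_eq_of_mul_eq_one_right hx, inv_eq_of_mul_eq_one_right hy, h]
    rintro a (rfl | rfl | rfl | rfl) <;>
      simp [inv_eq_of_mul_eq_one_right hx, inv_eq_of_mul_eq_one_right hy, h1, -mul_inv_rev]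

theorem card_four {x y : T} (hx : x * x = 1) (hy : y * y = 1) (h : x * y = y * x)
    (hx1 : x ≠ 1) (hy1 : y ≠ 1) (hxy : x ≠ y) : 4 ≤ Nat.card (four hx hy h) := by
  classical
  have hp : x * y ≠ 1 := fun e => hxy (by
    rw [eq_inv_of_mul_eq_one_left e, inv_eq_of_mul_eq_one_right hy])
  have h1 : ({1, x, y, x * y} : Finset T).card = 4 := by
    repeat rw [Finset.card_insert_of_notMem]
    · simp
    all_goals simp [hx1, hx1.symm, hy1, hy1.symm, hxy, hp.symm]
  rw [← h1]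
  have e : (({1, x, y, x * y} : Finset T) : Set T) = (four hx hy h : Set T) := by
    simp only [Finset.coe_insert, Finset.coe_singleton]; rfl
  rw [← Nat.card_eq_finsetCard]
  exact le_of_eq (Nat.card_congr (Equiv.subtypeEquivRight fun a => by
    rw [← SetLike.mem_coe (p := four hx hy h), ← e, Finset.mem_coe]))

theorem fact_two : Fact (Nat.Prime 2) := ⟨Nat.prime_two⟩

namespace Ctx

variable (X : Ctx T)

include X

/-- The centre of the critical subgroup. -/
abbrev A : Subgroup T := centralizer (X.H : Set T)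

/-- The centralizer of `A`. -/
abbrev D : Subgroup T := centralizer (X.A : Set T)

instance normal_H : X.H.Normal := by haveI := X.Hchar; infer_instance
instance normal_A : X.A.Normal := by haveI := X.Hchar; infer_instance
instance normal_D : X.D.Normal := by haveI := X.Hchar; infer_instance

theorem A_le_H : X.A ≤ X.H := X.Hself

theorem A_comm {a b : T} (ha : a ∈ X.A) (hb : b ∈ X.A) : a * b = b * a :=
  (mem_centralizer_iff.mp ha b (X.A_le_H hb)).symm

theorem H_A {h a : T} (hh : h ∈ X.H) (ha : a ∈ X.A) : h * a = a * h :=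
  mem_centralizer_iff.mp ha h hh

theorem mem_A {x : T} (h : ∀ y ∈ X.H, y * x = x * y) : x ∈ X.A := mem_centralizer_iff.mpr h

theorem A_D {a d : T} (ha : a ∈ X.A) (hd : d ∈ X.D) : a * d = d * a :=
  mem_centralizer_iff.mp hd a ha

theorem H_le_D : X.H ≤ X.D := fun h hh =>
  mem_centralizer_iff.mpr fun a ha => (X.H_A hh ha).symm

theorem A_le_D : X.A ≤ X.D := X.A_le_H.trans X.H_le_D

theorem H_comm_mem {h : T} (hh : h ∈ X.H) (t : T) : h⁻¹ * t⁻¹ * h * t ∈ X.A := by
  have := (X.Hcomm (commutator_mem_commutator (inv_mem hh) (mem_top t⁻¹))).2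
  rwa [commutatorElement_def, inv_inv, inv_inv] at this

theorem normal_of_between {K : Subgroup T} (hA : X.A ≤ K) (hK : K ≤ X.H) : K.Normal := by
  refine ⟨fun k hk t => ?_⟩
  have h := X.H_comm_mem (hK hk) t⁻¹
  have e : t * k * t⁻¹ = k * (k⁻¹ * t⁻¹⁻¹ * k * t⁻¹) := by group
  rw [e]
  exact mul_mem hk (hA h)

theorem σ_mem {K : Subgroup T} (hK : K.Characteristic) {x : T} (hx : x ∈ K) : X.σ x ∈ K :=
  characteristic_iff_map_le.mp hK X.σ (mem_map_of_mem _ hx)

theorem σ_H {x : T} (hx : x ∈ X.H) : X.σ x ∈ X.H := X.σ_mem X.Hchar hx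

theorem σ_A {x : T} (hx : x ∈ X.A) : X.σ x ∈ X.A := by
  haveI := X.Hchar
  exact X.σ_mem inferInstance hx

theorem σ_D {x : T} (hx : x ∈ X.D) : X.σ x ∈ X.D := by
  haveI := X.Hchar
  exact X.σ_mem inferInstance hx

theorem σ_iter (k : ℕ) (x : T) : (X.σ ^ k) x = (⇑X.σ)^[k] x := by
  induction k generalizing x with
  | zero => rfl
  | succ k ih => rw [pow_succ', MulAut.mul_apply, ih, Function.iterate_succ_apply']

theorem coprime_p_two : Nat.Coprime X.p 2 :=
  (Nat.coprime_primes X.hp Nat.prime_two).mpr X.p2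

theorem eq_one_of_pow {x : T} {k : ℕ} (h : x ^ X.p ^ k = 1) : x = 1 := by
  haveI := fact_two
  obtain ⟨j, hj⟩ := IsPGroup.iff_orderOf.mp X.pT x
  exact orderOf_eq_one_iff.mp (Nat.eq_one_of_dvd_coprimes (X.coprime_p_two.pow k j)
    (orderOf_dvd_of_pow_eq_one h) (hj ▸ dvd_rfl))

/-- An element moved by a fixed element is fixed. -/
theorem stab {x c : T} (hx : X.σ x = x * c) (hc : X.σ c = c) : c = 1 := by
  have h : ∀ k, (X.σ ^ k) x = x * c ^ k := by
    intro k
    induction k with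
    | zero => simp
    | succ k ih => rw [pow_succ', MulAut.mul_apply, ih, map_mul, map_pow, hx, hc, pow_succ' c, mul_assoc]
  have h1 := h (X.p ^ X.m)
  rw [X.σpow, MulAut.one_apply, left_eq_mul] at h1
  exact X.eq_one_of_pow h1

theorem stab_inv_mul {x : T} (hc : X.σ (x⁻¹ * X.σ x) = x⁻¹ * X.σ x) : X.σ x = x := by
  have h := X.stab (x := x) (c := x⁻¹ * X.σ x) (by group) hc
  exact (inv_mul_eq_one.mp h).symm

/-- `σ` is nontrivial on `H`. -/
theorem exists_moved : ∃ h ∈ X.H, X.σ h ≠ h := by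
  haveI := fact_two
  by_contra! hn
  refine X.σne (PGroup.aut_eq_one_of_centralizer_le X.pT X.H X.Hself X.σ ?_ hn)
  obtain ⟨i, -, hi⟩ := (Nat.dvd_prime_pow X.hp).mp (orderOf_dvd_of_pow_eq_one X.σpow)
  rw [hi]
  exact X.coprime_p_two.pow_left i

theorem card_two_pow (K : Subgroup T) : ∃ k, Nat.card K = 2 ^ k := by
  haveI := fact_two
  exact PGroup.card_eq_pow X.pT K

theorem p_not_dvd_two_pow (k : ℕ) : ¬ X.p ∣ 2 ^ k := fun h =>
  X.p2 ((Nat.prime_dvd_prime_iff_eq X.hp Nat.prime_two).mp (X.hp.dvd_of_dvd_pow h))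

/-- An invariant coset contains a fixed point. -/
theorem exists_fixed_mul {N : Subgroup T} (hN : ∀ n ∈ N, X.σ n ∈ N) {x : T}
    (hx : x⁻¹ * X.σ x ∈ N) : ∃ n ∈ N, X.σ (x * n) = x * n := by
  let f : N → N := fun n => ⟨x⁻¹ * X.σ x * X.σ n, mul_mem hx (hN n n.2)⟩
  have hf : ∀ k (n : N), x * ((f^[k] n : N) : T) = (⇑X.σ)^[k] (x * n) := by
    intro k
    induction k with
    | zero => intro n; rfl
    | succ k ih =>
      intro n
      rw [Function.iterate_succ_apply', Function.iterate_succ_apply', ← ih, map_mul]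
      simp [f, mul_assoc]
  have hid : f^[X.p ^ X.m] = id := by
    funext n
    refine Subtype.ext (mul_left_cancel (a := x) ?_)
    rw [hf, ← X.σ_iter, X.σpow]; rfl
  have h := modEq_fixed X.hp hid
  obtain ⟨k, hk⟩ := X.card_two_pow N
  rw [hk] at h
  by_contra! hn
  have : IsEmpty {n : N // f n = n} := ⟨fun n => hn n.1 n.1.2 (by
    have e := congrArg (fun z : N => x * (z : T)) n.2
    simpa [f, map_mul, mul_assoc] using e)⟩
  rw [Nat.card_of_isEmpty] at h
  exact X.p_not_dvd_two_pow k (Nat.modEq_zero_iff_dvd.mp h)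

/-- The fixed points of `σ`. -/
abbrev fixed : Subgroup T := MonoidHom.eqLocus X.σ.toMonoidHom (MonoidHom.id T)

theorem mem_fixed {x : T} : x ∈ X.fixed ↔ X.σ x = x := Iff.rfl

/-- A group of order four with an invariant subgroup structure: counting fixed points. -/
theorem card_modEq_fixed {K : Subgroup T} (hK : ∀ x ∈ K, X.σ x ∈ K) :
    Nat.card K ≡ Nat.card ↥(K ⊓ X.fixed) [MOD X.p] := by
  let f : K → K := fun x => ⟨X.σ x, hK x x.2⟩
  have hf : ∀ k (x : K), ((f^[k] x : K) : T) = (⇑X.σ)^[k] x := by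
    intro k
    induction k with
    | zero => intro x; rfl
    | succ k ih => intro x; rw [Function.iterate_succ_apply', Function.iterate_succ_apply', ← ih]
  have hid : f^[X.p ^ X.m] = id := by
    funext x
    refine Subtype.ext ?_
    rw [hf, ← X.σ_iter, X.σpow]; rfl
  refine (modEq_fixed X.hp hid).trans ?_
  rw [Nat.card_congr
    { toFun := fun x : {x : K // f x = x} => (⟨(x.1 : T), x.1.2, congrArg Subtype.val x.2⟩ : ↥(K ⊓ X.fixed))
      invFun := fun x => ⟨⟨x.1, x.2.1⟩, Subtype.ext x.2.2⟩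
      left_inv := fun _ => rfl
      right_inv := fun _ => rfl }]

/-- An invariant group of order four with a nontrivial fixed element is fixed. -/
theorem fixed_of_four {K : Subgroup T} (hK : ∀ x ∈ K, X.σ x ∈ K) (h4 : Nat.card K ≤ 4)
    {z : T} (hz : z ∈ K) (hz1 : z ≠ 1) (hzf : X.σ z = z) : ∀ x ∈ K, X.σ x = x := by
  haveI := fact_two
  have h := X.card_modEq_fixed hK
  have hd := card_dvd_of_le (inf_le_left : K ⊓ X.fixed ≤ K)
  have h2 : 2 ≤ Nat.card ↥(K ⊓ X.fixed) := by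
    rw [Nat.succ_le_iff, Finite.one_lt_card_iff_nontrivial]
    exact ⟨⟨z, hz, hzf⟩, 1, fun e => hz1 (congrArg Subtype.val e)⟩
  have hle := Nat.le_of_dvd Nat.card_pos hd
  suffices he : Nat.card ↥(K ⊓ X.fixed) = Nat.card K by
    intro x hx
    have := eq_of_le_of_card_ge inf_le_left he.ge
    rw [← this] at hx
    exact hx.2
  obtain ⟨i, hi⟩ := X.card_two_pow (K ⊓ X.fixed)
  obtain ⟨j, hj⟩ := X.card_two_pow K
  rw [hi, hj] at h hle ⊢
  rw [hi] at h2
  rw [hj] at h4
  have hj2 : j ≤ 2 := (Nat.pow_le_pow_iff_right (show 1 < 2 by norm_num)).mp h4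
  have hij : i ≤ j := (Nat.pow_le_pow_iff_right (show 1 < 2 by norm_num)).mp hle
  rcases eq_or_lt_of_le hij with e | e
  · rw [e]
  have hi0 : i ≠ 0 := by rintro rfl; simp at h2
  have : i = 1 ∧ j = 2 := by omega
  obtain ⟨rfl, rfl⟩ := this
  exfalso
  have := (Nat.modEq_iff_dvd' (by norm_num)).mp h.symm
  exact X.p_not_dvd_two_pow 1 (by simpa using this)

theorem D_sq_mem {d : T} (hd : d ∈ X.D) : d * d ∈ X.A := by
  refine X.mem_A fun h hh => ?_
  set c := h⁻¹ * d⁻¹ * h * d with hc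
  have hcA : c ∈ X.A := X.H_comm_mem hh d
  have e : d⁻¹ * h * d = h * c := by rw [hc]; group
  have hd' : d⁻¹ * (h * h) * d = h * h := by
    rw [mul_assoc, X.A_D (X.Hsq h hh) hd, inv_mul_cancel_left]
  have hcc : c * c = 1 := by
    have : h * h * (c * c) = h * h := by
      calc h * h * (c * c) = h * (h * c) * c := by group
        _ = h * (c * h) * c := by rw [X.H_A hh hcA]
        _ = (d⁻¹ * h * d) * (d⁻¹ * h * d) := by rw [e]; group
        _ = d⁻¹ * (h * h) * d := by group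
        _ = h * h := hd'
    exact mul_eq_left.mp this
  have hcd : d⁻¹ * c * d = c := by rw [mul_assoc, X.A_D hcA hd, inv_mul_cancel_left]
  have e2 : (d * d)⁻¹ * h * (d * d) = h := by
    calc (d * d)⁻¹ * h * (d * d) = d⁻¹ * (d⁻¹ * h * d) * d := by group
      _ = d⁻¹ * (h * c) * d := by rw [e]
      _ = (d⁻¹ * h * d) * (d⁻¹ * c * d) := by group
      _ = h * (c * c) := by rw [hcd, e]; group
      _ = h := by rw [hcc, mul_one]
  calc h * (d * d) = d * d * ((d * d)⁻¹ * h * (d * d)) := by group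
    _ = d * d * h := by rw [e2]

theorem sqSub_D : SqSub X.A X.D := ⟨X.A_le_D, fun _ => X.D_sq_mem⟩

theorem comm_mem {d e : T} (hd : d ∈ X.D) (he : e ∈ X.D) : d⁻¹ * e⁻¹ * d * e ∈ X.A :=
  X.sqSub_D.comm_mem hd he

theorem comm_sq {d e : T} (hd : d ∈ X.D) (he : e ∈ X.D) :
    (d⁻¹ * e⁻¹ * d * e) * (d⁻¹ * e⁻¹ * d * e) = 1 := by
  set c := d⁻¹ * e⁻¹ * d * e with hc
  have hcA : c ∈ X.A := X.comm_mem hd he
  have h1 : e⁻¹ * d * e = d * c := by rw [hc]; group
  have h2 : e⁻¹ * (d * d) * e = d * d := by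
    rw [mul_assoc, X.A_D (X.D_sq_mem hd) he, inv_mul_cancel_left]
  suffices h3 : d * d * (c * c) = d * d from mul_eq_left.mp h3
  calc d * d * (c * c) = d * (d * c) * c := by group
    _ = d * (c * d) * c := by rw [X.A_D hcA hd]
    _ = (e⁻¹ * d * e) * (e⁻¹ * d * e) := by rw [h1]; group
    _ = e⁻¹ * (d * d) * e := by group
    _ = d * d := h2

theorem comm_mul_right {d e f : T} (hd : d ∈ X.D) (he : e ∈ X.D) (hf : f ∈ X.D) :
    d⁻¹ * (e * f)⁻¹ * d * (e * f) = (d⁻¹ * e⁻¹ * d * e) * (d⁻¹ * f⁻¹ * d * f) := by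
  have h := X.comm_mem hd he
  calc d⁻¹ * (e * f)⁻¹ * d * (e * f) = (d⁻¹ * f⁻¹ * d) * (d⁻¹ * e⁻¹ * d * e * f) := by group
    _ = (d⁻¹ * f⁻¹ * d) * (f * (d⁻¹ * e⁻¹ * d * e)) := by rw [X.A_D h hf]
    _ = (d⁻¹ * f⁻¹ * d * f) * (d⁻¹ * e⁻¹ * d * e) := by group
    _ = (d⁻¹ * e⁻¹ * d * e) * (d⁻¹ * f⁻¹ * d * f) := (X.A_comm h (X.comm_mem hd hf)).symm

theorem mem_A_of_central_D {x : T} (h : ∀ d ∈ X.D, d * x = x * d) : x ∈ X.A :=
  X.mem_A fun y hy => h y (X.H_le_D hy)

theorem center_le_A : Subgroup.center T ≤ X.A := fun _ hz =>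
  X.mem_A fun y _ => mem_center_iff.mp hz y

theorem noEight : SecRank.NoEight T := by
  classical
  intro E hE h2
  have hcomm : ∀ a ∈ E, ∀ b ∈ E, a * b = b * a := fun a ha b hb => by
    rw [← inv_eq_of_mul_eq_one_right (h2 _ (mul_mem ha hb)), mul_inv_rev,
      inv_eq_of_mul_eq_one_right (h2 a ha), inv_eq_of_mul_eq_one_right (h2 b hb)]
  obtain ⟨a, b, hab⟩ := X.d2 E hE ⟨⟨fun x y => Subtype.ext (hcomm x x.2 y y.2)⟩⟩
  have ha : a ∈ E := hab ▸ subset_closure (Set.mem_insert a _)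
  have hb : b ∈ E := hab ▸ subset_closure (Set.mem_insert_of_mem _ rfl)
  have hba : b * a = a * b := hcomm b hb a ha
  let s : Finset T := {1, a, b, a * b}
  have hs : ∀ x ∈ E, x ∈ s := by
    intro x hx
    rw [← hab] at hx
    induction hx using closure_induction with
    | mem y hy => rcases hy with rfl | rfl <;> simp [s]
    | one => simp [s]
    | mul y z _ _ hy hz =>
      have aa := h2 a ha
      have bb := h2 b hb
      have aab : a * (a * b) = b := by rw [← mul_assoc, aa, one_mul]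
      have bab : b * (a * b) = a := by rw [← mul_assoc, hba, mul_assoc, bb, mul_one]
      have abb : a * b * b = a := by rw [mul_assoc, bb, mul_one]
      have aba : a * b * a = b := by rw [mul_assoc, hba, aab]
      have abab : a * b * (a * b) = 1 := by rw [← mul_assoc, aba, bb]
      simp only [s, Finset.mem_insert, Finset.mem_singleton] at hy hz ⊢
      rcases hy with rfl | rfl | rfl | rfl <;> rcases hz with rfl | rfl | rfl | rfl <;>
        simp [aa, bb, aab, bab, abb, aba, abab, hba]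
    | inv y hy' hy =>
      have : y⁻¹ = y := inv_eq_of_mul_eq_one_right (h2 y (hab ▸ hy'))
      rwa [this]
  calc Nat.card E ≤ Nat.card {x // x ∈ s} :=
        Nat.card_le_card_of_injective (fun x : E => ⟨(x : T), hs x x.2⟩)
          fun x y h => Subtype.ext (by simpa using h)
    _ ≤ 4 := by simpa using Finset.card_le_four

theorem card_omega_le {K : Subgroup T} (hn : K.Normal) (hK : ∀ a ∈ K, ∀ b ∈ K, a * b = b * a) :
    Nat.card (omega K hK) ≤ 4 :=
  X.noEight _ ⟨fun x hx g => ⟨hn.conj_mem x hx.1 g, by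
    rw [show g * x * g⁻¹ * (g * x * g⁻¹) = g * (x * x) * g⁻¹ by group, hx.2, mul_one,
      mul_inv_cancel]⟩⟩ fun _ he => he.2

/-- A normal abelian subgroup has no involution outside a given four-group. -/
theorem no_extra {K : Subgroup T} (hn : K.Normal) (hK : ∀ a ∈ K, ∀ b ∈ K, a * b = b * a)
    {L : Subgroup T} (hL : L ≤ K) (hL2 : ∀ l ∈ L, l * l = 1) (h4 : 4 ≤ Nat.card L)
    {x : T} (hx : x ∈ K) (hx2 : x * x = 1) : x ∈ L := by
  have hle : L ≤ omega K hK := fun l hl => ⟨hL hl, hL2 l hl⟩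
  rw [eq_of_le_of_card_ge hle ((X.card_omega_le hn hK).trans h4)]
  exact ⟨hx, hx2⟩

/-- The solutions of `a * a = 1` in `A`. -/
abbrev Om : Subgroup T := omega X.A fun _ ha _ hb => X.A_comm ha hb

theorem mem_Om {x : T} : x ∈ X.Om ↔ x ∈ X.A ∧ x * x = 1 := Iff.rfl

theorem card_Om_le : Nat.card X.Om ≤ 4 := X.card_omega_le X.normal_A _

theorem σ_Om {x : T} (hx : x ∈ X.Om) : X.σ x ∈ X.Om :=
  ⟨X.σ_A hx.1, by rw [← map_mul, hx.2, map_one]⟩

/-- The image of `A` under `a ↦ a ^ 2 ^ k`. -/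
def pw (k : ℕ) : Subgroup T where
  carrier := {x | ∃ a ∈ X.A, a ^ 2 ^ k = x}
  one_mem' := ⟨1, one_mem _, one_pow _⟩
  mul_mem' := by
    rintro _ _ ⟨a, ha, rfl⟩ ⟨b, hb, rfl⟩
    exact ⟨a * b, mul_mem ha hb, (show Commute a b from X.A_comm ha hb).mul_pow _⟩
  inv_mem' := by
    rintro _ ⟨a, ha, rfl⟩
    exact ⟨a⁻¹, inv_mem ha, inv_pow _ _⟩

theorem pw_le (k : ℕ) : X.pw k ≤ X.A := by
  rintro _ ⟨a, ha, rfl⟩
  exact pow_mem ha _

theorem mem_pw_one {x : T} : x ∈ X.pw 1 ↔ ∃ a ∈ X.A, a * a = x := by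
  simp only [pw, Subgroup.mem_mk, Submonoid.mem_mk, Subsemigroup.mem_mk, Set.mem_ofPred_eq,
    pow_one, pow_two]

theorem pw_conj {k : ℕ} {x : T} (hx : x ∈ X.pw k) (g : T) : g * x * g⁻¹ ∈ X.pw k := by
  obtain ⟨a, ha, rfl⟩ := hx
  exact ⟨g * a * g⁻¹, X.normal_A.conj_mem a ha g, conj_pow⟩

theorem σ_pw {k : ℕ} {x : T} (hx : x ∈ X.pw k) : X.σ x ∈ X.pw k := by
  obtain ⟨a, ha, rfl⟩ := hx
  exact ⟨X.σ a, X.σ_A ha, (map_pow _ _ _).symm⟩

/-- `|A| = |A²| |Ω₁(A)|`. -/
theorem card_A_eq : Nat.card X.A = Nat.card (X.pw 1) * Nat.card X.Om := by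
  let f : X.A →* T :=
    { toFun := fun a => (a : T) * a
      map_one' := one_mul 1
      map_mul' := fun a b => by
        calc (a : T) * b * (a * b) = a * (b * a) * b := by group
          _ = a * a * (b * b) := by rw [← X.A_comm a.2 b.2]; group }
  have h := SecRank.card_split f ⊤
  rw [card_top] at h
  have h1 : Subgroup.map f ⊤ = X.pw 1 := by
    ext x
    rw [mem_pw_one]
    constructor
    · rintro ⟨a, -, rfl⟩; exact ⟨a, a.2, rfl⟩
    · rintro ⟨a, ha, rfl⟩; exact ⟨⟨a, ha⟩, mem_top _, rfl⟩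
  rw [h, h1, top_inf_eq]
  congr 1
  exact Nat.card_congr
    { toFun := fun a => ⟨(a.1 : T), a.1.2, a.2⟩
      invFun := fun a => ⟨⟨a.1, a.2.1⟩, a.2.2⟩
      left_inv := fun _ => rfl
      right_inv := fun _ => rfl }

theorem card_le_sixteen {N K : Subgroup T} (h : SqSub N K) : Nat.card K ≤ 16 * Nat.card N :=
  SecRank.card_le_sixteen_mul_of_noEight X.pT X.noEight h

/-- The number of cosets of `A` in `K`. -/
noncomputable def idx (K : Subgroup T) : ℕ := Nat.card (K.map (QuotientGroup.mk' X.A))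

theorem card_eq_idx {K : Subgroup T} (hK : X.A ≤ K) : Nat.card K = X.idx K * Nat.card X.A := by
  rw [SecRank.card_split (QuotientGroup.mk' X.A) K, QuotientGroup.ker_mk', inf_eq_right.mpr hK]
  rfl

theorem exists_idx (K : Subgroup T) : ∃ k, X.idx K = 2 ^ k := by
  haveI := fact_two
  exact PGroup.card_eq_pow (X.pT.to_quotient X.A) _

theorem idx_D_le : X.idx X.D ≤ 16 := by
  have h := X.card_le_sixteen X.sqSub_D
  rw [X.card_eq_idx X.A_le_D] at h
  exact Nat.le_of_mul_le_mul_right h Nat.card_pos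

theorem idx_mono {K L : Subgroup T} (h : K ≤ L) : X.idx K ≤ X.idx L :=
  card_le_of_le (map_mono h)

theorem one_lt_idx {K : Subgroup T} {x : T} (hx : x ∈ K) (hxA : x ∉ X.A) : 1 < X.idx K := by
  rw [idx, Finite.one_lt_card_iff_nontrivial]
  exact ⟨⟨QuotientGroup.mk' X.A x, mem_map_of_mem _ hx⟩, 1,
    fun e => hxA ((QuotientGroup.eq_one_iff x).mp (congrArg Subtype.val e))⟩

/-- The induced automorphism of `T / A`. -/
noncomputable def σq : MulAut (T ⧸ X.A) :=
  QuotientGroup.congr X.A X.A X.σ (by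
    haveI := X.Hchar
    exact Subgroup.characteristic_iff_map_eq.mp inferInstance X.σ)

theorem σq_mk (x : T) : X.σq (QuotientGroup.mk' X.A x) = QuotientGroup.mk' X.A (X.σ x) := rfl

theorem σq_iter (k : ℕ) (x : T) :
    (⇑X.σq)^[k] (QuotientGroup.mk' X.A x) = QuotientGroup.mk' X.A ((X.σ ^ k) x) := by
  induction k with
  | zero => rfl
  | succ k ih => rw [Function.iterate_succ_apply', ih, σq_mk, pow_succ', MulAut.mul_apply]

/-- Fixed-point-free action on the cosets of `A` in `K`. -/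
def Free (K : Subgroup T) : Prop := ∀ x ∈ K, x⁻¹ * X.σ x ∈ X.A → x ∈ X.A

theorem idx_modEq {K : Subgroup T} (hK : ∀ x ∈ K, X.σ x ∈ K) (hfree : X.Free K) :
    X.idx K ≡ 1 [MOD X.p] := by
  let M := K.map (QuotientGroup.mk' X.A)
  have hM : ∀ y ∈ M, X.σq y ∈ M := by
    rintro _ ⟨x, hx, rfl⟩
    exact ⟨X.σ x, hK x hx, (X.σq_mk x).symm⟩
  let f : M → M := fun y => ⟨X.σq y, hM y y.2⟩
  have hf : ∀ k (y : M), ((f^[k] y : M) : T ⧸ X.A) = (⇑X.σq)^[k] y := by
    intro k
    induction k with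
    | zero => intro y; rfl
    | succ k ih => intro y; rw [Function.iterate_succ_apply', Function.iterate_succ_apply', ← ih]
  have hid : f^[X.p ^ X.m] = id := by
    funext y
    refine Subtype.ext ?_
    obtain ⟨x, hx⟩ := QuotientGroup.mk'_surjective X.A (y : T ⧸ X.A)
    rw [hf, ← hx, X.σq_iter, X.σpow, MulAut.one_apply, hx]; rfl
  have h := modEq_fixed X.hp hid
  have : Unique {y : M // f y = y} :=
    { default := ⟨1, Subtype.ext (map_one X.σq)⟩
      uniq := fun y => by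
        obtain ⟨⟨_, x, hx, rfl⟩, hy⟩ := y
        refine Subtype.ext (Subtype.ext ((QuotientGroup.eq_one_iff x).mpr (hfree x hx ?_)))
        exact QuotientGroup.eq.mp (congrArg Subtype.val hy).symm }
  rwa [Nat.card_unique (α := {y : M // f y = y})] at h

/-- If `σ` acts fixed-point-freely on `p` cosets, it permutes them cyclically. -/
theorem orbit {K : Subgroup T} (hK : ∀ x ∈ K, X.σ x ∈ K) (hfree : X.Free K)
    (hcard : X.idx K = X.p + 1) {x : T} (hx : x ∈ K) (hxA : x ∉ X.A) :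
    (∀ y ∈ K, y ∉ X.A → ∃ i < X.p, y⁻¹ * (X.σ ^ i) x ∈ X.A) ∧
      ∀ i, x⁻¹ * (X.σ ^ i) x ∈ X.A ↔ X.p ∣ i := by
  classical
  set π := QuotientGroup.mk' X.A
  set f : T ⧸ X.A → T ⧸ X.A := ⇑X.σq
  have hit : ∀ i, x⁻¹ * (X.σ ^ i) x ∈ X.A ↔ f^[i] (π x) = π x := fun i => by
    rw [← QuotientGroup.eq, X.σq_iter]
    exact eq_comm
  have hper : Function.IsPeriodicPt f (X.p ^ X.m) (π x) := by
    show f^[_] _ = _
    rw [X.σq_iter, X.σpow]; rfl
  have hd1 : Function.minimalPeriod f (π x) ≠ 1 := fun h => hxA (hfree x hx (by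
    have := (hit 1).mpr (Function.minimalPeriod_eq_one_iff_isFixedPt.mp h)
    simpa using this))
  obtain ⟨j, hjm, hj⟩ := (Nat.dvd_prime_pow X.hp).mp hper.minimalPeriod_dvd
  have hpd : X.p ∣ Function.minimalPeriod f (π x) := by
    rw [hj] at hd1 ⊢
    exact dvd_pow_self _ (by rintro rfl; exact hd1 (pow_zero _))
  set d := Function.minimalPeriod f (π x) with hd
  haveI := Fintype.ofFinite (T ⧸ X.A)
  let S : Finset (T ⧸ X.A) := Finset.univ.filter fun y => y ∈ K.map π ∧ y ≠ 1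
  have hS : S.card = X.p := by
    have h1 : (Finset.univ.filter fun y => y ∈ K.map π).card = X.p + 1 := by
      rw [← hcard, idx, Nat.card_eq_fintype_card, Fintype.card_subtype]
    have h2 : S = (Finset.univ.filter fun y => y ∈ K.map π).erase 1 := by
      ext y; simp [S, and_comm]
    rw [h2, Finset.card_erase_of_mem (by simp only [Finset.mem_filter, Finset.mem_univ, true_and]; exact one_mem _), h1, Nat.add_sub_cancel]
  let R : Finset (T ⧸ X.A) := (Finset.range d).image fun i => f^[i] (π x)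
  have hR : R.card = d := by
    rw [Finset.card_image_of_injOn, Finset.card_range]
    intro a ha b hb hab
    exact Function.iterate_injOn_Iio_minimalPeriod (Finset.mem_range.mp ha) (Finset.mem_range.mp hb) hab
  have hKi : ∀ i, (X.σ ^ i) x ∈ K := by
    intro i
    induction i with
    | zero => exact hx
    | succ i ih => rw [pow_succ', MulAut.mul_apply]; exact hK _ ih
  have hsub : R ⊆ S := by
    intro y hy
    obtain ⟨i, -, rfl⟩ := Finset.mem_image.mp hy
    simp only [S, Finset.mem_filter, Finset.mem_univ, true_and]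
    rw [X.σq_iter]
    refine ⟨mem_map_of_mem _ (hKi i), fun h => hxA ?_⟩
    have h1 : f^[i] (π x) = f^[i] 1 := by
      rw [X.σq_iter, h]; exact (Function.iterate_fixed (map_one X.σq) i).symm
    exact (QuotientGroup.eq_one_iff x).mp (((X.σq).injective.iterate i) h1)
  have hdp : d = X.p := by
    refine le_antisymm ?_ (Nat.le_of_dvd ?_ hpd)
    · rw [← hR, ← hS]; exact Finset.card_le_card hsub
    · exact hper.minimalPeriod_pos (pow_pos X.hp.pos _)
  refine ⟨fun y hy hyA => ?_, fun i => ?_⟩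
  · have heq : R = S := Finset.eq_of_subset_of_card_le hsub (by rw [hR, hS, hdp])
    have : π y ∈ R := by
      rw [heq]
      simp only [S, Finset.mem_filter, Finset.mem_univ, true_and]
      exact ⟨mem_map_of_mem _ hy, fun h => hyA ((QuotientGroup.eq_one_iff y).mp h)⟩
    obtain ⟨i, hi, h⟩ := Finset.mem_image.mp this
    refine ⟨i, hdp ▸ Finset.mem_range.mp hi, ?_⟩
    rw [X.σq_iter] at h
    exact QuotientGroup.eq.mp h.symm
  · rw [hit, ← hdp, hd]
    exact Function.isPeriodicPt_iff_minimalPeriod_dvd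

/-- With at most four cosets of `A`, all nontrivial commutators are equal. -/
theorem comm_unique {K : Subgroup T} (hAK : X.A ≤ K) (hKD : K ≤ X.D) (h4 : X.idx K ≤ 4)
    {x y : T} (hx : x ∈ K) (hy : y ∈ K) (hne : x * y ≠ y * x) {u v : T} (hu : u ∈ K) (hv : v ∈ K) :
    u * v = v * u ∨ u⁻¹ * v⁻¹ * u * v = x⁻¹ * y⁻¹ * x * y := by
  classical
  set π := QuotientGroup.mk' X.A
  have hA : ∀ {w : T}, π w = 1 → w ∈ X.A := fun h => (QuotientGroup.eq_one_iff _).mp h
  have hxA : x ∉ X.A := fun h => hne (X.A_D h (hKD hy))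
  have hyA : y ∉ X.A := fun h => hne (X.A_D h (hKD hx)).symm
  have hxyne : π x ≠ π y := fun h => by
    obtain ⟨a, ha, rfl⟩ : ∃ a ∈ X.A, y = x * a := ⟨x⁻¹ * y, QuotientGroup.eq.mp h, by group⟩
    exact hne (by rw [mul_assoc x a x, X.A_D ha (hKD hx)])
  have hp1 : π (x * y) ≠ 1 := fun h => hxyne (by
    have hx2 : π (x * x) = 1 := (QuotientGroup.eq_one_iff _).mpr (X.D_sq_mem (hKD hx))
    rw [map_mul] at hx2 h
    exact mul_left_cancel (hx2.trans h.symm))
  let M := K.map π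
  haveI := Fintype.ofFinite M
  let s : Finset M := {1, ⟨π x, mem_map_of_mem _ hx⟩, ⟨π y, mem_map_of_mem _ hy⟩,
    ⟨π (x * y), mem_map_of_mem _ (mul_mem hx hy)⟩}
  have hs : s.card = 4 := by
    have px : π x ≠ 1 := fun h => hxA (hA h)
    have py : π y ≠ 1 := fun h => hyA (hA h)
    have pxy : π x * π y ≠ 1 := by rw [← map_mul]; exact hp1
    simp only [s]
    repeat rw [Finset.card_insert_of_notMem]
    · simp
    all_goals simp [Subtype.ext_iff, px, px.symm, py, py.symm, pxy.symm, hxyne]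
  have hall : s = Finset.univ := by
    refine Finset.eq_univ_of_card s (le_antisymm (Finset.card_le_univ s) ?_)
    rw [hs, ← Nat.card_eq_fintype_card]; exact h4
  have cov : ∀ w ∈ K, ∃ r, (r = 1 ∨ r = x ∨ r = y ∨ r = x * y) ∧ ∃ a ∈ X.A, w = r * a := by
    intro w hw
    have hm : (⟨π w, mem_map_of_mem _ hw⟩ : M) ∈ s := hall ▸ Finset.mem_univ _
    simp only [s, Finset.mem_insert, Finset.mem_singleton, Subtype.ext_iff] at hm
    have mk : ∀ r, π w = π r → ∃ a ∈ X.A, w = r * a := fun r h =>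
      ⟨r⁻¹ * w, QuotientGroup.eq.mp h.symm, by group⟩
    rcases hm with h | h | h | h
    · exact ⟨1, Or.inl rfl, mk 1 (by rw [map_one]; exact h)⟩
    · exact ⟨x, Or.inr (Or.inl rfl), mk x h⟩
    · exact ⟨y, Or.inr (Or.inr (Or.inl rfl)), mk y h⟩
    · exact ⟨x * y, Or.inr (Or.inr (Or.inr rfl)), mk _ h⟩
  obtain ⟨r, hr, a, ha, rfl⟩ := cov u hu
  obtain ⟨r', hr', b, hb, rfl⟩ := cov v hv
  have hrD : ∀ r, (r = 1 ∨ r = x ∨ r = y ∨ r = x * y) → r ∈ X.D := by
    rintro r (rfl | rfl | rfl | rfl)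
    exacts [one_mem _, hKD hx, hKD hy, mul_mem (hKD hx) (hKD hy)]
  have key : (r * a)⁻¹ * (r' * b)⁻¹ * (r * a) * (r' * b) = r⁻¹ * r'⁻¹ * r * r' := by
    have hr'b : r' * b ∈ X.D := mul_mem (hrD _ hr') (X.A_le_D hb)
    calc (r * a)⁻¹ * (r' * b)⁻¹ * (r * a) * (r' * b)
        = a⁻¹ * (r⁻¹ * (r' * b)⁻¹ * r) * (a * (r' * b)) := by group
      _ = a⁻¹ * (r⁻¹ * (r' * b)⁻¹ * r * (r' * b)) * a := by rw [X.A_D ha hr'b]; group
      _ = r⁻¹ * (r' * b)⁻¹ * r * (r' * b) := by
          rw [mul_assoc, X.A_comm (X.comm_mem (hrD _ hr) hr'b) ha, inv_mul_cancel_left]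
      _ = (r⁻¹ * r'⁻¹ * r * r') * (r⁻¹ * b⁻¹ * r * b) :=
          X.comm_mul_right (hrD _ hr) (hrD _ hr') (X.A_le_D hb)
      _ = r⁻¹ * r'⁻¹ * r * r' := by
          rw [mul_assoc r⁻¹ b⁻¹ r, X.A_D (inv_mem hb) (hrD _ hr)]; group
  rw [key]
  by_cases hc : r⁻¹ * r'⁻¹ * r * r' = 1
  · left
    have h2 := key.trans hc
    calc r * a * (r' * b) = r' * b * (r * a) * ((r * a)⁻¹ * (r' * b)⁻¹ * (r * a) * (r' * b)) := by group
      _ = _ := by rw [h2, mul_one]
  right
  have hsw := comm_swap (X.comm_sq (hKD hx) (hKD hy))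
  have xself : x⁻¹ * x⁻¹ * x * x = 1 := by group
  have yself : y⁻¹ * y⁻¹ * y * y = 1 := by group
  have e1 : x⁻¹ * (x * y)⁻¹ * x * (x * y) = x⁻¹ * y⁻¹ * x * y := by
    rw [X.comm_mul_right (hKD hx) (hKD hx) (hKD hy), xself, one_mul]
  have e2 : y⁻¹ * (x * y)⁻¹ * y * (x * y) = x⁻¹ * y⁻¹ * x * y := by
    rw [X.comm_mul_right (hKD hy) (hKD hx) (hKD hy), yself, mul_one, hsw]
  have e1' : (x * y)⁻¹ * x⁻¹ * (x * y) * x = x⁻¹ * y⁻¹ * x * y := by
    rw [comm_swap (X.comm_sq (hKD hx) (mul_mem (hKD hx) (hKD hy))), e1]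
  have e2' : (x * y)⁻¹ * y⁻¹ * (x * y) * y = x⁻¹ * y⁻¹ * x * y := by
    rw [comm_swap (X.comm_sq (hKD hy) (mul_mem (hKD hx) (hKD hy))), e2]
  rcases hr with rfl | rfl | rfl | rfl <;> rcases hr' with rfl | rfl | rfl | rfl
  all_goals first
    | rfl | exact hsw | exact e1 | exact e2 | exact e1' | exact e2'
    | exact absurd (by group) hc

end Ctx

end Cfsg.Agent.NormalRankTwo
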