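import Cfsg.Agent.Lib.NormalRankTwo.Basic
import Cfsg.Prelude.Def_EvenTechniques

/-!
# Normal rank two: the odd automorphism fixes all central involutions
-/

set_option autoImplicit false
set_option linter.style.haveILetI false

namespace Cfsg.Agent.NormalRankTwo

open Subgroup
open SecRank (SqSub)

universe u

variable {T : Type u} [Group T] [Finite T]

/-- The properties of `Q₈ * T₀` used in the fusion argument. -/
structure FixedShape (T : Type u) [Group T] where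
  z : T
  T0 : Subgroup T
  zc : z ∈ Subgroup.center T
  z1 : z ≠ 1
  z2 : z * z = 1
  sq : ∀ y, y * y ∈ T0
  outside : ∀ x, x ∉ T0 → ∃ u, u * u = z ∧ u * x = x * u
  quat : ∀ v ∈ T0, ∃ q r, q * v = v * q ∧ r * v = v * r ∧ q⁻¹ * r⁻¹ * q * r = z
  comm : ∀ x y : T, (x⁻¹ * y⁻¹ * x * y) * (x⁻¹ * y⁻¹ * x * y) = 1 →
    x⁻¹ * y⁻¹ * x * y ∈ Subgroup.center T

omit [Finite T] in
/-- A subgroup generated by commuting elements is commutative. -/
theorem closure_comm {s : Set T} (h : ∀ a ∈ s, ∀ b ∈ s, a * b = b * a) :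
    ∀ x ∈ closure s, ∀ y ∈ closure s, x * y = y * x := by
  have h1 : closure s ≤ centralizer s :=
    (closure_le _).mpr fun a ha => mem_centralizer_iff.mpr fun b hb => h b hb a ha
  have h2 : closure s ≤ centralizer (closure s : Set T) := by
    rw [closure_le]
    intro a ha
    refine mem_centralizer_iff.mpr fun b hb => ?_
    exact (mem_centralizer_iff.mp (h1 hb) a ha).symm
  exact fun x hx y hy => (mem_centralizer_iff.mp (h2 hx) y hy).symm

namespace Ctx

variable (X : Ctx T)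

include X

theorem exists_central_involution : ∃ z ∈ Subgroup.center T, z ≠ 1 ∧ z * z = 1 := by
  haveI := fact_two
  have hne : (⊤ : Subgroup T) ≠ ⊥ := fun h => X.σne (MulEquiv.ext fun x => by
    have : x = 1 := mem_bot.mp (h ▸ mem_top x)
    rw [this, map_one, map_one])
  obtain ⟨z, -, hz, ho⟩ := PGroup.exists_orderOf_eq_mem_center X.pT ⊤ hne
  refine ⟨z, hz, fun h => ?_, ?_⟩
  · rw [h, orderOf_one] at ho; omega
  · rw [← pow_two, ← ho, pow_orderOf_eq_one]

theorem idx_two {K : Subgroup T} (h : X.idx K ≤ 2) {x y : T} (hx : x ∈ K) (hy : y ∈ K)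
    (hxA : x ∉ X.A) (hyA : y ∉ X.A) : x⁻¹ * y ∈ X.A := by
  classical
  by_contra hne
  set π := QuotientGroup.mk' X.A
  have px : π x ≠ 1 := fun e => hxA ((QuotientGroup.eq_one_iff x).mp e)
  have py : π y ≠ 1 := fun e => hyA ((QuotientGroup.eq_one_iff y).mp e)
  have pxy : π x ≠ π y := fun e => hne (QuotientGroup.eq.mp e)
  haveI := Fintype.ofFinite (K.map π)
  let s : Finset (K.map π) := {1, ⟨π x, mem_map_of_mem _ hx⟩, ⟨π y, mem_map_of_mem _ hy⟩}
  have hs : s.card = 3 := by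
    simp only [s]
    repeat rw [Finset.card_insert_of_notMem]
    · simp
    all_goals simp [Subtype.ext_iff, px.symm, py.symm, pxy]
  have := Finset.card_le_univ s
  rw [hs, ← Nat.card_eq_fintype_card] at this
  exact absurd (this.trans h) (by norm_num)

variable (hfix : ∀ z ∈ Subgroup.center T, z * z = 1 → X.σ z = z)

include hfix

theorem fix_Om : ∀ w ∈ X.Om, X.σ w = w := by
  obtain ⟨z, hzc, hz1, hz2⟩ := X.exists_central_involution
  exact X.fixed_of_four (fun _ => X.σ_Om) X.card_Om_le ⟨X.center_le_A hzc, hz2⟩ hz1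
    (hfix z hzc hz2)

theorem fix_A {a : T} (ha : a ∈ X.A) : X.σ a = a := by
  haveI := fact_two
  obtain ⟨k, hk⟩ := IsPGroup.iff_orderOf.mp X.pT a
  have hk' : a ^ 2 ^ k = 1 := by rw [← hk, pow_orderOf_eq_one]
  clear hk
  induction k generalizing a with
  | zero => simp at hk'; subst hk'; exact map_one _
  | succ k ih =>
    have h2 : X.σ (a * a) = a * a := ih (mul_mem ha ha) (by
      rw [← pow_two, ← pow_mul, ← pow_succ']; exact hk')
    set c := a⁻¹ * X.σ a with hc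
    have hcA : c ∈ X.A := mul_mem (inv_mem ha) (X.σ_A ha)
    refine X.stab_inv_mul (X.fix_Om hfix c ⟨hcA, ?_⟩)
    calc c * c = a⁻¹ * (X.σ a * a⁻¹) * X.σ a := by rw [hc]; group
      _ = a⁻¹ * (a⁻¹ * X.σ a) * X.σ a := by rw [X.A_comm (X.σ_A ha) (inv_mem ha)]
      _ = (a * a)⁻¹ * (X.σ a * X.σ a) := by group
      _ = 1 := by rw [← map_mul, h2, inv_mul_cancel]

theorem diff_mem_D (t : T) : t⁻¹ * X.σ t ∈ X.D := by
  refine mem_centralizer_iff.mpr fun a ha => ?_
  have h1 : t * a * t⁻¹ ∈ X.A := X.normal_A.conj_mem a ha t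
  have h2 : X.σ t * a * (X.σ t)⁻¹ = t * a * t⁻¹ := by
    have := X.fix_A hfix h1
    rwa [map_mul, map_mul, map_inv, X.fix_A hfix ha] at this
  calc a * (t⁻¹ * X.σ t) = t⁻¹ * (t * a * t⁻¹) * X.σ t := by group
    _ = t⁻¹ * (X.σ t * a * (X.σ t)⁻¹) * X.σ t := by rw [h2]
    _ = t⁻¹ * X.σ t * a := by group

theorem exists_decomp (t : T) : ∃ s ∈ X.fixed, ∃ d ∈ X.D, t = s * d := by
  obtain ⟨n, hn, hf⟩ := X.exists_fixed_mul (fun _ => X.σ_D) (X.diff_mem_D hfix t)
  exact ⟨t * n, hf, n⁻¹, inv_mem hn, by group⟩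

omit hfix in
theorem diff_mem {d : T} (hd : d ∈ X.D) : d⁻¹ * X.σ d ∈ X.D := mul_mem (inv_mem hd) (X.σ_D hd)

omit hfix in
/-- The subgroup generated by `A` and all `d⁻¹ σ(d)`. -/
def moved : Subgroup T where
  carrier := {x | ∃ d ∈ X.D, ∃ a ∈ X.A, x = d⁻¹ * X.σ d * a}
  one_mem' := ⟨1, one_mem _, 1, one_mem _, by simp⟩
  mul_mem' := by
    rintro x y ⟨d, hd, a, ha, rfl⟩ ⟨e, he, b, hb, rfl⟩
    set m := d⁻¹ * X.σ d with hm
    have hmD : m ∈ X.D := X.diff_mem hd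
    set n := e⁻¹ * X.σ e with hn
    have hnD : n ∈ X.D := X.diff_mem he
    set c := m⁻¹ * e⁻¹ * m * e with hc
    have hcA : c ∈ X.A := X.comm_mem hmD he
    refine ⟨d * e, mul_mem hd he, c⁻¹ * (a * b), mul_mem (inv_mem hcA) (mul_mem ha hb), ?_⟩
    have e1 : (d * e)⁻¹ * X.σ (d * e) = m * (c * n) := by
      rw [map_mul, hc, hm, hn]; group
    rw [e1, X.A_D hcA hnD]
    calc m * a * (n * b) = m * (a * n) * b := by group
      _ = m * (n * a) * b := by rw [X.A_D ha hnD]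
      _ = m * (n * c) * (c⁻¹ * (a * b)) := by group
  inv_mem' := by
    rintro x ⟨d, hd, a, ha, rfl⟩
    set m := d⁻¹ * X.σ d with hm
    have hmD : m ∈ X.D := X.diff_mem hd
    have hcA : d * m * d⁻¹ * m⁻¹ ∈ X.A := by
      simpa using X.comm_mem (inv_mem hd) (inv_mem hmD)
    refine ⟨d⁻¹, inv_mem hd, d * m * d⁻¹ * m⁻¹ * a⁻¹, mul_mem hcA (inv_mem ha), ?_⟩
    rw [mul_inv_rev, X.A_D (inv_mem ha) (inv_mem hmD), map_inv, hm]
    group

omit hfix in
theorem A_le_moved : X.A ≤ X.moved := fun a ha => ⟨1, one_mem _, a, ha, by simp⟩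

omit hfix in
theorem moved_le : X.moved ≤ X.D := by
  rintro x ⟨d, hd, a, ha, rfl⟩
  exact mul_mem (X.diff_mem hd) (X.A_le_D ha)

omit hfix in
theorem diff_mem_moved {d : T} (hd : d ∈ X.D) : d⁻¹ * X.σ d ∈ X.moved :=
  ⟨d, hd, 1, one_mem _, (mul_one _).symm⟩

omit hfix in
theorem σ_moved : ∀ x ∈ X.moved, X.σ x ∈ X.moved := by
  rintro x ⟨d, hd, a, ha, rfl⟩
  exact ⟨X.σ d, X.σ_D hd, X.σ a, X.σ_A ha, by rw [map_mul, map_mul, map_inv]⟩

theorem fixed_moved {x : T} (hx : x ∈ X.moved) (h : X.σ x = x) : x ∈ X.A := by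
  obtain ⟨d, hd, a, ha, rfl⟩ := hx
  rw [map_mul, X.fix_A hfix ha] at h
  have h1 := X.stab_inv_mul (mul_right_cancel h)
  rw [h1, inv_mul_cancel, one_mul]
  exact ha

theorem free_moved : X.Free X.moved := fun x hx h =>
  X.fixed_moved hfix hx (X.stab_inv_mul (X.fix_A hfix h))

omit hfix in
/-- The fixed points in `D`. -/
abbrev C1 : Subgroup T := X.D ⊓ X.fixed

theorem A_le_C1 : X.A ≤ X.C1 := fun _ ha => ⟨X.A_le_D ha, X.fix_A hfix ha⟩

theorem C1_moved {c m : T} (hc : c ∈ X.C1) (hm : m ∈ X.moved) : c * m = m * c := by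
  obtain ⟨d, hd, a, ha, rfl⟩ := hm
  set n := d⁻¹ * X.σ d with hn
  have hnD : n ∈ X.D := X.diff_mem hd
  have h1 := X.comm_mul_right hc.1 hd hnD
  rw [show d * n = X.σ d by rw [hn]; group] at h1
  have h2 : X.σ (c⁻¹ * d⁻¹ * c * d) = c⁻¹ * (X.σ d)⁻¹ * c * X.σ d := by
    rw [map_mul, map_mul, map_mul, map_inv, map_inv, (show X.σ c = c from hc.2)]
  rw [← h2, X.fix_A hfix (X.comm_mem hc.1 hd), left_eq_mul] at h1
  have h3 : c * n = n * c := by
    calc c * n = n * c * (c⁻¹ * n⁻¹ * c * n) := by group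
      _ = n * c := by rw [h1, mul_one]
  calc c * (n * a) = n * (c * a) := by rw [← mul_assoc, h3, mul_assoc]
    _ = n * a * c := by rw [mul_assoc n a c, X.A_D ha hc.1]

theorem C1_mul_moved {d : T} (hd : d ∈ X.D) : ∃ c ∈ X.C1, ∃ m ∈ X.moved, d = c * m := by
  obtain ⟨n, hn, hf⟩ := X.exists_fixed_mul X.σ_moved (X.diff_mem_moved hd)
  exact ⟨d * n, ⟨mul_mem hd (X.moved_le hn), hf⟩, n⁻¹, inv_mem hn, by group⟩

theorem eq_A_of_central {x : T} (hx : x ∈ X.C1) (h : ∀ c ∈ X.C1, c * x = x * c) : x ∈ X.A :=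
  X.mem_A_of_central_D fun d hd => by
    obtain ⟨c, hc, m, hm, rfl⟩ := X.C1_mul_moved hfix hd
    rw [mul_assoc, ← X.C1_moved hfix hx hm, ← mul_assoc, h c hc, mul_assoc]

theorem idx_mul : X.idx X.C1 * X.idx X.moved = X.idx X.D := by
  unfold idx
  rw [← Nat.card_prod]
  set π := QuotientGroup.mk' X.A
  refine Nat.card_congr (Equiv.ofBijective
    (fun y : (X.C1.map π) × (X.moved.map π) =>
      (⟨y.1.1 * y.2.1, mul_mem (map_mono inf_le_left y.1.2) (map_mono X.moved_le y.2.2)⟩ : X.D.map π))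
    ⟨?_, ?_⟩)
  · rintro ⟨⟨_, c, hc, rfl⟩, ⟨_, m, hm, rfl⟩⟩ ⟨⟨_, c', hc', rfl⟩, ⟨_, m', hm', rfl⟩⟩ h
    have h1 : π (c * m) = π (c' * m') := by
      rw [map_mul, map_mul]; exact congrArg Subtype.val h
    have h2 : (c * m)⁻¹ * (c' * m') ∈ X.A := QuotientGroup.eq.mp h1
    have h3 : c⁻¹ * c' ∈ X.moved := by
      have e : c⁻¹ * c' = m * ((c * m)⁻¹ * (c' * m')) * m'⁻¹ := by group
      rw [e]
      exact mul_mem (mul_mem hm (X.A_le_moved h2)) (inv_mem hm')
    have h4 : c⁻¹ * c' ∈ X.A := X.fixed_moved hfix h3 (mul_mem (inv_mem hc) hc').2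
    have h5 : π c = π c' := QuotientGroup.eq.mpr h4
    rw [map_mul, map_mul, h5] at h1
    have h6 : π m = π m' := mul_left_cancel h1
    exact Prod.ext (Subtype.ext h5) (Subtype.ext h6)
  · rintro ⟨_, d, hd, rfl⟩
    obtain ⟨c, hc, m, hm, rfl⟩ := X.C1_mul_moved hfix hd
    exact ⟨⟨⟨π c, mem_map_of_mem _ hc⟩, ⟨π m, mem_map_of_mem _ hm⟩⟩,
      Subtype.ext (map_mul π c m).symm⟩

theorem idx_moved_gt : 1 < X.idx X.moved := by
  obtain ⟨h, hh, hne⟩ := X.exists_moved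
  refine X.one_lt_idx (X.diff_mem_moved (X.H_le_D hh)) fun hA => hne ?_
  exact X.stab_inv_mul (X.fix_A hfix hA)

theorem idx_C1_ne_two : X.idx X.C1 ≠ 2 := by
  intro h2
  have h1 : X.idx X.A < X.idx X.C1 := by
    have := X.card_eq_idx (le_refl X.A)
    rw [h2]
    have : X.idx X.A = 1 := (mul_eq_right₀ Nat.card_pos.ne').mp this.symm
    omega
  obtain ⟨x, hx, hxA⟩ := SetLike.not_le_iff_exists.mp fun hle : X.C1 ≤ X.A =>
    absurd (X.idx_mono hle) (not_le.mpr h1)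
  refine hxA (X.eq_A_of_central hfix hx fun c hc => ?_)
  by_cases hcA : c ∈ X.A
  · exact X.A_D hcA hx.1
  · obtain ⟨a, ha, rfl⟩ : ∃ a ∈ X.A, c = x * a := ⟨_, X.idx_two h2.le hx hc hxA hcA, by group⟩
    rw [mul_assoc, X.A_D ha hx.1]

theorem no_eight_moved (h8 : X.idx X.moved = 8) : False := by
  classical
  have hp : X.p = 7 := by
    have h := X.idx_modEq X.σ_moved (X.free_moved hfix)
    rw [h8] at h
    have h' : X.p ∣ 7 := (Nat.modEq_iff_dvd' (by norm_num)).mp h.symm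
    exact (Nat.prime_dvd_prime_iff_eq X.hp (by norm_num)).mp h'
  obtain ⟨x, hx, hxA⟩ := SetLike.not_le_iff_exists.mp fun hle : X.moved ≤ X.A => by
    have h1 := X.idx_mono hle
    have h2 := X.card_eq_idx (le_refl X.A)
    have : X.idx X.A = 1 := (mul_eq_right₀ Nat.card_pos.ne').mp h2.symm
    omega
  obtain ⟨horb, hper⟩ := X.orbit X.σ_moved (X.free_moved hfix) (by omega) hx hxA
  set π := QuotientGroup.mk' X.A
  have hxD := X.moved_le hx
  have pcomm : ∀ {u v : T}, u ∈ X.D → v ∈ X.D → π u * π v = π v * π u := fun {u v} hu hv => by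
    rw [← map_mul, ← map_mul]
    exact QuotientGroup.eq.mpr (by
      have := X.comm_mem hv hu
      have e : (u * v)⁻¹ * (v * u) = v⁻¹ * u⁻¹ * v * u := by group
      rw [e]; exact this)
  have psq : ∀ {u : T}, u ∈ X.D → π u * π u = 1 := fun hu => by
    rw [← map_mul]; exact (QuotientGroup.eq_one_iff _).mpr (X.D_sq_mem hu)
  have hs : ∀ i, (X.σ ^ i) x ∈ X.moved := by
    intro i
    induction i with
    | zero => exact hx
    | succ i ih => rw [pow_succ', MulAut.mul_apply]; exact X.σ_moved _ ih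
  have hsadd : ∀ i j, (X.σ ^ (i + j)) x = (X.σ ^ i) ((X.σ ^ j) x) := fun i j => by
    rw [pow_add, MulAut.mul_apply]
  have hfixA : ∀ i {a : T}, a ∈ X.A → (X.σ ^ i) a = a := by
    intro i a ha
    induction i with
    | zero => rfl
    | succ i ih => rw [pow_succ', MulAut.mul_apply, ih, X.fix_A hfix ha]
  have hlift : ∀ i {u v : T}, π u = π v → π ((X.σ ^ i) u) = π ((X.σ ^ i) v) := by
    intro i u v h
    rw [← X.σq_iter, ← X.σq_iter, h]
  have h7 : π ((X.σ ^ 7) x) = π x := (QuotientGroup.eq.mpr ((hper 7).mpr (by rw [hp]))).symm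
  have hne : ∀ i, π ((X.σ ^ i) x) = π x → 7 ∣ i := fun i h => hp ▸ (hper i).mp (QuotientGroup.eq.mp h.symm)
  have flip : ∀ y ∈ X.moved, y ∉ X.A → π y ≠ π x → ∃ w ∈ X.moved,
      x⁻¹ * w⁻¹ * x * w = x⁻¹ * y⁻¹ * x * y ∧ π w ≠ 1 ∧ π w ≠ π x ∧ π w ≠ π y ∧
        π w ≠ π x * π y := by
    intro y hy hyA hyx
    obtain ⟨i, hi, hiy⟩ := horb y hy hyA
    rw [hp] at hi
    have hi0 : i ≠ 0 := by
      rintro rfl
      exact hyx (QuotientGroup.eq.mpr (by simpa using hiy))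
    have hyi : π ((X.σ ^ i) x) = π y := (QuotientGroup.eq.mpr hiy).symm
    obtain ⟨j, hij⟩ : ∃ j, i + j = 7 := ⟨7 - i, by omega⟩
    refine ⟨(X.σ ^ j) x, hs j, ?_, ?_, ?_, ?_, ?_⟩
    · have hjD := X.moved_le (hs j)
      have hiD := X.moved_le (hs i)
      set c := x⁻¹ * ((X.σ ^ j) x)⁻¹ * x * (X.σ ^ j) x with hc
      have h1 := hfixA i (X.comm_mem hxD hjD)
      rw [map_mul, map_mul, map_mul, map_inv, map_inv, ← hsadd, hij] at h1
      obtain ⟨a, ha, h7'⟩ : ∃ a ∈ X.A, (X.σ ^ 7) x = x * a :=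
        ⟨_, (hper 7).mpr (by rw [hp]), (mul_inv_cancel_left _ _).symm⟩
      obtain ⟨b, hb, hy'⟩ : ∃ b ∈ X.A, y = (X.σ ^ i) x * b :=
        ⟨_, QuotientGroup.eq.mp hyi, (mul_inv_cancel_left _ _).symm⟩
      rw [hy', X.comm_mul_right hxD hiD (X.A_le_D hb),
        show x⁻¹ * b⁻¹ * x * b = 1 by rw [mul_assoc x⁻¹, X.A_D (inv_mem hb) hxD]; group, mul_one,
        ← comm_swap (X.comm_sq hxD hiD), hc, ← h1, h7',
        X.comm_mul_right hiD hxD (X.A_le_D ha),
        show ((X.σ ^ i) x)⁻¹ * a⁻¹ * (X.σ ^ i) x * a = 1 by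
          rw [mul_assoc ((X.σ ^ i) x)⁻¹, X.A_D (inv_mem ha) hiD]; group,
        mul_one]
    · intro h
      refine hxA ?_
      have := hlift i (h.trans (map_one π).symm)
      rw [← hsadd, hij, h7, map_one] at this
      exact (QuotientGroup.eq_one_iff x).mp (this.trans (map_one π))
    · intro h
      have := hne j h
      omega
    · intro h
      have := hlift i (h.trans hyi.symm)
      rw [← hsadd, ← hsadd, hij, h7] at this
      have := hne (i + i) this.symm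
      omega
    · intro h
      have h1 := hlift i (v := x * (X.σ ^ i) x) (h.trans (by rw [map_mul, hyi]))
      rw [← hsadd, hij, h7, map_mul, map_mul, ← hsadd, hyi] at h1
      have hii := X.moved_le (hs (i + i))
      have h2 : π ((X.σ ^ (i + i)) x) = π ((X.σ ^ j) x) := by
        rw [h, h1, mul_assoc, pcomm hii (X.moved_le hy), ← mul_assoc, psq (X.moved_le hy), one_mul]
      have h3 := hlift i h2
      rw [← hsadd, ← hsadd, hij, h7] at h3
      have := hne (i + (i + i)) h3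
      omega
  let K : Subgroup T := X.moved ⊓ centralizer ({x} : Set T)
  have hcomm : ∀ {u v : T}, u ∈ X.D → v ∈ X.D →
      x⁻¹ * u⁻¹ * x * u = x⁻¹ * v⁻¹ * x * v → v⁻¹ * u * x = x * (v⁻¹ * u) := by
    intro u v hu hv h
    have h1 := X.comm_mul_right hxD hv (mul_mem (inv_mem hv) hu)
    rw [mul_inv_cancel_left, h, left_eq_mul] at h1
    calc v⁻¹ * u * x = v⁻¹ * u * x * (x⁻¹ * (v⁻¹ * u)⁻¹ * x * (v⁻¹ * u)) := by rw [h1, mul_one]
      _ = x * (v⁻¹ * u) := by group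
  obtain ⟨y, hy, hyA, hyx⟩ : ∃ y ∈ X.moved, y ∉ X.A ∧ π y ≠ π x := by
    refine ⟨X.σ x, X.σ_moved x hx, fun h => hxA ?_, fun h => ?_⟩
    · exact X.σ.injective (X.fix_A hfix h) ▸ h
    · have := hne 1 (by rwa [pow_one])
      omega
  obtain ⟨w, hw, hwc, hw1, hwx, hwy, hwxy⟩ := flip y hy hyA hyx
  set k := y⁻¹ * w with hk
  have hkK : k ∈ K := ⟨(show k ∈ X.moved from mul_mem (inv_mem hy) hw),
    mem_centralizer_singleton_iff.mpr (hcomm (X.moved_le hw) (X.moved_le hy) hwc)⟩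
  have pyi : π y⁻¹ = π y := by rw [map_inv]; exact inv_eq_of_mul_eq_one_right (psq (X.moved_le hy))
  have hk1 : π k ≠ 1 := fun h => hwy (by
    rw [hk, map_mul, pyi] at h
    exact mul_left_cancel (h.trans (psq (X.moved_le hy)).symm))
  have hkx : π k ≠ π x := fun h => hwxy (by
    rw [hk, map_mul, pyi] at h
    rw [← h, mul_assoc, pcomm (X.moved_le hw) (X.moved_le hy), ← mul_assoc, psq (X.moved_le hy),
      one_mul])
  obtain ⟨w', hw', hw'c, hw'1, hw'x, hw'k, hw'xk⟩ := flip k hkK.1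
    (fun h => hk1 ((QuotientGroup.eq_one_iff k).mpr h)) hkx
  have hkc : x⁻¹ * k⁻¹ * x * k = 1 := by
    have := mem_centralizer_singleton_iff.mp hkK.2
    rw [mul_assoc, ← this]; group
  have hw'K : w' ∈ K := ⟨hw', mem_centralizer_singleton_iff.mpr (by
    have h1 : x⁻¹ * (1 : T)⁻¹ * x * 1 = 1 := by group
    simpa using hcomm (X.moved_le hw') (one_mem _) ((hw'c.trans hkc).trans h1.symm))⟩
  have hxK : x ∈ K := ⟨hx, mem_centralizer_singleton_iff.mpr rfl⟩
  have h5 : 5 ≤ X.idx K := by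
    haveI := Fintype.ofFinite (K.map π)
    let s : Finset (K.map π) := {1, ⟨π x, mem_map_of_mem _ hxK⟩, ⟨π k, mem_map_of_mem _ hkK⟩,
      ⟨π x * π k, mul_mem (mem_map_of_mem _ hxK) (mem_map_of_mem _ hkK)⟩,
      ⟨π w', mem_map_of_mem _ hw'K⟩}
    have hs5 : s.card = 5 := by
      have px : π x ≠ 1 := fun e => hxA ((QuotientGroup.eq_one_iff x).mp e)
      have pxk : π x * π k ≠ 1 := fun e => hkx (mul_left_cancel ((psq hxD).trans e.symm)).symm
      simp only [s]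
      repeat rw [Finset.card_insert_of_notMem]
      · simp
      all_goals simp [Subtype.ext_iff, px, px.symm, hk1, hk1.symm, hkx, hkx.symm, pxk.symm,
        hw'1.symm, hw'x.symm, hw'k.symm, hw'xk.symm]
    have := Finset.card_le_univ s
    rwa [hs5, ← Nat.card_eq_fintype_card] at this
  have hle := X.idx_mono (inf_le_left : K ≤ X.moved)
  obtain ⟨e, he⟩ := X.exists_idx K
  have he3 : e = 3 := by
    rw [h8] at hle
    have h1 : e ≤ 3 := (Nat.pow_le_pow_iff_right (show 1 < 2 by norm_num)).mp (he ▸ hle)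
    interval_cases e <;> omega
  have hAK : X.A ≤ K := fun a ha => ⟨X.A_le_moved ha,
    mem_centralizer_singleton_iff.mpr (X.A_D ha hxD)⟩
  have hKM : K = X.moved := by
    refine eq_of_le_of_card_ge inf_le_left ?_
    rw [X.card_eq_idx X.A_le_moved, X.card_eq_idx hAK, h8, he, he3]
    norm_num
  refine hxA (X.mem_A_of_central_D fun d hd => ?_)
  obtain ⟨c, hc, m, hm, rfl⟩ := X.C1_mul_moved hfix hd
  have hmx := mem_centralizer_singleton_iff.mp (show m ∈ K from hKM.symm ▸ hm).2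
  rw [mul_assoc, hmx, ← mul_assoc, X.C1_moved hfix hc hx, mul_assoc]

theorem sq_eq_one_of_sixteen (h16 : X.idx X.moved = 16) : ∀ a ∈ X.A, a * a = 1 := by
  haveI := fact_two
  let N : Subgroup T :=
    { carrier := {x | ∃ a ∈ X.A, ∃ w ∈ X.Om, x = a * a * w}
      one_mem' := ⟨1, one_mem _, 1, one_mem _, by simp⟩
      mul_mem' := by
        rintro _ _ ⟨a, ha, w, hw, rfl⟩ ⟨b, hb, v, hv, rfl⟩
        refine ⟨a * b, mul_mem ha hb, w * v, mul_mem hw hv, ?_⟩
        calc a * a * w * (b * b * v) = a * a * (w * (b * b)) * v := by group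
          _ = a * a * (b * b * w) * v := by rw [X.A_comm hw.1 (mul_mem hb hb)]
          _ = a * (a * b) * b * (w * v) := by group
          _ = a * (b * a) * b * (w * v) := by rw [X.A_comm ha hb]
          _ = a * b * (a * b) * (w * v) := by group
      inv_mem' := by
        rintro _ ⟨a, ha, w, hw, rfl⟩
        refine ⟨a⁻¹, inv_mem ha, w⁻¹, inv_mem hw, ?_⟩
        rw [mul_inv_rev, mul_inv_rev, X.A_comm (inv_mem hw.1) (mul_mem (inv_mem ha) (inv_mem ha))] }
  have hNA : N ≤ X.A := by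
    rintro _ ⟨a, ha, w, hw, rfl⟩
    exact mul_mem (mul_mem ha ha) hw.1
  let K : Subgroup T :=
    { carrier := {d | d ∈ X.D ∧ d * d ∈ N}
      one_mem' := ⟨one_mem _, by simp⟩
      mul_mem' := by
        rintro d e ⟨hd, hd2⟩ ⟨he, he2⟩
        refine ⟨mul_mem hd he, ?_⟩
        have hc := X.comm_mem he hd
        have e1 : d * e * (d * e) = d * d * (e * e) * (e⁻¹ * d⁻¹ * e * d) := by
          calc d * e * (d * e) = d * (d * e * (e⁻¹ * d⁻¹ * e * d)) * e := by group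
            _ = d * d * e * ((e⁻¹ * d⁻¹ * e * d) * e) := by group
            _ = d * d * e * (e * (e⁻¹ * d⁻¹ * e * d)) := by rw [X.A_D hc he]
            _ = d * d * (e * e) * (e⁻¹ * d⁻¹ * e * d) := by group
        rw [e1]
        exact mul_mem (mul_mem hd2 he2) ⟨1, one_mem _, _, ⟨hc, X.comm_sq he hd⟩, by simp⟩
      inv_mem' := by
        rintro d ⟨hd, hd2⟩
        exact ⟨inv_mem hd, by rw [← mul_inv_rev]; exact inv_mem hd2⟩ }
  have hAK : X.A ≤ K := fun a ha => ⟨X.A_le_D ha, a, ha, 1, one_mem _, by simp⟩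
  have hMK : X.moved ≤ K := by
    rintro _ ⟨d, hd, a, ha, rfl⟩
    refine mul_mem ?_ (hAK ha)
    refine ⟨X.diff_mem hd, 1, one_mem _, _, ⟨X.comm_mem hd (inv_mem (X.σ_D hd)), X.comm_sq hd (inv_mem (X.σ_D hd))⟩, ?_⟩
    have h := X.fix_A hfix (X.D_sq_mem hd)
    rw [map_mul] at h
    have hdd : d⁻¹ * d⁻¹ * (X.σ d * X.σ d) = 1 := by rw [h]; group
    set e := X.σ d
    have he : e ∈ X.D := X.σ_D hd
    calc d⁻¹ * e * (d⁻¹ * e)
        = (d⁻¹ * e * d * e⁻¹) * (e * (d⁻¹ * d⁻¹) * e) := by group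
      _ = (d⁻¹ * e * d * e⁻¹) * (d⁻¹ * d⁻¹ * (e * e)) := by
          rw [← X.A_D (by rw [← mul_inv_rev]; exact inv_mem (X.D_sq_mem hd)) he]; group
      _ = 1 * 1 * (d⁻¹ * e⁻¹⁻¹ * d * e⁻¹) := by rw [hdd]; group
  have hD : X.moved = X.D := by
    refine eq_of_le_of_card_ge X.moved_le ?_
    rw [X.card_eq_idx X.A_le_moved, X.card_eq_idx X.A_le_D, h16]
    exact Nat.mul_le_mul_right _ X.idx_D_le
  have hsq : SqSub N X.D := ⟨hNA.trans X.A_le_D, fun d hd => (hMK (hD ▸ hd)).2⟩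
  have hNeq : N = X.A := by
    refine eq_of_le_of_card_ge hNA ?_
    have h := X.card_le_sixteen hsq
    rw [X.card_eq_idx X.A_le_D, ← hD, h16] at h
    exact Nat.le_of_mul_le_mul_left h (by norm_num)
  have key : ∀ k, ∀ a ∈ X.A, ∃ b ∈ X.A, a * a = (b * b) ^ 2 ^ k := by
    intro k
    induction k with
    | zero => exact fun a ha => ⟨a, ha, by simp⟩
    | succ k ih =>
      intro a ha
      obtain ⟨b, hb, hab⟩ := ih a ha
      obtain ⟨c, hc, w, hw, hbc⟩ : b ∈ N := hNeq ▸ hb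
      refine ⟨c, hc, ?_⟩
      have h1 : b * b = (c * c) ^ 2 := by
        rw [hbc, pow_two]
        calc c * c * w * (c * c * w) = c * c * (w * (c * c)) * w := by group
          _ = c * c * (c * c) * (w * w) := by rw [X.A_comm hw.1 (mul_mem hc hc)]; group
          _ = c * c * (c * c) := by rw [hw.2, mul_one]
      rw [hab, h1, ← pow_mul, ← pow_succ']
  intro a ha
  obtain ⟨n, hn⟩ := IsPGroup.iff_card.mp X.pT
  obtain ⟨b, hb, hab⟩ := key n a ha
  rw [hab, ← hn, pow_card_eq_one']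

end Ctx

end Cfsg.Agent.NormalRankTwo
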