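import Cfsg.Agent.Lib.NormalRankTwo.Fixed

/-!
# Normal rank two: the case distinction for an automorphism fixing all central involutions
-/

set_option autoImplicit false
set_option linter.style.haveILetI false

namespace Cfsg.Agent.NormalRankTwo

open Subgroup
open SecRank (SqSub)

universe u

variable {T : Type u} [Group T] [Finite T]

namespace Ctx

variable (X : Ctx T) (hfix : ∀ z ∈ Subgroup.center T, z * z = 1 → X.σ z = z)

include X hfix

omit hfix in
theorem idx_A : X.idx X.A = 1 :=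
  (mul_eq_right₀ Nat.card_pos.ne').mp (X.card_eq_idx (le_refl X.A)).symm

theorem idx_cases :
    (X.idx X.D = 16 ∧ ∀ a ∈ X.A, a * a = 1) ∨
      (X.idx X.moved = 4 ∧ X.idx X.C1 = 4) ∨ (X.idx X.moved = 4 ∧ X.C1 = X.A) := by
  have hmul := X.idx_mul hfix
  have hle := X.idx_D_le
  have h1 := X.idx_moved_gt hfix
  have hne2 := X.idx_C1_ne_two hfix
  obtain ⟨i, hi⟩ := X.exists_idx X.moved
  obtain ⟨j, hj⟩ := X.exists_idx X.C1
  have hpos : 0 < X.idx X.C1 := Nat.card_pos
  have hi4 : i ≤ 4 := by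
    have : 2 ^ i ≤ 2 ^ 4 := by rw [← hi]; nlinarith
    exact (Nat.pow_le_pow_iff_right (by norm_num)).mp this
  have hm : X.idx X.moved ≠ 2 := fun h => by
    have := X.idx_modEq X.σ_moved (X.free_moved hfix)
    rw [h] at this
    have h' : X.p ∣ 1 := (Nat.modEq_iff_dvd' (by norm_num)).mp this.symm
    exact X.hp.one_lt.ne' (Nat.dvd_one.mp h')
  have hc1 : X.idx X.C1 = 1 → X.C1 = X.A := fun h => by
    refine (eq_of_le_of_card_ge (X.A_le_C1 hfix) ?_).symm
    rw [X.card_eq_idx (X.A_le_C1 hfix), h, one_mul]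
  have hj4 : X.idx X.C1 * X.idx X.moved ≤ 16 := hmul ▸ hle
  interval_cases i
  · omega
  · omega
  · rw [hi] at hj4
    have : j ≤ 2 := by
      have : 2 ^ j ≤ 2 ^ 2 := by rw [← hj]; omega
      exact (Nat.pow_le_pow_iff_right (by norm_num)).mp this
    interval_cases j
    · exact Or.inr (Or.inr ⟨hi, hc1 hj⟩)
    · exact absurd hj hne2
    · exact Or.inr (Or.inl ⟨hi, hj⟩)
  · exact (X.no_eight_moved hfix hi).elim
  · left
    refine ⟨le_antisymm hle ?_, X.sq_eq_one_of_sixteen hfix hi⟩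
    rw [← hmul, hi]
    omega

theorem quaternion (h4 : X.idx X.moved = 4) :
    ∃ q r z : T, q ∈ X.moved ∧ r ∈ X.moved ∧ z ∈ X.A ∧ z ≠ 1 ∧ z * z = 1 ∧ q * q = z ∧ r * r = z ∧
      (q * r) * (q * r) = z ∧ q⁻¹ * r⁻¹ * q * r = z ∧ q ∉ X.A ∧ r ∉ X.A ∧ q * r ∉ X.A ∧
      X.σ q = r ∧ X.σ r = q * r ∧
      (∀ i, q⁻¹ * (X.σ ^ i) q ∈ X.A ↔ 3 ∣ i) ∧
      (∀ u ∈ X.moved, ∃ g, (g = 1 ∨ g = q ∨ g = r ∨ g = q * r) ∧ g⁻¹ * u ∈ X.A) := by
  have hp : X.p = 3 := by
    have h := X.idx_modEq X.σ_moved (X.free_moved hfix)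
    rw [h4] at h
    have h' : X.p ∣ 3 := (Nat.modEq_iff_dvd' (by norm_num)).mp h.symm
    exact (Nat.prime_dvd_prime_iff_eq X.hp Nat.prime_three).mp h'
  obtain ⟨q0, hq0, hq0A⟩ := SetLike.not_le_iff_exists.mp fun hle : X.moved ≤ X.A => by
    have := X.idx_mono hle
    rw [h4, X.idx_A] at this
    omega
  obtain ⟨horb, hper⟩ := X.orbit X.σ_moved (X.free_moved hfix) (by omega) hq0 hq0A
  set r0 := X.σ q0 with hr0
  set s0 := X.σ r0 with hs0
  have hr0M : r0 ∈ X.moved := X.σ_moved _ hq0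
  have hs0M : s0 ∈ X.moved := X.σ_moved _ hr0M
  have hr0A : r0 ∉ X.A := fun h => hq0A (X.σ.injective (X.fix_A hfix h) ▸ h)
  have hs0A : s0 ∉ X.A := fun h => hr0A (X.σ.injective (X.fix_A hfix h) ▸ h)
  have hqD := X.moved_le hq0
  have hrD := X.moved_le hr0M
  -- the third coset is the product
  obtain ⟨a, ha, hqr⟩ : ∃ a ∈ X.A, q0 * r0 = s0 * a := by
    have hne : q0 * r0 ∉ X.A := by
      intro h
      have h1 : q0⁻¹ * r0 ∈ X.A := by
        have e : q0⁻¹ * r0 = (q0 * q0)⁻¹ * (q0 * r0) := by group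
        rw [e]
        exact mul_mem (inv_mem (X.D_sq_mem hqD)) h
      have := (hper 1).mp (by simpa using h1)
      rw [hp] at this
      omega
    obtain ⟨i, hi, h⟩ := horb _ (mul_mem hq0 hr0M) hne
    rw [hp] at hi
    interval_cases i
    · exfalso
      refine hr0A (inv_mem_iff.mp ?_)
      simpa [mul_assoc] using h
    · exfalso
      have hA := X.normal_A.conj_mem _ h r0
      refine hq0A (inv_mem_iff.mp ?_)
      simpa [← hr0, mul_assoc] using hA
    · refine ⟨((q0 * r0)⁻¹ * s0)⁻¹, inv_mem (by simpa [pow_two, ← hr0, ← hs0] using h), ?_⟩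
      group
  set z := q0⁻¹ * r0⁻¹ * q0 * r0 with hz
  have hzA : z ∈ X.A := X.comm_mem hqD hrD
  have hz2 : z * z = 1 := X.comm_sq hqD hrD
  have hz1 : z ≠ 1 := by
    intro h1
    have hc : q0 * r0 = r0 * q0 := by
      calc q0 * r0 = r0 * q0 * z := by rw [hz]; group
        _ = r0 * q0 := by rw [h1, mul_one]
    refine hq0A (X.mem_A_of_central_D fun d hd => ?_)
    obtain ⟨c, hc', m, hm, rfl⟩ := X.C1_mul_moved hfix hd
    have hcq := X.C1_moved hfix hc' hq0
    suffices hmq : m * q0 = q0 * m by rw [mul_assoc, hmq, ← mul_assoc, hcq, mul_assoc]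
    by_cases hmA : m ∈ X.A
    · exact X.A_D hmA hqD
    obtain ⟨i, hi, h⟩ := horb m hm hmA
    rw [hp] at hi
    have key : ∀ w, w * q0 = q0 * w → m⁻¹ * w ∈ X.A → m * q0 = q0 * m := fun w hw hmw => by
      have e : m = w * (m⁻¹ * w)⁻¹ := by group
      rw [e, mul_assoc, X.A_D (inv_mem hmw) hqD, ← mul_assoc, hw, mul_assoc]
    interval_cases i
    · exact key q0 rfl (by simpa using h)
    · exact key r0 hc.symm (by simpa [← hr0] using h)
    · refine key s0 ?_ (by simpa [pow_two, ← hr0, ← hs0] using h)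
      have e : s0 = q0 * r0 * a⁻¹ := by rw [hqr]; group
      rw [e, mul_assoc, X.A_D (inv_mem ha) hqD, ← mul_assoc, mul_assoc q0 r0, ← hc, mul_assoc]
  have hb : X.σ (q0 * q0) = q0 * q0 := X.fix_A hfix (X.D_sq_mem hqD)
  have hrr : r0 * r0 = q0 * q0 := by rw [← hb, map_mul]
  have hss : s0 * s0 = q0 * q0 := by
    rw [hs0, ← map_mul, hrr, hb]
  have hbz : q0 * q0 * z = a * a := by
    have h1 : q0 * r0 * (q0 * r0) = q0 * q0 * (a * a) := by
      rw [hqr, ← hss]
      calc s0 * a * (s0 * a) = s0 * (a * s0) * a := by group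
        _ = s0 * s0 * (a * a) := by rw [X.A_D ha (X.moved_le hs0M)]; group
    have h2 : q0 * r0 * (q0 * r0) = q0 * q0 * (q0 * q0 * z) := by
      calc q0 * r0 * (q0 * r0) = q0 * (r0 * q0 * z) * z⁻¹ * r0 := by group
        _ = q0 * (q0 * r0) * (z⁻¹ * r0) := by rw [hz]; group
        _ = q0 * q0 * (r0 * r0) * z⁻¹ := by rw [X.A_D (inv_mem hzA) hrD]; group
        _ = q0 * q0 * (q0 * q0 * z) := by
            rw [hrr, inv_eq_of_mul_eq_one_right hz2, mul_assoc]
    exact mul_left_cancel (h2.symm.trans h1)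
  have haf : X.σ a⁻¹ = a⁻¹ := X.fix_A hfix (inv_mem ha)
  set q := q0 * a⁻¹ with hq
  set r := r0 * a⁻¹ with hr
  have haD : ∀ {d : T}, d ∈ X.D → a⁻¹ * d = d * a⁻¹ := fun hd => X.A_D (inv_mem ha) hd
  have hqM : q ∈ X.moved := mul_mem hq0 (X.A_le_moved (inv_mem ha))
  have hrM : r ∈ X.moved := mul_mem hr0M (X.A_le_moved (inv_mem ha))
  have hqq : q * q = z := by
    calc q * q = q0 * (a⁻¹ * q0) * a⁻¹ := by rw [hq]; group
      _ = q0 * q0 * (a * a)⁻¹ := by rw [haD hqD]; group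
      _ = q0 * q0 * (q0 * q0 * z)⁻¹ := by rw [hbz]
      _ = z⁻¹ := by rw [← X.A_comm hzA (X.D_sq_mem hqD)]; group
      _ = z := inv_eq_of_mul_eq_one_right hz2
  have hσq : X.σ q = r := by rw [hq, map_mul, haf, ← hr0]
  have hprod : q * r = s0 * a⁻¹ := by
    calc q * r = q0 * (a⁻¹ * r0) * a⁻¹ := by rw [hq, hr]; group
      _ = q0 * r0 * (a⁻¹ * a⁻¹) := by rw [haD hrD]; group
      _ = s0 * a⁻¹ := by rw [hqr]; group
  have hσr : X.σ r = q * r := by rw [hr, map_mul, haf, ← hs0, hprod]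
  have hrr' : r * r = z := by rw [← hσq, ← map_mul, hqq, X.fix_A hfix hzA]
  refine ⟨q, r, z, hqM, hrM, hzA, hz1, hz2, hqq, hrr',
    by rw [← hσr, ← map_mul, hrr', X.fix_A hfix hzA], ?_, ?_, ?_, ?_, hσq, hσr, ?_, ?_⟩
  · calc q⁻¹ * r⁻¹ * q * r
        = a * (q0⁻¹ * (a * r0⁻¹) * q0) * (a⁻¹ * r0) * a⁻¹ := by rw [hq, hr]; group
      _ = a * (q0⁻¹ * (r0⁻¹ * a) * q0) * (r0 * a⁻¹) * a⁻¹ := by
          rw [haD hrD, X.A_D ha (inv_mem hrD)]
      _ = a * (q0⁻¹ * r0⁻¹ * (a * q0)) * (r0 * a⁻¹) * a⁻¹ := by group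
      _ = a * (q0⁻¹ * r0⁻¹ * q0) * (a * r0) * (a⁻¹ * a⁻¹) := by rw [X.A_D ha hqD]; group
      _ = a * (q0⁻¹ * r0⁻¹ * q0) * (r0 * a) * (a⁻¹ * a⁻¹) := by rw [X.A_D ha hrD]
      _ = a * z * a⁻¹ := by rw [hz]; group
      _ = z := by rw [X.A_comm ha hzA, mul_inv_cancel_right]
  · intro h
    exact hq0A (by simpa [hq] using mul_mem h ha)
  · intro h
    exact hr0A (by simpa [hr] using mul_mem h ha)
  · rw [hprod]
    intro h
    exact hs0A (by simpa using mul_mem h ha)
  · intro i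
    have hA : (X.σ ^ i) a⁻¹ = a⁻¹ := by
      induction i with
      | zero => rfl
      | succ i ih => rw [pow_succ', MulAut.mul_apply, ih, haf]
    rw [hq, map_mul, hA, ← hp, ← hper i]
    constructor
    · intro h
      have := X.normal_A.conj_mem _ h a⁻¹
      simpa [mul_assoc] using this
    · intro h
      have := X.normal_A.conj_mem _ h a
      simpa [mul_assoc] using this
  · intro u hu
    by_cases huA : u ∈ X.A
    · exact ⟨1, Or.inl rfl, by simpa using huA⟩
    obtain ⟨i, hi, h⟩ := horb u hu huA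
    rw [hp] at hi
    have key : ∀ w, u⁻¹ * w ∈ X.A → (w * a⁻¹)⁻¹ * u ∈ X.A := fun w hw => by
      have e : (w * a⁻¹)⁻¹ * u = a * (u⁻¹ * w)⁻¹ := by group
      rw [e]
      exact mul_mem ha (inv_mem hw)
    interval_cases i
    · exact ⟨q, Or.inr (Or.inl rfl), key q0 (by simpa using h)⟩
    · exact ⟨r, Or.inr (Or.inr (Or.inl rfl)), key r0 (by simpa [← hr0] using h)⟩
    · refine ⟨q * r, Or.inr (Or.inr (Or.inr rfl)), ?_⟩
      rw [hprod]
      exact key s0 (by simpa [pow_two, ← hr0, ← hs0] using h)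

omit hfix in
/-- The squares of `A` times `⟨z⟩`. -/
def sqz {z : T} (hz : z ∈ X.A) (hz2 : z * z = 1) : Subgroup T where
  carrier := {x | ∃ a ∈ X.A, x = a * a ∨ x = a * a * z}
  one_mem' := ⟨1, one_mem _, Or.inl (by simp)⟩
  mul_mem' := by
    rintro x y ⟨a, ha, hx⟩ ⟨b, hb, hy⟩
    have e : a * b * (a * b) = a * a * (b * b) := by
      calc a * b * (a * b) = a * (b * a) * b := by group
        _ = a * a * (b * b) := by rw [X.A_comm hb ha]; group
    have hzb : z * (b * b) = b * b * z := X.A_comm hz (mul_mem hb hb)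
    refine ⟨a * b, mul_mem ha hb, ?_⟩
    rcases hx with rfl | rfl <;> rcases hy with rfl | rfl
    · exact Or.inl e.symm
    · exact Or.inr (by rw [e]; exact (mul_assoc (a * a) (b * b) z).symm)
    · exact Or.inr (by rw [e, mul_assoc (a * a) z, hzb, ← mul_assoc])
    · exact Or.inl (by
        rw [e, mul_assoc (a * a) z, ← mul_assoc z (b * b), hzb, mul_assoc (b * b) z z, hz2, mul_one])
  inv_mem' := by
    rintro x ⟨a, ha, hx⟩
    refine ⟨a⁻¹, inv_mem ha, ?_⟩
    rcases hx with rfl | rfl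
    · exact Or.inl (mul_inv_rev a a)
    · refine Or.inr ?_
      rw [mul_inv_rev, mul_inv_rev, inv_eq_of_mul_eq_one_right hz2,
        X.A_comm hz (mul_mem (inv_mem ha) (inv_mem ha))]

omit hfix in
/-- If `z ∈ A²` fails in rank two, `A / A²⟨z⟩` has order at most two. -/
theorem sqz_props {z : T} (hz : z ∈ X.A) (hz2 : z * z = 1) (hz1 : z ≠ 1)
    (hA : ¬ ∀ a ∈ X.A, a * a = 1) (hzsq : Nat.card X.Om = 4 → z ∉ X.pw 1) :
    Nat.card X.A ≤ 2 * Nat.card (X.sqz hz hz2) ∧ X.Om ≤ X.sqz hz hz2 := by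
  haveI := fact_two
  set N := X.sqz hz hz2
  have hpN : X.pw 1 ≤ N := fun x hx => by
    obtain ⟨a, ha, rfl⟩ := (X.mem_pw_one).mp hx
    exact ⟨a, ha, Or.inl rfl⟩
  have hzN : z ∈ N := ⟨1, one_mem _, Or.inr (by simp)⟩
  have h2 : 2 ≤ Nat.card X.Om := by
    rw [Nat.succ_le_iff, Finite.one_lt_card_iff_nontrivial]
    exact ⟨⟨z, hz, hz2⟩, 1, fun e => hz1 (congrArg Subtype.val e)⟩
  obtain ⟨k, hk⟩ := X.card_two_pow X.Om
  have hk2 : k ≤ 2 := (Nat.pow_le_pow_iff_right (show 1 < 2 by norm_num)).mp (hk ▸ X.card_Om_le)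
  have hk1 : 1 ≤ k := by
    by_contra h
    obtain rfl : k = 0 := by omega
    omega
  have heq := X.card_A_eq
  interval_cases k
  · refine ⟨?_, ?_⟩
    · rw [heq, hk, mul_comm]
      exact Nat.mul_le_mul_left _ (card_le_of_le hpN)
    · have : Subgroup.zpowers z = X.Om := by
        refine eq_of_le_of_card_ge (zpowers_le.mpr ⟨hz, hz2⟩) ?_
        rw [hk, Nat.card_zpowers, orderOf_eq_prime (by rw [pow_two]; exact hz2) hz1]
        norm_num
      rw [← this]
      exact zpowers_le.mpr hzN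
  · have hz' := hzsq (by rw [hk]; norm_num)
    have hne : ∃ a ∈ X.A, a * a ≠ 1 := by simpa using hA
    obtain ⟨a, ha, haa⟩ := hne
    have hbot : X.pw 1 ≠ ⊥ := fun h => haa (mem_bot.mp (h ▸ X.mem_pw_one.mpr ⟨a, ha, rfl⟩))
    haveI : (X.pw 1).Normal := ⟨fun x hx g => X.pw_conj hx g⟩
    obtain ⟨w, hw, -, hwo⟩ := PGroup.exists_orderOf_eq_mem_center X.pT (X.pw 1) hbot
    have hw2 : w * w = 1 := by rw [← pow_two, ← hwo, pow_orderOf_eq_one]
    have hw1 : w ≠ 1 := fun h => by rw [h, orderOf_one] at hwo; omega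
    have hwz : z ≠ w := fun h => hz' (h ▸ hw)
    have hF := card_four hz2 hw2 (X.A_comm hz (X.pw_le 1 hw)) hz1 hw1 hwz
    have hFOm : four hz2 hw2 (X.A_comm hz (X.pw_le 1 hw)) ≤ X.Om := by
      rintro x (rfl | rfl | rfl | rfl)
      exacts [one_mem _, ⟨hz, hz2⟩, ⟨X.pw_le 1 hw, hw2⟩,
        mul_mem (show z ∈ X.Om from ⟨hz, hz2⟩) ⟨X.pw_le 1 hw, hw2⟩]
    have hFeq := eq_of_le_of_card_ge hFOm (X.card_Om_le.trans hF)
    refine ⟨?_, ?_⟩
    · have hd := card_dvd_of_le hpN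
      obtain ⟨c, hc⟩ := hd
      have hc2 : 2 ≤ c := by
        by_contra h
        interval_cases c
        · exact Nat.card_pos.ne' (hc.trans (mul_zero _))
        · exact hz' ((eq_of_le_of_card_ge hpN (by rw [hc, mul_one])) ▸ hzN)
      rw [heq, hk, hc]
      calc Nat.card (X.pw 1) * 2 ^ 2 = 2 * (Nat.card (X.pw 1) * 2) := by ring
        _ ≤ 2 * (Nat.card (X.pw 1) * c) := by gcongr
    · rw [← hFeq]
      rintro x (rfl | rfl | rfl | rfl)
      exacts [one_mem _, hzN, hpN hw, mul_mem hzN (hpN hw)]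

omit hfix in
theorem index_two_mul {N : Subgroup T} (hN : N ≤ X.A) (h : Nat.card X.A ≤ 2 * Nat.card N) {x y : T}
    (hx : x ∈ X.A) (hy : y ∈ X.A) (hxN : x ∉ N) (hyN : y ∉ N) : x * y ∈ N := by
  have hi := card_mul_index (N.subgroupOf X.A)
  rw [Nat.card_congr (subgroupOfEquivOfLe hN).toEquiv] at hi
  have hne : (N.subgroupOf X.A).index ≠ 1 := fun h1 =>
    hxN ((show ⟨x, hx⟩ ∈ N.subgroupOf X.A by rw [index_eq_one.mp h1]; trivial) : _)
  have h0 : (N.subgroupOf X.A).index ≠ 0 := index_ne_zero_of_finite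
  have h2 : (N.subgroupOf X.A).index ≤ 2 :=
    Nat.le_of_mul_le_mul_left (by rw [hi]; linarith) (Nat.card_pos (α := N))
  exact (mul_mem_iff_of_index_two (H := N.subgroupOf X.A)
    (a := ⟨x, hx⟩) (b := ⟨y, hy⟩) (by omega)).mpr (iff_of_false hxN hyN)

theorem sq_eq_one_of_C1 (h4 : X.idx X.moved = 4) (hC : X.idx X.C1 = 4) :
    ∀ a ∈ X.A, a * a = 1 := by
  classical
  haveI := fact_two
  by_contra hA
  obtain ⟨q, r, z, hqM, -, hzA, hz1, hz2, hqq, -, -, -, hqA, -, -, hσq, -, -, hcov⟩ :=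
    X.quaternion hfix h4
  -- `H = D`
  have hMH : X.moved ≤ X.H := by
    obtain ⟨h, hh, hne⟩ := X.exists_moved
    set m := h⁻¹ * X.σ h with hm
    have hmH : m ∈ X.H := mul_mem (inv_mem hh) (X.σ_H hh)
    have hmM : m ∈ X.moved := X.diff_mem_moved (X.H_le_D hh)
    have hmA : m ∉ X.A := fun e => hne (X.stab_inv_mul (X.fix_A hfix e))
    obtain ⟨horb, -⟩ := X.orbit X.σ_moved (X.free_moved hfix) (by
      have h := X.idx_modEq X.σ_moved (X.free_moved hfix)
      rw [h4] at h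
      have h' : X.p ∣ 3 := (Nat.modEq_iff_dvd' (by norm_num)).mp h.symm
      rw [(Nat.prime_dvd_prime_iff_eq X.hp Nat.prime_three).mp h', h4]) hmM hmA
    intro u hu
    by_cases huA : u ∈ X.A
    · exact X.A_le_H huA
    obtain ⟨i, -, hi⟩ := horb u hu huA
    have hiH : (X.σ ^ i) m ∈ X.H := by
      clear hi
      induction i with
      | zero => exact hmH
      | succ i ih => rw [pow_succ', MulAut.mul_apply]; exact X.σ_H ih
    have e : u = (X.σ ^ i) m * (u⁻¹ * (X.σ ^ i) m)⁻¹ := by group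
    rw [e]
    exact mul_mem hiH (inv_mem (X.A_le_H hi))
  have hCH : X.C1 ≤ X.H := by
    set K := X.C1 ⊓ X.H
    have hKA : X.A ≤ K := le_inf (X.A_le_C1 hfix) X.A_le_H
    have hsplit : ∀ h ∈ X.H, ∃ c ∈ K, ∃ m ∈ X.moved, h = c * m := fun h hh => by
      obtain ⟨c, hc, m, hm, rfl⟩ := X.C1_mul_moved hfix (X.H_le_D hh)
      refine ⟨c, ⟨hc, ?_⟩, m, hm, rfl⟩
      simpa using mul_mem hh (inv_mem (hMH hm))
    obtain ⟨e, he⟩ := X.exists_idx K
    have hle := X.idx_mono (inf_le_left : K ≤ X.C1)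
    by_cases h2 : X.idx K ≤ 2
    · exfalso
      have hKA' : K ≤ X.A := by
        intro x hx
        by_contra hxA
        refine hxA (X.mem_A fun y hy => ?_)
        obtain ⟨c, hc, m, hm, rfl⟩ := hsplit y hy
        have hcx : c * x = x * c := by
          by_cases hcA : c ∈ X.A
          · exact X.A_D hcA hx.1.1
          · obtain ⟨a, ha, rfl⟩ : ∃ a ∈ X.A, c = x * a :=
              ⟨_, X.idx_two h2 hx hc hxA hcA, by group⟩
            rw [mul_assoc, X.A_D ha hx.1.1]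
        rw [mul_assoc, ← X.C1_moved hfix hx.1 hm, ← mul_assoc, hcx, mul_assoc]
      have hC1A : X.C1 ≤ X.A := fun x hx => X.mem_A fun y hy => by
        obtain ⟨c, hc, m, hm, rfl⟩ := hsplit y hy
        rw [mul_assoc, ← X.C1_moved hfix hx hm, ← mul_assoc, X.A_D (hKA' hc) hx.1, mul_assoc]
      have := X.idx_mono hC1A
      rw [hC, X.idx_A] at this
      omega
    · have hK4 : X.idx K = 4 := by
        have he2 : e ≤ 2 := (Nat.pow_le_pow_iff_right (show 1 < 2 by norm_num)).mp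
          (by rw [← he]; rw [hC] at hle; omega)
        interval_cases e <;> omega
      have hKC : K = X.C1 := eq_of_le_of_card_ge inf_le_left (by
        rw [X.card_eq_idx (X.A_le_C1 hfix), X.card_eq_idx hKA, hC, hK4])
      exact hKC.ge.trans inf_le_right
  have hnorm : ∀ (s : Set T), s ⊆ X.H → (closure ((X.A : Set T) ∪ s)).Normal := fun s hs =>
    X.normal_of_between (fun a ha => subset_closure (Or.inl ha))
      ((closure_le _).mpr (Set.union_subset X.A_le_H hs))
  have hqD := X.moved_le hqM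
  have habel : ∀ c ∈ X.C1,
      ∀ u ∈ closure ((X.A : Set T) ∪ {q, c}), ∀ v ∈ closure ((X.A : Set T) ∪ {q, c}), u * v = v * u := by
    intro c hc
    refine closure_comm ?_
    rintro u (hu | hu | hu) v (hv | hv | hv) <;> (try (cases Set.mem_singleton_iff.mp hu)) <;>
      (try (cases Set.mem_singleton_iff.mp hv)) <;> (try subst hu) <;> (try subst hv)
    all_goals first
      | rfl
      | exact X.A_comm hu hv
      | exact X.A_D hu hqD
      | exact X.A_D hu hc.1
      | exact (X.A_D hv hqD).symm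
      | exact (X.A_D hv hc.1).symm
      | exact X.C1_moved hfix hc hqM
      | exact (X.C1_moved hfix hc hqM).symm
  have hnK : ∀ c ∈ X.C1, (closure ((X.A : Set T) ∪ {q, c})).Normal := fun c hc => hnorm _ (by
    rintro u (rfl | rfl)
    exacts [hMH hqM, hCH hc])
  have inK : ∀ (c : T), ∀ u, (u ∈ X.A ∨ u = q ∨ u = c) → u ∈ closure ((X.A : Set T) ∪ {q, c}) := by
    intro c u hu
    refine subset_closure ?_
    rcases hu with h | rfl | rfl
    exacts [Or.inl h, Or.inr (Or.inl rfl), Or.inr (Or.inr rfl)]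
  have hOmK : ∀ c : T, X.Om ≤ closure ((X.A : Set T) ∪ {q, c}) := fun c w hw => inK c w (Or.inl hw.1)
  have hOm2 : ∀ l ∈ X.Om, l * l = 1 := fun l hl => hl.2
  have qf : ∀ {f : T}, f ∈ X.A → f * f = z → q * f⁻¹ * (q * f⁻¹) = 1 := fun {f} hf hff => by
    calc q * f⁻¹ * (q * f⁻¹) = q * (f⁻¹ * q) * f⁻¹ := by group
      _ = q * q * (f * f)⁻¹ := by rw [X.A_D (inv_mem hf) hqD]; group
      _ = 1 := by rw [hqq, hff, mul_inv_cancel]
  have qfA : ∀ {f : T}, f ∈ X.A → q * f⁻¹ ∉ X.A := fun hf h => hqA (by simpa using mul_mem h hf)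
  have hzsq : Nat.card X.Om = 4 → z ∉ X.pw 1 := fun h hz => by
    obtain ⟨f, hf, hff⟩ := X.mem_pw_one.mp hz
    have h1 := X.no_extra (hnK 1 (one_mem _)) (habel 1 (one_mem _)) (hOmK 1) hOm2 h.ge
      (mul_mem (inK 1 q (Or.inr (Or.inl rfl))) (inK 1 _ (Or.inl (inv_mem hf)))) (qf hf hff)
    exact qfA hf h1.1
  obtain ⟨hidx, hOmN⟩ := X.sqz_props hzA hz2 hz1 hA hzsq
  set N := X.sqz hzA hz2
  have hNA : N ≤ X.A := by
    rintro x ⟨a, ha, rfl | rfl⟩
    exacts [mul_mem ha ha, mul_mem (mul_mem ha ha) hzA]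
  -- no element of `C1 - A` squares into `N`
  have hout : ∀ c ∈ X.C1, c ∉ X.A → c * c ∉ N := by
    rintro c0 hc0 hc0A ⟨e, he, hce⟩
    set c := c0 * e⁻¹ with hcdef
    have hc : c ∈ X.C1 := mul_mem hc0 (X.A_le_C1 hfix (inv_mem he))
    have hcA : c ∉ X.A := fun h => hc0A (by simpa [hcdef] using mul_mem h he)
    have hcc : c * c = 1 ∨ c * c = z := by
      have e1 : c * c = c0 * c0 * (e * e)⁻¹ := by
        calc c * c = c0 * (e⁻¹ * c0) * e⁻¹ := by rw [hcdef]; group
          _ = c0 * c0 * (e * e)⁻¹ := by rw [X.A_D (inv_mem he) hc0.1]; group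
      rw [e1]
      rcases hce with h | h
      · exact Or.inl (by rw [h, mul_inv_cancel])
      · exact Or.inr (by rw [h, X.A_comm (mul_mem he he) hzA, mul_inv_cancel_right])
    have hcM : c ∉ X.moved := fun h => hcA (X.fixed_moved hfix h hc.2)
    obtain ⟨x, hxK, hx2, hxA, hxq⟩ : ∃ x ∈ closure ((X.A : Set T) ∪ {q, c}),
        x * x = 1 ∧ x ∉ X.A ∧ q⁻¹ * x ∉ X.A := by
      rcases hcc with h | h
      · refine ⟨c, inK c c (Or.inr (Or.inr rfl)), h, hcA, fun hx => hcM ?_⟩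
        simpa using mul_mem hqM (X.A_le_moved hx)
      · refine ⟨c * q, mul_mem (inK c c (Or.inr (Or.inr rfl))) (inK c q (Or.inr (Or.inl rfl))), ?_,
          fun hx => hcM ?_, fun hx => hcA ?_⟩
        · calc c * q * (c * q) = c * (q * c) * q := by group
            _ = c * c * (q * q) := by rw [← X.C1_moved hfix hc hqM]; group
            _ = 1 := by rw [h, hqq, hz2]
        · simpa using mul_mem (X.A_le_moved hx) (inv_mem hqM)
        · rwa [X.C1_moved hfix hc hqM, inv_mul_cancel_left] at hx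
    by_cases h4' : Nat.card X.Om = 4
    · exact hxA (X.no_extra (hnK c hc) (habel c hc) (hOmK c) hOm2 h4'.ge hxK hx2).1
    -- `A` is cyclic and `z` is a square
    obtain ⟨f, hf, hff⟩ : ∃ f ∈ X.A, f * f = z := by
      rw [← X.mem_pw_one]
      have hne : ∃ a ∈ X.A, a * a ≠ 1 := by simpa using hA
      obtain ⟨a, ha, haa⟩ := hne
      have hbot : X.pw 1 ≠ ⊥ := fun h => haa (mem_bot.mp (h ▸ X.mem_pw_one.mpr ⟨a, ha, rfl⟩))
      haveI : (X.pw 1).Normal := ⟨fun x hx g => X.pw_conj hx g⟩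
      obtain ⟨w, hw, -, hwo⟩ := PGroup.exists_orderOf_eq_mem_center X.pT (X.pw 1) hbot
      have hw2 : w * w = 1 := by rw [← pow_two, ← hwo, pow_orderOf_eq_one]
      have hw1 : w ≠ 1 := fun h => by rw [h, orderOf_one] at hwo; omega
      by_contra hzp
      have hzw : z ≠ w := fun h => hzp (h ▸ hw)
      refine h4' (le_antisymm X.card_Om_le ((card_four hz2 hw2 (X.A_comm hzA (X.pw_le 1 hw)) hz1 hw1 hzw).trans
        (card_le_of_le ?_)))
      rintro u (rfl | rfl | rfl | rfl)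
      exacts [one_mem _, ⟨hzA, hz2⟩, ⟨X.pw_le 1 hw, hw2⟩,
        mul_mem (show z ∈ X.Om from ⟨hzA, hz2⟩) ⟨X.pw_le 1 hw, hw2⟩]
    set y := q * f⁻¹ with hy
    have hzy : z * y = y * z := X.A_D hzA (mul_mem hqD (X.A_le_D (inv_mem hf)))
    have hy2 := qf hf hff
    have hyA := qfA hf
    have hF := card_four hz2 hy2 hzy hz1 (fun (h : q * f⁻¹ = 1) => hyA (by rw [h]; exact one_mem _))
      (fun h => hyA (by rw [← h]; exact hzA))
    have hFK : four hz2 hy2 hzy ≤ closure ((X.A : Set T) ∪ {q, c}) := by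
      rintro u (rfl | rfl | rfl | rfl)
      · exact one_mem _
      · exact inK c _ (Or.inl hzA)
      · exact mul_mem (inK c q (Or.inr (Or.inl rfl))) (inK c _ (Or.inl (inv_mem hf)))
      · exact mul_mem (inK c _ (Or.inl hzA))
          (mul_mem (inK c q (Or.inr (Or.inl rfl))) (inK c _ (Or.inl (inv_mem hf))))
    have hF2 : ∀ l ∈ four hz2 hy2 hzy, l * l = 1 := by
      rintro l (rfl | rfl | rfl | rfl)
      · exact one_mul 1
      · exact hz2
      · exact hy2
      · calc z * y * (z * y) = z * (y * z) * y := by group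
          _ = z * z * (y * y) := by rw [← hzy]; group
          _ = 1 := by rw [hz2, hy2, one_mul]
    rcases X.no_extra (hnK c hc) (habel c hc) hFK hF2 hF hxK hx2 with h | h | h | h
    · exact hxA (by rw [h]; exact one_mem _)
    · exact hxA (by rw [h]; exact hzA)
    · exact hxq (by rw [h, inv_mul_cancel_left]; exact inv_mem hf)
    · refine hxq ?_
      rw [h]
      show q⁻¹ * (z * y) ∈ X.A
      rw [hzy, hy, mul_assoc, inv_mul_cancel_left]
      exact mul_mem (inv_mem hf) hzA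
  obtain ⟨x, hx, hxA⟩ := SetLike.not_le_iff_exists.mp fun hle : X.C1 ≤ X.A => by
    have := X.idx_mono hle
    rw [hC, X.idx_A] at this
    omega
  obtain ⟨y, hy, hyx⟩ : ∃ y ∈ X.C1, y ∉ X.A ⊔ zpowers x := by
    by_contra! hall
    have h1 := X.idx_mono (show X.C1 ≤ X.A ⊔ zpowers x from hall)
    rw [hC, idx, Subgroup.map_sup, MonoidHom.map_zpowers,
      show (X.A : Subgroup T).map (QuotientGroup.mk' X.A) = ⊥ from QuotientGroup.map_mk'_self _,
      bot_sup_eq, Nat.card_zpowers] at h1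
    have h2 : (QuotientGroup.mk' X.A x) ^ 2 = 1 := by
      rw [pow_two, ← map_mul]
      exact (QuotientGroup.eq_one_iff _).mpr (X.D_sq_mem hx.1)
    have := orderOf_le_of_pow_eq_one two_pos h2
    omega
  have hyA : y ∉ X.A := fun h => hyx (mem_sup_left h)
  have hxyA : x * y ∉ X.A := fun h => hyx (by
    rw [show y = x⁻¹ * (x * y) by group]
    exact mul_mem (inv_mem (mem_sup_right (mem_zpowers x))) (mem_sup_left h))
  refine hout _ (mul_mem hx hy) hxyA ?_
  have hc := X.comm_mem hy.1 hx.1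
  have e1 : x * y * (x * y) = x * x * (y * y) * (y⁻¹ * x⁻¹ * y * x) := by
    calc x * y * (x * y) = x * x * y * ((y⁻¹ * x⁻¹ * y * x) * y) := by group
      _ = x * x * y * (y * (y⁻¹ * x⁻¹ * y * x)) := by rw [X.A_D hc hy.1]
      _ = x * x * (y * y) * (y⁻¹ * x⁻¹ * y * x) := by group
  rw [e1]
  exact mul_mem (X.index_two_mul hNA hidx (X.D_sq_mem hx.1) (X.D_sq_mem hy.1) (hout x hx hxA)
    (hout y hy hyA)) (hOmN ⟨hc, X.comm_sq hy.1 hx.1⟩)

/-- The case `|D / A| = 16`, `A` elementary. -/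
theorem order_of_sixteen (h16 : X.idx X.D = 16) (hA : ∀ a ∈ X.A, a * a = 1) :
    Nat.card T = 64 ∨ Nat.card T = 128 ∨ Cfsg.PRankLE 2 2 T := by
  haveI := fact_two
  obtain ⟨z, hzc, hz1, hz2⟩ := X.exists_central_involution
  have hzA := X.center_le_A hzc
  obtain ⟨k, hk⟩ := X.card_two_pow X.A
  have hOm : X.A = X.Om := le_antisymm (fun a ha => ⟨ha, hA a ha⟩) fun a ha => ha.1
  have hk2 : k ≤ 2 := by
    have h := X.card_Om_le
    rw [← hOm, hk] at h
    exact (Nat.pow_le_pow_iff_right (show 1 < 2 by norm_num)).mp h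
  have hk1 : 1 ≤ k := by
    by_contra h
    obtain rfl : k = 0 := by omega
    rw [pow_zero, Subgroup.card_eq_one] at hk
    exact hz1 (mem_bot.mp (hk ▸ hzA))
  have hcD := X.card_eq_idx X.A_le_D
  rw [h16, hk] at hcD
  interval_cases k
  · -- `T = D`
    right; right
    have hzp : X.A = zpowers z := by
      refine (eq_of_le_of_card_ge (zpowers_le.mpr hzA) ?_).symm
      rw [hk, Nat.card_zpowers, orderOf_eq_prime (by rw [pow_two]; exact hz2) hz1]
      norm_num
    have hDT : ∀ t : T, t ∈ X.D := fun t => mem_centralizer_iff.mpr fun a ha => by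
      rw [SetLike.mem_coe, hzp] at ha
      obtain ⟨i, rfl⟩ := mem_zpowers_iff.mp ha
      exact ((show Commute z t from ((mem_center_iff.mp hzc) t).symm).zpow_left i).eq
    intro E hE hsq
    set K := closure ((X.A : Set T) ∪ E)
    have hn : K.Normal := ⟨fun x hx g => by
      have hc := X.comm_mem (inv_mem (hDT x)) (inv_mem (hDT g))
      have e : g * x * g⁻¹ = x⁻¹⁻¹ * (x⁻¹ * g * x * g⁻¹) := by group
      rw [e]
      refine mul_mem (by simpa using hx) ?_
      have h2 := X.comm_mem (hDT x) (inv_mem (hDT g))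
      rw [inv_inv] at h2
      exact subset_closure (Or.inl h2)⟩
    have hKc : ∀ a ∈ K, ∀ b ∈ K, a * b = b * a := closure_comm (by
      rintro a (ha | ha) b (hb | hb)
      · exact X.A_comm ha hb
      · exact X.A_D ha (hDT b)
      · exact (X.A_D hb (hDT a)).symm
      · exact congrArg Subtype.val (hE.is_comm.comm ⟨a, ha⟩ ⟨b, hb⟩))
    refine (card_le_of_le (H := E) (K := omega K hKc) fun e he =>
      ⟨subset_closure (Or.inr he), by rw [← pow_two]; exact hsq e he⟩).trans ?_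
    exact (X.card_omega_le hn hKc).trans (by norm_num)
  · have h4 : Nat.card X.A = 4 := by rw [hk]; norm_num
    obtain ⟨l, hl, hlz⟩ : ∃ l ∈ X.A, l ∉ zpowers z := by
      by_contra! hall
      have := card_le_of_le (show X.A ≤ zpowers z from hall)
      rw [h4, Nat.card_zpowers, orderOf_eq_prime (by rw [pow_two]; exact hz2) hz1] at this
      omega
    have hl1 : l ≠ 1 := fun h => hlz (h ▸ one_mem _)
    have hlz' : l ≠ z := fun h => hlz (h ▸ mem_zpowers z)
    have hle : Nat.card T ≤ 2 * Nat.card X.D := by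
      rw [← card_top]
      refine SecRank.index_le_two_of_four (X := ⊤) (X0 := X.D) h4 hA (fun g _ x hx => ?_) hzA hl hz1
        hl1 hlz' (fun g _ => mem_center_iff.mp hzc g) fun g _ hgl => ?_
      · simpa using X.normal_A.conj_mem x hx g⁻¹
      · refine mem_centralizer_iff.mpr fun a ha => ?_
        have hlzp : l * z ≠ 1 := fun h => hlz' (by
          rw [eq_inv_of_mul_eq_one_left h, inv_eq_of_mul_eq_one_right hz2])
        have hgz := mem_center_iff.mp hzc g
        rcases SecRank.four_cases h4 hzA hl hz1 hl1 hlz' hlzp ha with h | h | h | h <;> rw [h]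
        · simp
        · exact hgz.symm
        · exact hgl.symm
        · rw [mul_assoc, ← hgz, ← mul_assoc, ← hgl, mul_assoc]
    have hge := Subgroup.card_le_card_group X.D
    obtain ⟨n, hn⟩ := IsPGroup.iff_card.mp X.pT
    rw [hcD] at hle hge
    rw [hn] at hle hge ⊢
    have h6 : 6 ≤ n := (Nat.pow_le_pow_iff_right (show 1 < 2 by norm_num)).mp (le_trans (by norm_num) hge)
    have h7 : n ≤ 7 := (Nat.pow_le_pow_iff_right (show 1 < 2 by norm_num)).mp (hle.trans (by norm_num))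
    interval_cases n <;> norm_num

end Ctx

end Cfsg.Agent.NormalRankTwo
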