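import Cfsg.Agent.Lib.NormalRankTwo.FixedCases

/-!
# Normal rank two: the quaternion central product
-/

set_option autoImplicit false
set_option linter.style.haveILetI false

namespace Cfsg.Agent.NormalRankTwo

open Subgroup

universe u

variable {T : Type u} [Group T] [Finite T]

namespace Ctx

variable (X : Ctx T) (hfix : ∀ z ∈ Subgroup.center T, z * z = 1 → X.σ z = z)

include X hfix

set_option maxHeartbeats 1000000 in
theorem shape_of_C1 (h4 : X.idx X.moved = 4) (hC : X.C1 = X.A) : Nonempty (FixedShape T) := by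
  classical
  haveI := fact_two
  obtain ⟨q, r, z, hqM, hrM, hzA, hz1, hz2, hqq, hrr, hqrqr, hzc, hqA, -, -, hσq, hσr, hper, hcov⟩ :=
    X.quaternion hfix h4
  have hqD := X.moved_le hqM
  have hrD := X.moved_le hrM
  have hDM : X.moved = X.D := le_antisymm X.moved_le fun d hd => by
    obtain ⟨c, hc, m, hm, rfl⟩ := X.C1_mul_moved hfix hd
    exact mul_mem (X.A_le_moved (hC ▸ hc)) hm
  have hAfix : ∀ {a : T}, a ∈ X.A → a ∈ X.fixed := fun ha => X.fix_A hfix ha
  have hsd : ∀ i, ∀ a ∈ X.A, (X.σ ^ i) a = a := by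
    intro i a ha
    induction i with
    | zero => rfl
    | succ i ih => rw [pow_succ', MulAut.mul_apply, ih, X.fix_A hfix ha]
  -- fixed elements centralize `q` and `r`
  have hT0q : ∀ t ∈ X.fixed, t⁻¹ * q * t = q := by
    intro t ht
    have ht' : X.σ t = t := ht
    have hcM : t⁻¹ * q * t ∈ X.moved := by
      rw [hDM]; simpa using X.normal_D.conj_mem q hqD t⁻¹
    have hti : ∀ i, (X.σ ^ i) t = t := by
      intro i
      induction i with
      | zero => rfl
      | succ i ih => rw [pow_succ', MulAut.mul_apply, ih, ht']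
    obtain ⟨i, hi⟩ : ∃ i, ∃ a ∈ X.A, t⁻¹ * q * t = (X.σ ^ i) q * a := by
      obtain ⟨g, hg, hgA⟩ := hcov _ hcM
      rcases hg with rfl | rfl | rfl | rfl
      · exfalso
        rw [inv_one, one_mul] at hgA
        have := X.normal_A.conj_mem _ hgA t
        exact hqA (by simpa [mul_assoc] using this)
      · exact ⟨0, _, hgA, by simp⟩
      · exact ⟨1, _, hgA, by rw [pow_one, hσq]; group⟩
      · exact ⟨2, _, hgA, by rw [pow_two, MulAut.mul_apply, hσq, hσr]; group⟩
    obtain ⟨a, ha, hta⟩ := hi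
    have hk : ∀ k : ℕ, ∃ b ∈ X.A, (t ^ k)⁻¹ * q * t ^ k = (X.σ ^ (k * i)) q * b := by
      intro k
      induction k with
      | zero => exact ⟨1, one_mem _, by simp⟩
      | succ k ih =>
        obtain ⟨b, hb, hkb⟩ := ih
        refine ⟨a * (t⁻¹ * b * t), mul_mem ha (by simpa using X.normal_A.conj_mem b hb t⁻¹), ?_⟩
        have h1 : t⁻¹ * (X.σ ^ (k * i)) q * t = (X.σ ^ (k * i)) (t⁻¹ * q * t) := by
          rw [map_mul, map_mul, map_inv, hti]
        calc (t ^ (k + 1))⁻¹ * q * t ^ (k + 1) = t⁻¹ * ((t ^ k)⁻¹ * q * t ^ k) * t := by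
              rw [pow_succ]; group
          _ = t⁻¹ * (X.σ ^ (k * i)) q * t * (t⁻¹ * b * t) := by rw [hkb]; group
          _ = (X.σ ^ (k * i)) ((X.σ ^ i) q) * a * (t⁻¹ * b * t) := by
              rw [h1, hta, map_mul, hsd _ a ha]
          _ = _ := by rw [← MulAut.mul_apply, ← pow_add, mul_assoc, add_mul, one_mul]
    obtain ⟨j, hj⟩ := IsPGroup.iff_orderOf.mp X.pT t
    obtain ⟨b, hb, hkb⟩ := hk (2 ^ j)
    rw [← hj, pow_orderOf_eq_one, inv_one, one_mul, mul_one, hj] at hkb
    have h3 : 3 ∣ 2 ^ j * i := (hper _).mp (by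
      have e : q⁻¹ * (X.σ ^ (2 ^ j * i)) q = q⁻¹ * ((X.σ ^ (2 ^ j * i)) q * b) * b⁻¹ := by group
      rw [e, ← hkb, inv_mul_cancel, one_mul]
      exact inv_mem hb)
    have h3i : 3 ∣ i := (Nat.Prime.dvd_mul Nat.prime_three).mp h3 |>.resolve_left fun h =>
      absurd ((Nat.prime_dvd_prime_iff_eq Nat.prime_three Nat.prime_two).mp
        (Nat.prime_three.dvd_of_dvd_pow h)) (by norm_num)
    obtain ⟨c, hc, hqc⟩ : ∃ c ∈ X.A, t⁻¹ * q * t = q * c := by
      refine ⟨q⁻¹ * (X.σ ^ i) q * a, mul_mem ((hper i).mpr h3i) ha, ?_⟩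
      rw [hta]; group
    have hrc : t⁻¹ * r * t = r * c := by
      have := congrArg X.σ hqc
      rwa [map_mul, map_mul, map_mul, map_inv, hσq, ht', X.fix_A hfix hc] at this
    have hqrc : t⁻¹ * (q * r) * t = q * r * c := by
      have := congrArg X.σ hrc
      rwa [map_mul, map_mul, map_mul, map_inv, hσr, ht', X.fix_A hfix hc] at this
    have hc1 : c = 1 := by
      have h1 : t⁻¹ * (q * r) * t = q * r * (c * c) := by
        calc t⁻¹ * (q * r) * t = (t⁻¹ * q * t) * (t⁻¹ * r * t) := by group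
          _ = q * (c * r) * c := by rw [hqc, hrc]; group
          _ = q * r * (c * c) := by rw [X.A_D hc hrD]; group
      rw [hqrc] at h1
      exact (mul_eq_left.mp (mul_left_cancel h1).symm)
    rw [hqc, hc1, mul_one]
  have hT0c : ∀ t ∈ X.fixed, q * t = t * q ∧ r * t = t * r := fun t ht => by
    have h := hT0q t ht
    have h1 : q * t = t * q := by
      calc q * t = t * (t⁻¹ * q * t) := by group
        _ = t * q := by rw [h]
    refine ⟨h1, ?_⟩
    have h2 := congrArg X.σ h1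
    rwa [map_mul, map_mul, hσq, show X.σ t = t from ht] at h2
  have hzT0 : z ∈ X.fixed := hAfix hzA
  have decomp : ∀ x : T, ∃ s ∈ X.fixed, ∃ u, (u = 1 ∨ u = q ∨ u = r ∨ u = q * r) ∧ x = s * u := by
    intro x
    obtain ⟨s, hs, d, hd, rfl⟩ := X.exists_decomp hfix x
    obtain ⟨g, hg, hgA⟩ := hcov d (hDM.symm ▸ hd)
    refine ⟨s * (g⁻¹ * d), mul_mem hs (hAfix hgA), g, hg, ?_⟩
    have hgD : g ∈ X.D := by
      rcases hg with rfl | rfl | rfl | rfl
      exacts [one_mem _, hqD, hrD, mul_mem hqD hrD]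
    rw [mul_assoc, X.A_D hgA hgD, mul_inv_cancel_left]
  have hu_fix : ∀ u, (u = 1 ∨ u = q ∨ u = r ∨ u = q * r) → ∀ s ∈ X.fixed, u * s = s * u := by
    rintro u (rfl | rfl | rfl | rfl) s hs
    · simp
    · exact (hT0c s hs).1
    · exact (hT0c s hs).2
    · rw [mul_assoc, (hT0c s hs).2, ← mul_assoc, (hT0c s hs).1, mul_assoc]
  have hzcen : z ∈ Subgroup.center T := mem_center_iff.mpr fun x => by
    obtain ⟨s, hs, u, hu, rfl⟩ := decomp x
    have hzu : u * z = z * u := hu_fix u hu z hzT0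
    have hzs : s * z = z * s := by
      rw [← hzc]
      obtain ⟨h1, h2⟩ := hT0c s hs
      have h1i : s * q⁻¹ = q⁻¹ * s := ((show Commute q s from h1).inv_left).symm.eq
      have h2i : s * r⁻¹ = r⁻¹ * s := ((show Commute r s from h2).inv_left).symm.eq
      calc s * (q⁻¹ * r⁻¹ * q * r) = q⁻¹ * (s * r⁻¹) * q * r := by
            rw [← mul_assoc, ← mul_assoc, ← mul_assoc, h1i]; group
        _ = q⁻¹ * r⁻¹ * (s * q) * r := by rw [h2i]; group
        _ = q⁻¹ * r⁻¹ * q * (s * r) := by rw [← h1]; group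
        _ = q⁻¹ * r⁻¹ * q * r * s := by rw [← h2]; group
    rw [mul_assoc, hzu, ← mul_assoc, hzs, mul_assoc]
  have hu2 : ∀ u, (u = 1 ∨ u = q ∨ u = r ∨ u = q * r) → u * u = 1 ∨ u * u = z := by
    rintro u (rfl | rfl | rfl | rfl)
    exacts [Or.inl (one_mul 1), Or.inr hqq, Or.inr hrr, Or.inr hqrqr]
  have huD : ∀ u, (u = 1 ∨ u = q ∨ u = r ∨ u = q * r) → u ∈ X.moved := by
    rintro u (rfl | rfl | rfl | rfl)
    exacts [one_mem _, hqM, hrM, mul_mem hqM hrM]
  have hne : q * r ≠ r * q := fun h => hz1 (by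
    rw [← hzc]
    calc q⁻¹ * r⁻¹ * q * r = q⁻¹ * r⁻¹ * (q * r) := by group
      _ = 1 := by rw [h]; group)
  have hQc : ∀ u v, (u = 1 ∨ u = q ∨ u = r ∨ u = q * r) → (v = 1 ∨ v = q ∨ v = r ∨ v = q * r) →
      u⁻¹ * v⁻¹ * u * v = 1 ∨ u⁻¹ * v⁻¹ * u * v = z := by
    intro u v hu hv
    rcases X.comm_unique X.A_le_moved X.moved_le h4.le hqM hrM hne (huD u hu) (huD v hv) with h | h
    · left
      calc u⁻¹ * v⁻¹ * u * v = u⁻¹ * v⁻¹ * (u * v) := by group
        _ = 1 := by rw [h]; group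
    · exact Or.inr (h.trans hzc)
  -- involutory commutators in the fixed subgroup are central
  have hT0A : ∀ {t : T}, t ∈ X.fixed → (∀ a ∈ X.A, a * t = t * a) → t ∈ X.A := fun {t} ht h =>
    hC ▸ (⟨mem_centralizer_iff.mpr h, ht⟩ : t ∈ X.D ⊓ X.fixed)
  have key : ∀ s ∈ X.fixed, ∀ t ∈ X.fixed,
      (s⁻¹ * t⁻¹ * s * t) * (s⁻¹ * t⁻¹ * s * t) = 1 → s⁻¹ * t⁻¹ * s * t ∈ Subgroup.center T := by
    intro s hs t ht hcc
    have hzg := mem_center_iff.mp hzcen
    by_cases hA : ∀ a ∈ X.A, a * a = 1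
    · -- `A` elementary
      have hmove : ∀ a ∈ X.A, ∀ g : T, a⁻¹ * (g⁻¹ * a * g) = 1 ∨ a⁻¹ * (g⁻¹ * a * g) = z := by
        intro a ha g
        have hag : g⁻¹ * a * g ∈ X.A := by simpa using X.normal_A.conj_mem a ha g⁻¹
        rcases eq_or_ne a 1 with rfl | ha1
        · left; group
        rcases eq_or_ne a z with rfl | haz
        · left; rw [mul_assoc g⁻¹, ← hzg g]; group
        have haz' : z * a = a * z := X.A_comm hzA ha
        have hF := card_four hz2 (hA a ha) haz' hz1 ha1 (Ne.symm haz)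
        have hFA : four hz2 (hA a ha) haz' ≤ X.Om := by
          rintro x (h | h | h | h) <;> rw [h]
          exacts [one_mem _, ⟨hzA, hz2⟩, ⟨ha, hA a ha⟩,
            ⟨mul_mem hzA ha, hA _ (mul_mem hzA ha)⟩]
        have hFeq := eq_of_le_of_card_ge hFA (X.card_Om_le.trans hF)
        have hmem : g⁻¹ * a * g ∈ four hz2 (hA a ha) haz' := hFeq.symm ▸ ⟨hag, hA _ hag⟩
        have back : ∀ w, g⁻¹ * a * g = w → a = g * w * g⁻¹ := fun w h => by rw [← h]; group
        rcases hmem with h | h | h | h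
        · exact absurd (by simpa using back _ h) ha1
        · exact absurd (by rw [back _ h, hzg g]; group) haz
        · left; rw [h, inv_mul_cancel]
        · right; rw [h, haz', inv_mul_cancel_left]
      have hfin : ∀ {x y : T}, x ∈ X.A → x⁻¹ * y⁻¹ * x * y ∈ Subgroup.center T := fun {x y} hx => by
        rw [show x⁻¹ * y⁻¹ * x * y = x⁻¹ * (y⁻¹ * x * y) by group]
        rcases hmove x hx y with h | h <;> rw [h]
        exacts [one_mem _, hzcen]
      by_cases hsA : s ∈ X.A
      · exact hfin hsA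
      by_cases htA : t ∈ X.A
      · rw [show s⁻¹ * t⁻¹ * s * t = (t⁻¹ * s⁻¹ * t * s)⁻¹ by group]
        exact inv_mem (hfin htA)
      have hmoved : ∀ {g : T}, g ∈ X.fixed → g ∉ X.A → ∀ a ∈ X.A, a ≠ 1 → a ≠ z →
          g⁻¹ * a * g = a * z := by
        intro g hg hgA a ha ha1 haz
        rcases hmove a ha g with h | h
        · exfalso
          refine hgA (hT0A hg fun b hb => ?_)
          have hga : a * g = g * a := by
            calc a * g = g * a * (a⁻¹ * (g⁻¹ * a * g)) := by group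
              _ = g * a := by rw [h, mul_one]
          have haz' : z * a = a * z := X.A_comm hzA ha
          have hF := card_four hz2 (hA a ha) haz' hz1 ha1 (Ne.symm haz)
          have hFA : four hz2 (hA a ha) haz' ≤ X.Om := by
            rintro x (h | h | h | h) <;> rw [h]
            exacts [one_mem _, ⟨hzA, hz2⟩, ⟨ha, hA a ha⟩,
              ⟨mul_mem hzA ha, hA _ (mul_mem hzA ha)⟩]
          have hb' : b ∈ four hz2 (hA a ha) haz' :=
            (eq_of_le_of_card_ge hFA (X.card_Om_le.trans hF)).symm ▸ ⟨hb, hA b hb⟩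
          rcases hb' with rfl | rfl | rfl | rfl
          · simp
          · exact (hzg g).symm
          · exact hga
          · rw [mul_assoc, hga, ← mul_assoc, ← hzg g, mul_assoc]
        · calc g⁻¹ * a * g = a * (a⁻¹ * (g⁻¹ * a * g)) := by group
            _ = a * z := by rw [h]
      have hst : s * t⁻¹ ∈ X.A := hT0A (mul_mem hs (inv_mem ht)) fun a ha => by
        have : s⁻¹ * a * s = t⁻¹ * a * t := by
          rcases eq_or_ne a 1 with rfl | ha1
          · group
          rcases eq_or_ne a z with rfl | haz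
          · rw [mul_assoc s⁻¹, ← hzg s, mul_assoc t⁻¹, ← hzg t]; group
          rw [hmoved hs hsA a ha ha1 haz, hmoved ht htA a ha ha1 haz]
        calc a * (s * t⁻¹) = s * (s⁻¹ * a * s) * t⁻¹ := by group
          _ = s * (t⁻¹ * a * t) * t⁻¹ := by rw [this]
          _ = s * t⁻¹ * a := by group
      obtain ⟨a, ha, rfl⟩ : ∃ a ∈ X.A, s = a * t := ⟨_, hst, by group⟩
      rw [show (a * t)⁻¹ * t⁻¹ * (a * t) * t = t⁻¹ * (a⁻¹ * (t⁻¹ * a * t)) * t by group]
      rcases hmove a ha t with h | h <;> rw [h]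
      · simp
      · rw [mul_assoc, ← hzg t, inv_mul_cancel_left]; exact hzcen
    · -- `A` of exponent at least four
      set K := closure ((X.A : Set T) ∪ {q}) with hK
      have hAK : ∀ {a : T}, a ∈ X.A → a ∈ K := fun ha => subset_closure (Or.inl ha)
      have hqK : q ∈ K := subset_closure (Or.inr rfl)
      have hKc : ∀ a ∈ K, ∀ b ∈ K, a * b = b * a := closure_comm (by
        rintro a (ha | rfl) b (hb | rfl)
        · exact X.A_comm ha hb
        · exact X.A_D ha hqD
        · exact (X.A_D hb hqD).symm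
        · rfl)
      have hKn : K.Normal := ⟨fun x hx g => by
        obtain ⟨w, hw, u, hu, hg⟩ := decomp g
        have hle : K ≤ K.comap (MulAut.conj g).toMonoidHom := by
          rw [hK, closure_le]
          intro a ha
          simp only [SetLike.mem_coe, mem_comap, MulEquiv.coe_toMonoidHom, MulAut.conj_apply]
          rcases ha with ha | rfl
          · exact hAK (X.normal_A.conj_mem a ha g)
          · have huD' : u ∈ X.D := X.moved_le (huD u hu)
            have hc := X.comm_mem hqD (inv_mem huD')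
            rw [inv_inv] at hc
            have e : g * a * g⁻¹ = (w * a * w⁻¹) * (w * (a⁻¹ * u * a * u⁻¹) * w⁻¹) := by
              rw [hg]; group
            rw [e, ← (hT0c w hw).1, mul_inv_cancel_right]
            exact mul_mem hqK (hAK (X.normal_A.conj_mem _ hc w))
        exact hle hx⟩
      have hzsq : Nat.card X.Om = 4 → z ∉ X.pw 1 := fun h hz => by
        obtain ⟨f, hf, hff⟩ := X.mem_pw_one.mp hz
        have hqf : q * f⁻¹ * (q * f⁻¹) = 1 := by
          calc q * f⁻¹ * (q * f⁻¹) = q * (f⁻¹ * q) * f⁻¹ := by group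
            _ = q * q * (f * f)⁻¹ := by rw [X.A_D (inv_mem hf) hqD]; group
            _ = 1 := by rw [hqq, hff, mul_inv_cancel]
        have h1 := X.no_extra hKn hKc (L := X.Om) (fun w hw => hAK hw.1) (fun w hw => hw.2) h.ge
          (mul_mem hqK (hAK (inv_mem hf))) hqf
        exact hqA (by simpa using mul_mem h1.1 hf)
      obtain ⟨hidx, -⟩ := X.sqz_props hzA hz2 hz1 hA hzsq
      set N := X.sqz hzA hz2 with hN
      have hNA : N ≤ X.A := by
        rintro x ⟨a, ha, rfl | rfl⟩
        exacts [mul_mem ha ha, mul_mem (mul_mem ha ha) hzA]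
      have hNn : ∀ (g : T) {x : T}, x ∈ N → g * x * g⁻¹ ∈ N := by
        rintro g x ⟨a, ha, hx⟩
        refine ⟨g * a * g⁻¹, X.normal_A.conj_mem a ha g, ?_⟩
        rcases hx with rfl | rfl
        · exact Or.inl (by group)
        · refine Or.inr ?_
          rw [show g * (a * a * z) * g⁻¹ = g * a * g⁻¹ * (g * a * g⁻¹) * (g * z * g⁻¹) by group,
            hzg g, mul_inv_cancel_right]
      obtain ⟨a, ha, haN⟩ : ∃ a ∈ X.A, a ∉ N := by
        by_contra! hall
        -- then `A = A²⟨z⟩`, so `A` has exponent two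
        refine hA ?_
        have key : ∀ k, ∀ b ∈ X.A, ∃ c ∈ X.A, b * b = (c * c) ^ 2 ^ k := by
          intro k
          induction k with
          | zero => exact fun b hb => ⟨b, hb, by simp⟩
          | succ k ih =>
            intro b hb
            obtain ⟨c, hc, hbc⟩ := ih b hb
            obtain ⟨d, hd, hcd⟩ := hall c hc
            refine ⟨d, hd, ?_⟩
            have h1 : c * c = (d * d) ^ 2 := by
              rw [pow_two]
              rcases hcd with rfl | rfl
              · rfl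
              · calc d * d * z * (d * d * z) = d * d * (z * (d * d)) * z := by group
                  _ = d * d * (d * d) * (z * z) := by rw [X.A_comm hzA (mul_mem hd hd)]; group
                  _ = d * d * (d * d) := by rw [hz2, mul_one]
            rw [hbc, h1, ← pow_mul, ← pow_succ']
        intro b hb
        obtain ⟨n, hn⟩ := IsPGroup.iff_card.mp X.pT
        obtain ⟨c, -, hbc⟩ := key n b hb
        rw [hbc, ← hn, pow_card_eq_one']
      have haz : Commute a z := X.A_comm ha hzA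
      let P : T → Prop := fun y => ∃ i j : ℕ, y = a ^ i * z ^ j
      have Pmul : ∀ {x y}, P x → P y → P (x * y) := by
        rintro x y ⟨i, j, rfl⟩ ⟨i', j', rfl⟩
        exact ⟨i + i', j + j', ((haz.pow_pow i' j).symm.mul_mul_mul_comm _ _).trans
          (by rw [pow_add, pow_add])⟩
      have PA : ∀ {x}, P x → x ∈ X.A := by
        rintro x ⟨i, j, rfl⟩
        exact mul_mem (pow_mem ha i) (pow_mem hzA j)
      have gen1 : ∀ y ∈ X.A, ∃ l, P l ∧ ∃ c ∈ X.A, y = l * (c * c) := by
        intro y hy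
        have split : ∀ {x}, x ∈ N → ∃ l, P l ∧ ∃ c ∈ X.A, x = l * (c * c) := by
          rintro x ⟨c, hc, rfl | rfl⟩
          · exact ⟨1, ⟨0, 0, by simp⟩, c, hc, (one_mul _).symm⟩
          · exact ⟨z, ⟨0, 1, by simp⟩, c, hc, X.A_comm (mul_mem hc hc) hzA⟩
        by_cases hyN : y ∈ N
        · exact split hyN
        have hay : y * a⁻¹ ∈ N := X.index_two_mul hNA hidx hy (inv_mem ha) hyN
          fun h => haN (inv_mem_iff.mp h)
        obtain ⟨l, hl, c, hc, hlc⟩ := split hay
        refine ⟨a * l, Pmul ⟨1, 0, by simp⟩ hl, c, hc, ?_⟩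
        calc y = y * a⁻¹ * a := by group
          _ = a * (y * a⁻¹) := X.A_comm (hNA hay) ha
          _ = a * l * (c * c) := by rw [hlc, mul_assoc]
      have gen : ∀ k, ∀ y ∈ X.A, ∃ l, P l ∧ ∃ c ∈ X.A, y = l * c ^ 2 ^ k := by
        intro k
        induction k with
        | zero => exact fun y hy => ⟨1, ⟨0, 0, by simp⟩, y, hy, by simp⟩
        | succ k ih =>
          intro y hy
          obtain ⟨l, hl, c, hc, rfl⟩ := ih y hy
          obtain ⟨l', hl', c', hc', rfl⟩ := gen1 c hc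
          have hlk : ∀ n, P (l' ^ n) := fun n => by
            induction n with
            | zero => exact ⟨0, 0, by simp⟩
            | succ n ih' => rw [pow_succ]; exact Pmul ih' hl'
          refine ⟨l * l' ^ 2 ^ k, Pmul hl (hlk _), c', hc', ?_⟩
          rw [(show Commute l' (c' * c') from X.A_comm (PA hl') (mul_mem hc' hc')).mul_pow,
            ← pow_two, ← pow_mul, ← pow_succ', mul_assoc]
      have genA : ∀ y ∈ X.A, P y := fun y hy => by
        obtain ⟨n, hn⟩ := IsPGroup.iff_card.mp X.pT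
        obtain ⟨l, hl, c, -, rfl⟩ := gen n y hy
        rwa [← hn, pow_card_eq_one', mul_one]
      have hzfix : ∀ g : T, g⁻¹ * z * g = z := fun g => by
        rw [mul_assoc, ← hzg g, inv_mul_cancel_left]
      have himg : ∀ g : T, ∃ i j : ℕ, Odd i ∧ g⁻¹ * a * g = a ^ i * z ^ j := by
        intro g
        obtain ⟨i, j, hij⟩ := genA _ (by simpa using X.normal_A.conj_mem a ha g⁻¹ : g⁻¹ * a * g ∈ X.A)
        refine ⟨i, j, ?_, hij⟩
        rcases Nat.even_or_odd i with ⟨e, rfl⟩ | h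
        · exfalso
          have hm : g⁻¹ * a * g ∈ N := by
            rw [hij]
            refine mul_mem (show a ^ (e + e) ∈ N from ⟨a ^ e, pow_mem ha e, Or.inl (pow_add a e e)⟩)
              (pow_mem (show z ∈ N from ⟨1, one_mem _, Or.inr (by simp)⟩) j)
          have := hNn g hm
          exact haN (by simpa [mul_assoc] using this)
        · exact h
      have hconjP : ∀ (g : T) (i j : ℕ), g⁻¹ * (a ^ i * z ^ j) * g = (g⁻¹ * a * g) ^ i * z ^ j := by
        intro g i j
        have : g⁻¹ * (a ^ i * z ^ j) * g = (g⁻¹ * a * g⁻¹⁻¹) ^ i * (g⁻¹ * z * g⁻¹⁻¹) ^ j := by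
          rw [conj_pow, conj_pow]; group
        rw [this, inv_inv, hzfix g]
      have hzodd : ∀ {i : ℕ}, Odd i → ∀ j, z ^ (j * i) = z ^ j := by
        rintro i ⟨e, rfl⟩ j
        rw [Nat.mul_comm, pow_mul, pow_succ, pow_mul, pow_two, hz2, one_pow, one_mul]
      have hcomm : ∀ x ∈ X.A, t⁻¹ * (s⁻¹ * x * s) * t = s⁻¹ * (t⁻¹ * x * t) * s := by
        intro x hx
        obtain ⟨i, j, rfl⟩ := genA x hx
        obtain ⟨i1, j1, ho1, h1⟩ := himg s
        obtain ⟨i2, j2, ho2, h2⟩ := himg t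
        have base : t⁻¹ * (s⁻¹ * a * s) * t = s⁻¹ * (t⁻¹ * a * t) * s := by
          rw [h1, h2, hconjP, hconjP, h1, h2, (haz.pow_pow i2 j2).mul_pow, (haz.pow_pow i1 j1).mul_pow,
            ← pow_mul, ← pow_mul, ← pow_mul, ← pow_mul, hzodd ho1, hzodd ho2, mul_comm i1 i2,
            mul_assoc, mul_assoc, ← pow_add, ← pow_add, Nat.add_comm j2 j1]
        rw [hconjP, hconjP]
        calc t⁻¹ * ((s⁻¹ * a * s) ^ i * z ^ j) * t
            = (t⁻¹ * (s⁻¹ * a * s) * t⁻¹⁻¹) ^ i * (t⁻¹ * z * t⁻¹⁻¹) ^ j := by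
              rw [conj_pow, conj_pow]; group
          _ = (s⁻¹ * (t⁻¹ * a * t) * s⁻¹⁻¹) ^ i * (s⁻¹ * z * s⁻¹⁻¹) ^ j := by
              rw [inv_inv, inv_inv, base, hzfix s, hzfix t]
          _ = _ := by rw [conj_pow, conj_pow]; group
      set c := s⁻¹ * t⁻¹ * s * t with hc
      have hcA : c ∈ X.A := hT0A
        (mul_mem (mul_mem (mul_mem (inv_mem hs) (inv_mem ht)) hs) ht) fun b hb => by
        have hb' : t * (s * b * s⁻¹) * t⁻¹ ∈ X.A :=
          X.normal_A.conj_mem _ (X.normal_A.conj_mem b hb s) t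
        have h := hcomm _ hb'
        calc b * c = c * (c⁻¹ * b * c) := by group
          _ = c * (t⁻¹ * (s⁻¹ * (t * (s * b * s⁻¹) * t⁻¹) * s) * t) := by rw [hc]; group
          _ = c * (s⁻¹ * (t⁻¹ * (t * (s * b * s⁻¹) * t⁻¹) * t) * s) := by rw [h]
          _ = c * b := by group
      -- involutions of `A` are central
      by_cases hO : Nat.card X.Om = 4
      · have hne' : ∃ a ∈ X.A, a * a ≠ 1 := by simpa using hA
        obtain ⟨e, he, hee⟩ := hne'
        have hbot : X.pw 1 ≠ ⊥ := fun h => hee (mem_bot.mp (h ▸ X.mem_pw_one.mpr ⟨e, he, rfl⟩))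
        haveI : (X.pw 1).Normal := ⟨fun x hx g => X.pw_conj hx g⟩
        obtain ⟨w, hw, hwc, hwo⟩ := PGroup.exists_orderOf_eq_mem_center X.pT (X.pw 1) hbot
        have hw2 : w * w = 1 := by rw [← pow_two, ← hwo, pow_orderOf_eq_one]
        have hw1 : w ≠ 1 := fun h => by rw [h, orderOf_one] at hwo; omega
        have hwz : z ≠ w := fun h => hzsq hO (h ▸ hw)
        have hzw := X.A_comm hzA (X.pw_le 1 hw)
        have hFA : four hz2 hw2 hzw ≤ X.Om := by
          rintro x (rfl | rfl | rfl | rfl)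
          exacts [one_mem _, ⟨hzA, hz2⟩, ⟨X.pw_le 1 hw, hw2⟩,
            mul_mem (show z ∈ X.Om from ⟨hzA, hz2⟩) ⟨X.pw_le 1 hw, hw2⟩]
        have hcF : c ∈ four hz2 hw2 hzw :=
          (eq_of_le_of_card_ge hFA (hO.le.trans (card_four hz2 hw2 hzw hz1 hw1 hwz))).symm ▸ ⟨hcA, hcc⟩
        rcases hcF with h | h | h | h <;> rw [h]
        exacts [one_mem _, hzcen, hwc, mul_mem hzcen hwc]
      · obtain ⟨k, hk⟩ := X.card_two_pow X.Om
        have hle : Nat.card X.Om ≤ Nat.card (zpowers z) := by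
          rw [Nat.card_zpowers, orderOf_eq_prime (by rw [pow_two]; exact hz2) hz1]
          have h4' := X.card_Om_le
          rw [hk] at h4' hO ⊢
          have hk2 : k ≤ 2 := (Nat.pow_le_pow_iff_right (show 1 < 2 by norm_num)).mp h4'
          interval_cases k <;> simp_all
        have hcz : c ∈ zpowers z := (eq_of_le_of_card_ge (zpowers_le.mpr
          (show z ∈ X.Om from ⟨hzA, hz2⟩)) hle).symm ▸ ⟨hcA, hcc⟩
        exact (zpowers_le.mpr hzcen) hcz
  refine ⟨⟨z, X.fixed, hzcen, hz1, hz2, fun y => ?_, fun x hx => ?_, fun v hv => ?_,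
    fun x y hxy => ?_⟩⟩
  · obtain ⟨s, hs, u, hu, rfl⟩ := decomp y
    rw [show s * u * (s * u) = s * (u * s) * u by group, hu_fix u hu s hs,
      show s * (s * u) * u = s * s * (u * u) by group]
    rcases hu2 u hu with h | h <;> rw [h]
    exacts [mul_mem (mul_mem hs hs) (one_mem _), mul_mem (mul_mem hs hs) hzT0]
  · obtain ⟨s, hs, u, hu, rfl⟩ := decomp x
    refine ⟨u, ?_, by rw [← mul_assoc, hu_fix u hu s hs]⟩
    rcases hu with rfl | rfl | rfl | rfl
    · exact absurd (by simpa using hs) hx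
    · exact hqq
    · exact hrr
    · exact hqrqr
  · exact ⟨q, r, (hT0c v hv).1, (hT0c v hv).2, hzc⟩
  · obtain ⟨s, hs, u, hu, rfl⟩ := decomp x
    obtain ⟨t, ht, v, hv, rfl⟩ := decomp y
    have hdist : (s * u)⁻¹ * (t * v)⁻¹ * (s * u) * (t * v) =
        (s⁻¹ * t⁻¹ * s * t) * (u⁻¹ * v⁻¹ * u * v) := by
      set cs := s⁻¹ * t⁻¹ * s with hcs
      have hcsT : cs ∈ X.fixed := mul_mem (mul_mem (inv_mem hs) (inv_mem ht)) hs
      have hus : ∀ {g : T}, g ∈ X.fixed → u⁻¹ * g = g * u⁻¹ := fun hg =>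
        ((show Commute u _ from hu_fix u hu _ hg).inv_left).eq
      have hvs : ∀ {g : T}, g ∈ X.fixed → v⁻¹ * g = g * v⁻¹ := fun hg =>
        ((show Commute v _ from hu_fix v hv _ hg).inv_left).eq
      have hut : u * t = t * u := hu_fix u hu t ht
      calc (s * u)⁻¹ * (t * v)⁻¹ * (s * u) * (t * v)
          = u⁻¹ * (s⁻¹ * (v⁻¹ * (t⁻¹ * s))) * (u * t) * v := by group
        _ = u⁻¹ * (s⁻¹ * ((t⁻¹ * s) * v⁻¹)) * (t * u) * v := by
            rw [hvs (mul_mem (inv_mem ht) hs), hut]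
        _ = u⁻¹ * cs * (v⁻¹ * t) * u * v := by rw [hcs]; group
        _ = cs * u⁻¹ * (t * v⁻¹) * u * v := by rw [hus hcsT, hvs ht]
        _ = cs * (u⁻¹ * t) * v⁻¹ * u * v := by group
        _ = _ := by rw [hus ht, hcs]; group
    rw [hdist] at hxy ⊢
    set c1 := s⁻¹ * t⁻¹ * s * t
    rcases hQc u v hu hv with h | h <;> rw [h] at hxy ⊢
    · rw [mul_one] at hxy ⊢
      exact key s hs t ht hxy
    · refine mul_mem (key s hs t ht ?_) hzcen
      calc c1 * c1 = c1 * (c1 * z) * z := by rw [mul_assoc c1, mul_assoc c1, hz2, mul_one]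
        _ = c1 * (z * c1) * z := by rw [(mem_center_iff.mp hzcen) c1]
        _ = c1 * z * (c1 * z) := by group
        _ = 1 := hxy

/-- The outcome when all central involutions are fixed. -/
theorem fixed_cases : Nat.card T = 64 ∨ Nat.card T = 128 ∨ Cfsg.PRankLE 2 2 T ∨
    Nonempty (FixedShape T) := by
  rcases X.idx_cases hfix with ⟨h16, hA⟩ | ⟨h4, hC⟩ | ⟨h4, hC⟩
  · rcases X.order_of_sixteen hfix h16 hA with h | h | h
    exacts [Or.inl h, Or.inr (Or.inl h), Or.inr (Or.inr (Or.inl h))]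
  · have h16 : X.idx X.D = 16 := by rw [← X.idx_mul hfix, h4, hC]
    rcases X.order_of_sixteen hfix h16 (X.sq_eq_one_of_C1 hfix h4 hC) with h | h | h
    exacts [Or.inl h, Or.inr (Or.inl h), Or.inr (Or.inr (Or.inl h))]
  · exact Or.inr (Or.inr (Or.inr (X.shape_of_C1 hfix h4 hC)))

end Ctx

end Cfsg.Agent.NormalRankTwo
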