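import Cfsg.Agent.Lib.NormalRankTwo.Trans

/-!
# Normal rank two: `T / A` inside the endomorphisms of `Ω₁(A)`
-/

set_option autoImplicit false
set_option linter.style.haveILetI false

namespace Cfsg.Agent.NormalRankTwo

open Subgroup
open Model (V app S Sinv conjS)

universe u

variable {T : Type u} [Group T] [Finite T]

/-- Coordinates on `Ω₁(A)` adapted to the automorphism. -/
structure Coord (X : Ctx T) where
  ι : V → T
  mem : ∀ v, ι v ∈ X.Om
  surj : ∀ w ∈ X.Om, ∃ v, ι v = w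
  inj : Function.Injective ι
  add : ∀ v w, ι (v + w) = ι v * ι w
  equiv : ∀ v, X.σ (ι v) = ι (S v)

namespace Coord

variable {X : Ctx T} (C : Coord X)

theorem zero : C.ι 0 = 1 := by
  have := C.add 0 0
  rwa [add_zero, left_eq_mul] at this

theorem eq_one {v : V} : C.ι v = 1 ↔ v = 0 := ⟨fun h => C.inj (h.trans C.zero.symm), fun h => h ▸ C.zero⟩

/-- `e` describes `a ↦ dlt t a ^ 2 ^ j` in coordinates. -/
def IsEnc (C : Coord X) (j : ℕ) (t : T) (e : V × V) : Prop :=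
  ∀ a ∈ X.A, ∀ v, a ^ 2 ^ (X.expA - 1) = C.ι v → dlt t a ^ 2 ^ j = C.ι (app e v)

end Coord

namespace Ctx

variable (X : Ctx T) (hmove : ∃ u ∈ Subgroup.center T, u * u = 1 ∧ X.σ u ≠ u)

include X hmove

theorem exists_coord : Nonempty (Coord X) := by
  obtain ⟨hOc, hO4⟩ := X.Om_center hmove
  obtain ⟨u, hu, hu1⟩ : ∃ u ∈ X.Om, u ≠ 1 := by
    by_contra! h
    have := card_le_of_le (show X.Om ≤ ⊥ from fun w hw => mem_bot.mpr (h w hw))
    rw [hO4, card_bot] at this
    omega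
  have hw : X.σ u ∈ X.Om := X.σ_Om hu
  set w := X.σ u with hwdef
  have hne : u ≠ w := fun h => hu1 (X.no_fixed_Om hmove hu h.symm)
  have hw1 : w ≠ 1 := fun h => hu1 (X.σ.map_eq_one_iff.mp h)
  have hcom : u * w = w * u := X.A_comm hu.1 hw.1
  have hF := card_four hu.2 hw.2 hcom hu1 hw1 hne
  have hFle : four hu.2 hw.2 hcom ≤ X.Om := by
    rintro x (h | h | h | h) <;> rw [h]
    exacts [one_mem _, hu, hw, mul_mem hu hw]
  have hFeq := eq_of_le_of_card_ge hFle (X.card_Om_le.trans hF)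
  have hσw : X.σ w = u * w := by
    have h : X.σ w ∈ four hu.2 hw.2 hcom := hFeq.symm ▸ X.σ_Om hw
    rcases h with h | h | h | h
    · exact absurd (X.σ.map_eq_one_iff.mp h) hw1
    · exfalso
      have hf : X.σ (u * w) = u * w := by rw [map_mul, h, ← hwdef, hcom]
      exact hne (mul_right_cancel ((X.no_fixed_Om hmove (mul_mem hu hw) hf).trans hw.2.symm))
    · exact absurd (X.σ.injective (h.trans hwdef)).symm hne
    · exact h
  let ι : V → T := fun v => (if v.1 = 1 then u else 1) * (if v.2 = 1 then w else 1)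
  have hmem : ∀ v, ι v ∈ X.Om := fun v =>
    mul_mem (by split <;> first | exact hu | exact one_mem _) (by split <;> first | exact hw | exact one_mem _)
  have huw1 : u * w ≠ 1 := fun h => hne (mul_right_cancel (h.trans hw.2.symm))
  have z2 : ∀ x : ZMod 2, x = 0 ∨ x = 1 := by decide
  have huu' : ∀ x, x * u * u = x := fun x => by rw [mul_assoc, hu.2, mul_one]
  have hww' : ∀ x, x * w * w = x := fun x => by rw [mul_assoc, hw.2, mul_one]
  have hswap : ∀ x, x * w * u = x * u * w := fun x => by rw [mul_assoc, ← hcom, ← mul_assoc]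
  have hadd : ∀ v v', ι (v + v') = ι v * ι v' := by
    rintro ⟨a, b⟩ ⟨c, d⟩
    rcases z2 a with rfl | rfl <;> rcases z2 b with rfl | rfl <;> rcases z2 c with rfl | rfl <;>
      rcases z2 d with rfl | rfl <;>
      simp [ι, show (1 : ZMod 2) + 1 = 0 from rfl, hu.2, hw.2, hcom.symm, huu', hww', hswap, ← mul_assoc]
  have hker : ∀ v, ι v = 1 → v = 0 := by
    rintro ⟨a, b⟩ h
    rcases z2 a with rfl | rfl <;> rcases z2 b with rfl | rfl <;> simp [ι] at h ⊢
    · exact hw1 h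
    · exact hu1 h
    · exact huw1 h
  refine ⟨⟨ι, hmem, fun x hx => ?_, fun v v' h => ?_, hadd, ?_⟩⟩
  · have hx' : x ∈ four hu.2 hw.2 hcom := hFeq.symm ▸ hx
    rcases hx' with h | h | h | h <;> rw [h]
    exacts [⟨(0, 0), by simp [ι]⟩, ⟨(1, 0), by simp [ι]⟩, ⟨(0, 1), by simp [ι]⟩, ⟨(1, 1), by simp [ι]⟩]
  · have h0 : ι (v + v') = 1 := by rw [hadd, h]; exact (hmem v').2
    exact (by decide : ∀ v v' : V, v + v' = 0 → v = v') v v' (hker _ h0)
  · rintro ⟨a, b⟩
    rcases z2 a with rfl | rfl <;> rcases z2 b with rfl | rfl <;>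
      simp [ι, S, show (1 : ZMod 2) + 1 = 0 from rfl, ← hwdef, hσw]
    rw [← mul_assoc, ← hcom, mul_assoc u w w, hw.2, mul_one]

theorem dlt_Om {t w : T} (hw : w ∈ X.Om) : dlt t w = 1 :=
  X.δ_eq_one_iff.mpr ((mem_center_iff.mp ((X.Om_center hmove).1 hw) t).symm)

theorem dlt_pow_expA {t a : T} (ha : a ∈ X.A) : dlt t a ^ 2 ^ (X.expA - 1) = 1 := by
  rw [← X.δ_pow ha]
  refine X.dlt_Om hmove ⟨pow_mem ha _, ?_⟩
  rw [← pow_two, ← pow_mul, ← pow_succ, Nat.sub_add_cancel (X.one_le_expA hmove)]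
  exact X.pow_expA hmove ha

theorem coord_root (C : Coord X) (v : V) : ∃ a ∈ X.A, a ^ 2 ^ (X.expA - 1) = C.ι v :=
  X.root hmove 1 _ (by have := X.one_le_expA hmove; omega) _ (C.mem v).1
    (by rw [pow_one, pow_two]; exact (C.mem v).2)

theorem coord_of (C : Coord X) {a : T} (ha : a ∈ X.A) : ∃ v, a ^ 2 ^ (X.expA - 1) = C.ι v := by
  obtain ⟨v, hv⟩ := C.surj (a ^ 2 ^ (X.expA - 1)) ⟨pow_mem ha _, by
    rw [← pow_two, ← pow_mul, ← pow_succ, Nat.sub_add_cancel (X.one_le_expA hmove)]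
    exact X.pow_expA hmove ha⟩
  exact ⟨v, hv.symm⟩

theorem exists_enc (C : Coord X) {j : ℕ} {t : T} (hlow : ∀ a ∈ X.A, dlt t a ^ 2 ^ (j + 1) = 1) :
    ∃ e, C.IsEnc j t e := by
  have hval : ∀ a ∈ X.A, dlt t a ^ 2 ^ j ∈ X.Om := fun a ha =>
    ⟨pow_mem (X.δ_mem ha) _, by rw [← pow_two, ← pow_mul, ← pow_succ]; exact hlow a ha⟩
  obtain ⟨a1, ha1, h1⟩ := X.coord_root hmove C (1, 0)
  obtain ⟨a2, ha2, h2⟩ := X.coord_root hmove C (0, 1)
  obtain ⟨e1, he1⟩ := C.surj _ (hval a1 ha1)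
  obtain ⟨e2, he2⟩ := C.surj _ (hval a2 ha2)
  have hn := X.one_le_expA hmove
  refine ⟨(e1, e2), fun a ha v hv => ?_⟩
  set r := (if v.1 = 1 then a1 else 1) * (if v.2 = 1 then a2 else 1) with hr
  have hA1 : (if v.1 = 1 then a1 else 1) ∈ X.A := by split <;> first | exact ha1 | exact one_mem _
  have hA2 : (if v.2 = 1 then a2 else 1) ∈ X.A := by split <;> first | exact ha2 | exact one_mem _
  have hrA : r ∈ X.A := mul_mem hA1 hA2
  have hrv : r ^ 2 ^ (X.expA - 1) = C.ι v := by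
    rw [hr, (show Commute _ _ from X.A_comm hA1 hA2).mul_pow]
    obtain ⟨a, b⟩ := v
    have z2 : ∀ x : ZMod 2, x = 0 ∨ x = 1 := by decide
    rcases z2 a with rfl | rfl <;> rcases z2 b with rfl | rfl <;>
      simp [h1, h2, ← C.add, C.zero, Prod.mk_zero_zero]
  have hres : (a * r⁻¹) ^ 2 ^ (X.expA - 1) = 1 := by
    rw [(show Commute a r⁻¹ from X.A_comm ha (inv_mem hrA)).mul_pow, inv_pow, hv, hrv, mul_inv_cancel]
  obtain ⟨c, hc, hcr⟩ := X.root hmove (X.expA - 1) 1 (by omega) _ (mul_mem ha (inv_mem hrA)) hres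
  have e : a = c ^ 2 ^ 1 * r := by rw [hcr]; group
  rw [e, X.δ_mul (pow_mem hc _) hrA, (show Commute (dlt t (c ^ 2 ^ 1)) (dlt t r) from
    X.A_comm (X.δ_mem (pow_mem hc _)) (X.δ_mem hrA)).mul_pow, X.δ_pow hc, ← pow_mul, ← pow_add,
    Nat.add_comm 1 j, hlow c hc, one_mul, hr, X.δ_mul hA1 hA2,
    (show Commute _ _ from X.A_comm (X.δ_mem (t := t) hA1) (X.δ_mem (t := t) hA2)).mul_pow, app, C.add]
  congr 1 <;> split <;> simp [he1, he2, X.δ_one, C.zero]

omit hmove in
theorem enc_zero {C : Coord X} {j : ℕ} {t : T} (h : C.IsEnc j t 0)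
    (hcoord : ∀ a ∈ X.A, ∃ v, a ^ 2 ^ (X.expA - 1) = C.ι v) :
    ∀ a ∈ X.A, dlt t a ^ 2 ^ j = 1 := fun a ha => by
  obtain ⟨v, hv⟩ := hcoord a ha
  rw [h a ha v hv, Model.app_zero, C.zero]

theorem enc_unique {C : Coord X} {j : ℕ} {t : T} {e e' : V × V} (h : C.IsEnc j t e)
    (h' : C.IsEnc j t e') : e = e' := by
  refine Model.app_ext _ _ ?_ ?_
  · obtain ⟨a, ha, hv⟩ := X.coord_root hmove C (1, 0)
    exact C.inj ((h a ha _ hv).symm.trans (h' a ha _ hv))
  · obtain ⟨a, ha, hv⟩ := X.coord_root hmove C (0, 1)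
    exact C.inj ((h a ha _ hv).symm.trans (h' a ha _ hv))

omit hmove in
theorem enc_mul {C : Coord X} {j : ℕ} {s t : T} {e e' : V × V} (h : C.IsEnc j s e)
    (h' : C.IsEnc j t e') (hc : ∀ a ∈ X.A, dlt t (dlt s a) ^ 2 ^ j = 1) :
    C.IsEnc j (s * t) (e + e') := fun a ha v hv => by
  have h1 := X.δ_mem (t := t) ha
  have h2 := X.δ_mem (t := s) ha
  rw [X.δ_comp ha, (show Commute (dlt t a * dlt s a) _ from
      X.A_comm (mul_mem h1 h2) (X.δ_mem (t := t) h2)).mul_pow, hc a ha, mul_one,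
    (show Commute (dlt t a) _ from X.A_comm h1 h2).mul_pow, h' a ha v hv, h a ha v hv,
    Model.app_add, add_comm, C.add]

omit hmove in
theorem enc_σ {C : Coord X} {j : ℕ} {t : T} {e : V × V} (h : C.IsEnc j t e) :
    C.IsEnc j (X.σ t) (conjS e) := fun a ha v hv => by
  obtain ⟨b, rfl⟩ := X.σ.surjective a
  have hb : b ∈ X.A := by
    haveI := X.Hchar
    have h1 := Subgroup.characteristic_iff_comap_eq.mp (inferInstance : X.A.Characteristic) X.σ
    rw [← h1]
    exact ha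
  have hv' : b ^ 2 ^ (X.expA - 1) = C.ι (Sinv v) := X.σ.injective (by
    rw [map_pow, hv, C.equiv, Model.S_Sinv])
  rw [X.δ_apply, ← map_pow, h b hb _ hv', C.equiv, Model.app_conjS]

omit hmove in
theorem enc_A {C : Coord X} {j : ℕ} {t : T} (ht : t ∈ X.A) : C.IsEnc j t 0 := fun a ha v _ => by
  rw [X.δ_eq_one_iff.mpr (X.A_comm ha ht), one_pow, Model.app_zero, C.zero]

omit hmove in
theorem A_of_dlt (hD : X.D ≤ X.A) {t : T} (h : ∀ a ∈ X.A, dlt t a = 1) : t ∈ X.A :=
  hD (mem_centralizer_iff.mpr fun a ha => X.δ_eq_one_iff.mp (h a ha))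

omit hmove in
/-- The commutator with a central-modulo-`A` involution. -/
theorem comm_inverted {c x : T} (hc2 : c * c = 1) :
    (c⁻¹ * x⁻¹ * c * x) * (c⁻¹ * x⁻¹ * c * x) * dlt c (c⁻¹ * x⁻¹ * c * x) = 1 := by
  set b := c⁻¹ * x⁻¹ * c * x with hb
  have hci : c⁻¹ = c := inv_eq_of_mul_eq_one_right hc2
  have h1 : b * (c⁻¹ * b * c) = 1 := by
    rw [hb, hci]
    calc c * x⁻¹ * c * x * (c * (c * x⁻¹ * c * x) * c)
        = c * x⁻¹ * c * (x * (c * c) * x⁻¹) * (c * x * c) := by group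
      _ = c * x⁻¹ * c * (x * 1 * x⁻¹) * (c * x * c) := by rw [hc2]
      _ = c * x⁻¹ * (c * c) * x * c := by group
      _ = 1 := by rw [hc2, mul_one, mul_assoc c, inv_mul_cancel, mul_one, hc2]
  rw [dlt]
  calc b * b * (b⁻¹ * (c⁻¹ * b * c)) = b * (c⁻¹ * b * c) := by group
    _ = 1 := h1

theorem low_mem_A (h2 : 2 ≤ X.expA) (hD : X.D ≤ X.A) (hL : ∀ t, (∀ a ∈ X.A, dlt t a ^ 2 = 1) →
      3 ≤ X.expA → t ∈ X.A) :
    ∀ j, j ≤ X.expA - 2 → ∀ t, (∀ a ∈ X.A, dlt t a ^ 2 ^ j = 1) → t ∈ X.A := by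
  intro j
  induction j with
  | zero => exact fun _ t h => X.A_of_dlt hD fun a ha => by simpa using h a ha
  | succ j ih =>
    intro hj t h
    rcases Nat.eq_zero_or_pos j with rfl | hj1
    · exact hL t (fun a ha => by simpa using h a ha) (by omega)
    refine ih (by omega) t fun a ha => ?_
    have hd := X.δ_mem (t := t) ha
    have htt : t * t ∈ X.A := ih (by omega) (t * t) fun b hb => by
      have hb' := X.δ_mem (t := t) hb
      rw [X.δ_comp hb, (show Commute (dlt t b * dlt t b) _ from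
          X.A_comm (mul_mem hb' hb') (X.δ_mem (t := t) hb')).mul_pow, ← pow_two, ← pow_mul, ← pow_succ',
        h b hb, one_mul, ← X.δ_pow hb']
      exact X.dlt_Om hmove ⟨pow_mem hb' _, by rw [← pow_two, ← pow_mul, ← pow_succ]; exact h b hb⟩
    have e0 := X.δ_comp (s := t) (t := t) ha
    rw [X.δ_eq_one_iff.mpr (X.A_comm ha htt)] at e0
    have e1 : dlt t (dlt t a) ^ 2 ^ (j - 1) = 1 := by
      rw [← X.δ_pow hd]
      obtain ⟨y, hy, hyx⟩ := X.root hmove 2 (X.expA - 2) (by omega) _ (pow_mem hd (2 ^ (j - 1))) (by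
        rw [← pow_mul, ← pow_add, show j - 1 + 2 = j + 1 by omega]; exact h a ha)
      rw [← hyx, X.δ_pow hy]
      obtain ⟨i, hi⟩ := Nat.exists_eq_add_of_le hj
      rw [hi, pow_add, pow_mul, h y hy, one_pow]
    have e2 := congrArg (· ^ 2 ^ (j - 1)) e0
    simp only [one_pow] at e2
    rw [(show Commute (dlt t a * dlt t a) _ from X.A_comm (mul_mem hd hd) (X.δ_mem (t := t) hd)).mul_pow,
      e1, mul_one, ← pow_two, ← pow_mul, ← pow_succ', show j - 1 + 1 = j by omega] at e2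
    exact e2.symm

theorem L_eq_A (h3 : 3 ≤ X.expA) (hD : X.D ≤ X.A) {t : T} (ht : ∀ a ∈ X.A, dlt t a ^ 2 = 1) :
    t ∈ X.A := by
  obtain ⟨C⟩ := X.exists_coord hmove
  obtain ⟨hOc, hO4⟩ := X.Om_center hmove
  have hz : ∀ {s u : T}, (∀ a ∈ X.A, dlt s a ^ 2 = 1) → ∀ a ∈ X.A, dlt u (dlt s a) = 1 :=
    fun {s u} hs a ha => X.dlt_Om hmove ⟨X.δ_mem ha, by rw [← pow_two]; exact hs a ha⟩
  have hcomp : ∀ {s u : T}, (∀ a ∈ X.A, dlt s a ^ 2 = 1) → ∀ a ∈ X.A,
      dlt (s * u) a = dlt u a * dlt s a := fun {s u} hs a ha => by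
    rw [X.δ_comp ha, hz hs a ha, mul_one]
  let L : Subgroup T :=
    { carrier := {s | ∀ a ∈ X.A, dlt s a ^ 2 = 1}
      one_mem' := fun a _ => by simp [dlt]
      mul_mem' := fun {s u} hs hu a ha => by
        rw [hcomp hs a ha, (show Commute _ _ from X.A_comm (X.δ_mem (t := u) ha) (X.δ_mem (t := s) ha)).mul_pow,
          hu a ha, hs a ha, one_mul]
      inv_mem' := fun {s} hs a ha => by
        have h := hcomp (u := s⁻¹) hs a ha
        rw [mul_inv_cancel, show dlt (1 : T) a = 1 by simp [dlt], eq_comm, mul_eq_one_iff_eq_inv] at h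
        rw [h, inv_pow, hs a ha, inv_one] }
  haveI : L.Normal := ⟨fun s hs g a ha => by
    have hb : g⁻¹ * a * g ∈ X.A := by simpa using X.normal_A.conj_mem a ha g⁻¹
    have hsm : dlt s (g⁻¹ * a * g) ∈ X.Om := ⟨X.δ_mem hb, by rw [← pow_two]; exact hs _ hb⟩
    have e : dlt (g * s * g⁻¹) a = g * dlt s (g⁻¹ * a * g) * g⁻¹ := by simp only [dlt]; group
    rw [e, mem_center_iff.mp (hOc hsm) g, mul_inv_cancel_right]
    exact hs _ hb⟩
  have hAL : X.A ≤ L := fun s hs a ha => by rw [X.δ_eq_one_iff.mpr (X.A_comm ha hs), one_pow]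
  by_contra htA
  obtain ⟨c, hcL, hcA, hcc, hcent⟩ := SecRank.exists_central_step X.pT hAL fun hle => htA (hle ht)
  have hσL : ∀ {s}, s ∈ L → X.σ s ∈ L := fun {s} hs a ha => by
    obtain ⟨b, rfl⟩ := X.σ.surjective a
    have hb : b ∈ X.A := by
      haveI := X.Hchar
      rw [← Subgroup.characteristic_iff_comap_eq.mp (inferInstance : X.A.Characteristic) X.σ]
      exact ha
    rw [X.δ_apply, ← map_pow, hs b hb, map_one]
  -- central modulo `A`
  let Z : Subgroup T := (Subgroup.center (T ⧸ X.A)).comap (QuotientGroup.mk' X.A) ⊓ L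
  have hZ : ∀ {s}, s ∈ Z → ∀ x : T, s⁻¹ * x⁻¹ * s * x ∈ X.A := fun {s} hs x => by
    rw [← QuotientGroup.eq_one_iff]
    show QuotientGroup.mk' X.A (s⁻¹ * x⁻¹ * s * x) = 1
    rw [map_mul, map_mul, map_mul, map_inv, map_inv, mul_assoc _ _ (QuotientGroup.mk' X.A x),
      ← (mem_center_iff.mp hs.1 _)]
    group
  have hcZ : c ∈ Z := ⟨mem_center_iff.mpr fun y => by
    obtain ⟨g, rfl⟩ := QuotientGroup.mk'_surjective X.A y
    rw [← map_mul, ← map_mul]
    exact (QuotientGroup.eq.mpr (by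
      have e : (c * g)⁻¹ * (g * c) = (c⁻¹ * (g⁻¹ * c * g))⁻¹ * (c⁻¹ * (g⁻¹ * c * g)) * (g⁻¹ * c⁻¹ * g * c) := by group
      rw [e, inv_mul_cancel, one_mul]
      have h := hcent g
      have e2 : g⁻¹ * c⁻¹ * g * c = (c⁻¹ * (g⁻¹ * c * g))⁻¹ := by group
      rw [e2]; exact inv_mem h)).symm, hcL⟩
  have hσZ : ∀ {s}, s ∈ Z → X.σ s ∈ Z := fun {s} hs => ⟨mem_center_iff.mpr fun y => by
    obtain ⟨g, rfl⟩ := QuotientGroup.mk'_surjective X.A y
    obtain ⟨g', rfl⟩ := X.σ.surjective g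
    show QuotientGroup.mk' X.A (X.σ g') * QuotientGroup.mk' X.A (X.σ s) = _
    rw [← X.σq_mk, ← X.σq_mk, ← map_mul X.σq, ← map_mul X.σq, mem_center_iff.mp hs.1 _], hσL hs.2⟩
  have encL : ∀ {s}, s ∈ L → ∃ e, C.IsEnc 0 s e := fun {s} hs =>
    X.exists_enc hmove C fun a ha => by simpa using hs a ha
  have encmul : ∀ {s u : T} {e e' : V × V}, s ∈ L → C.IsEnc 0 s e → C.IsEnc 0 u e' →
      C.IsEnc 0 (s * u) (e + e') := fun {s u e e'} hs he he' =>
    X.enc_mul he he' fun a ha => by rw [hz hs a ha, one_pow]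
  obtain ⟨e, he⟩ := encL hcL
  have he0 : e ≠ 0 := by
    rintro rfl
    refine hcA (X.A_of_dlt hD fun a ha => ?_)
    simpa using X.enc_zero he (fun a ha => X.coord_of hmove C ha) a ha
  obtain ⟨g, hgZ, eg, heg, hinj⟩ : ∃ g ∈ Z, ∃ eg, C.IsEnc 0 g eg ∧ ∀ v, app eg v = 0 → v = 0 := by
    rcases Model.exists_injective e he0 with h | h
    · exact ⟨c, hcZ, e, he, h⟩
    · exact ⟨c * X.σ c * X.σ (X.σ c), mul_mem (mul_mem hcZ (hσZ hcZ)) (hσZ (hσZ hcZ)), _,
        encmul (mul_mem hcL (hσL hcL)) (encmul hcL he (X.enc_σ he)) (X.enc_σ (X.enc_σ he)), h⟩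
  have hgA : g ∉ X.A := fun h => by
    have := X.enc_unique hmove heg (X.enc_A h)
    subst this
    exact absurd (hinj (1, 0) (Model.app_zero _)) (by decide)
  have hggA : g * g ∈ X.A := X.A_of_dlt hD fun a ha => by
    rw [hcomp hgZ.2 a ha, ← pow_two]; exact hgZ.2 a ha
  obtain ⟨b0, hb0, hb0g⟩ : ∃ b ∈ X.A, b * b = g * g := by
    obtain ⟨v, hv⟩ := X.coord_of hmove C hggA
    have h1 := heg _ hggA v hv
    rw [X.δ_eq_one_iff.mpr (mul_assoc g g g), one_pow, eq_comm, C.eq_one] at h1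
    rw [hinj v h1, C.zero] at hv
    obtain ⟨b, hb, hbg⟩ := X.root hmove (X.expA - 1) 1 (by omega) _ hggA hv
    exact ⟨b, hb, by rwa [pow_one, pow_two] at hbg⟩
  -- `b ↦ b² δ(b)` has kernel in `Ω₁(A)` and image `A²`
  have hker : ∀ b ∈ X.A, b * b * dlt g b = 1 → b ∈ X.Om := by
    intro b hb h
    have hd := X.δ_mem (t := g) hb
    have hbb : b ^ 2 = (dlt g b)⁻¹ := by rw [pow_two]; exact eq_inv_of_mul_eq_one_left h
    have h4 : b ^ 2 ^ 2 = 1 := by
      rw [show 2 ^ 2 = 2 * 2 from rfl, pow_mul, hbb, inv_pow, hgZ.2 b hb, inv_one]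
    obtain ⟨c', hc', hcb⟩ := X.root hmove 2 1 (by omega) b hb h4
    refine ⟨hb, ?_⟩
    rw [← pow_two, hbb, ← hcb, X.δ_pow hc', pow_one, hgZ.2 c' hc', inv_one]
  let ψ : X.A →* T :=
    { toFun := fun b => (b : T) * b * dlt g b
      map_one' := by simp [dlt]
      map_mul' := fun a b => by
        have hd := X.δ_mem (t := g) (a := (a : T)) a.2
        rw [Subgroup.coe_mul, X.δ_mul a.2 b.2]
        calc (a : T) * b * (a * b) * (dlt g a * dlt g b)
            = a * (b * a) * b * (dlt g a * dlt g b) := by group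
          _ = a * (a * b) * b * (dlt g a * dlt g b) := by rw [X.A_comm b.2 a.2]
          _ = a * a * ((b * b) * dlt g a) * dlt g b := by group
          _ = a * a * (dlt g a * (b * b)) * dlt g b := by rw [X.A_comm (mul_mem b.2 b.2) hd]
          _ = _ := by group }
  have hψ : (⊤ : Subgroup X.A).map ψ ≤ X.pw 1 := by
    rintro _ ⟨b, -, rfl⟩
    refine mul_mem (X.mem_pw_one.mpr ⟨b, b.2, rfl⟩) (X.Om_le_pw hmove (by omega) ⟨X.δ_mem b.2, ?_⟩)
    rw [← pow_two]; exact hgZ.2 _ b.2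
  have hψeq : (⊤ : Subgroup X.A).map ψ = X.pw 1 := by
    refine eq_of_le_of_card_ge hψ ?_
    have h := SecRank.card_split ψ ⊤
    rw [card_top, top_inf_eq, X.card_A_eq, hO4] at h
    have hk : Nat.card ψ.ker ≤ 4 := by
      rw [← hO4, ← card_map_of_injective X.A.subtype_injective]
      refine card_le_of_le ?_
      rintro _ ⟨b, hb, rfl⟩
      exact hker _ b.2 hb
    nlinarith [Nat.zero_le (Nat.card ((⊤ : Subgroup X.A).map ψ))]
  obtain ⟨⟨b, hb⟩, -, hψb⟩ : (g * g)⁻¹ ∈ (⊤ : Subgroup X.A).map ψ := by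
    rw [hψeq]
    exact inv_mem (X.mem_pw_one.mpr ⟨b0, hb0, hb0g⟩)
  have hinv : g * b * (g * b) = 1 := by
    have h' : b * b * dlt g b = (g * g)⁻¹ := hψb
    have hd := X.δ_mem (t := g) hb
    calc g * b * (g * b) = g * g * (g⁻¹ * b * g) * b := by group
      _ = g * g * (b * dlt g b) * b := by rw [dlt]; group
      _ = g * g * (b * (dlt g b * b)) := by group
      _ = g * g * (b * (b * dlt g b)) := by rw [X.A_comm hd hb]
      _ = g * g * (g * g)⁻¹ := by rw [← mul_assoc b b, h']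
      _ = 1 := mul_inv_cancel _
  have hsame : ∀ a ∈ X.A, dlt (g * b) a = dlt g a := fun a ha => by
    rw [hcomp hgZ.2 a ha, X.δ_eq_one_iff.mpr (X.A_comm ha hb), one_mul]
  refine X.no_normal_four hOc hO4 hinv (fun h => hgA (by simpa using mul_mem h (inv_mem hb))) fun x => ?_
  have hbA : (g * b)⁻¹ * x⁻¹ * (g * b) * x ∈ X.A := by
    have h1 := hZ hgZ x
    have e : (g * b)⁻¹ * x⁻¹ * (g * b) * x = b⁻¹ * (g⁻¹ * x⁻¹ * g * x) * (x⁻¹ * b * x) := by group
    rw [e]
    exact mul_mem (mul_mem (inv_mem hb) h1) (by simpa using X.normal_A.conj_mem b hb x⁻¹)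
  refine hker _ hbA ?_
  rw [← hsame _ hbA]
  exact X.comm_inverted hinv

theorem prank_of_top (h : (⊤ : Subgroup T) ≤ X.A) : Cfsg.PRankLE 2 2 T := by
  intro E _ hsq
  refine (card_le_of_le (K := X.Om) fun e he => ⟨h (mem_top e), ?_⟩).trans
    (X.card_Om_le.trans (by norm_num))
  rw [← pow_two]; exact hsq e he

theorem trans_cases : Nat.card T = 4 ∨ Nat.card T = 64 ∨ Nat.card T = 128 ∨ Cfsg.PRankLE 2 2 T ∨
    Nonempty (TransShape T) := by
  have hn1 := X.one_le_expA hmove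
  rcases Nat.lt_or_ge X.expA 2 with hn | hn
  · rcases X.cases_one hmove (by omega) with h | h
    exacts [Or.inl h, Or.inr (Or.inl h)]
  obtain ⟨C⟩ := X.exists_coord hmove
  obtain ⟨hOc, hO4⟩ := X.Om_center hmove
  have hD := X.D_le_A hmove hn
  set j := X.expA - 2 with hj
  have hinjE : ∀ t, (∀ a ∈ X.A, dlt t a ^ 2 ^ j = 1) → t ∈ X.A :=
    X.low_mem_A hmove hn hD (fun t ht h3 => X.L_eq_A hmove h3 hD ht) j le_rfl
  have henc : ∀ t, ∃ e, C.IsEnc j t e := fun t => X.exists_enc hmove C fun a ha => by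
    rw [show j + 1 = X.expA - 1 by omega]; exact X.dlt_pow_expA hmove ha
  choose E hE using henc
  have hE0 : ∀ t, E t = 0 → t ∈ X.A := fun t h => hinjE t fun a ha =>
    X.enc_zero (h ▸ hE t) (fun a ha => X.coord_of hmove C ha) a ha
  have hEA : ∀ {t}, t ∈ X.A → E t = 0 := fun {t} ht => X.enc_unique hmove (hE t) (X.enc_A ht)
  have hEmul : ∀ s t, E (s * t) = E s + E t := fun s t => X.enc_unique hmove (hE _)
    (X.enc_mul (hE s) (hE t) fun a ha => by
      rw [← X.δ_pow (X.δ_mem ha)]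
      refine X.dlt_Om hmove ⟨pow_mem (X.δ_mem ha) _, ?_⟩
      rw [← pow_two, ← pow_mul, ← pow_succ, show j + 1 = X.expA - 1 by omega]
      exact X.dlt_pow_expA hmove ha)
  have hEinv : ∀ t, E t⁻¹ = E t := fun t => by
    have h := hEmul t⁻¹ t
    rw [inv_mul_cancel, hEA (one_mem _)] at h
    have : E t⁻¹ + E t + E t = E t := by rw [← h, zero_add]
    rwa [add_assoc, Model.add_self_pair, add_zero] at this
  have hEσ : ∀ t, E (X.σ t) = conjS (E t) := fun t => X.enc_unique hmove (hE _) (X.enc_σ (hE t))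
  have hEeq : ∀ s t, E s = E t → s⁻¹ * t ∈ X.A := fun s t h => hE0 _ (by
    rw [hEmul, hEinv, h, Model.add_self_pair])
  have hsq : ∀ t : T, t * t ∈ X.A := fun t => hE0 _ (by rw [hEmul, Model.add_self_pair])
  have hab : ∀ s x : T, s⁻¹ * x⁻¹ * s * x ∈ X.A := fun s x => hE0 _ (by
    rw [hEmul, hEmul, hEmul, hEinv, hEinv, add_right_comm (E s), Model.add_self_pair, zero_add,
      Model.add_self_pair])
  -- the image
  let φ : T →* Multiplicative (V × V) :=
    MonoidHom.mk' (fun t => Multiplicative.ofAdd (E t)) fun s t => by rw [hEmul, ofAdd_add]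
  have hφ : φ.ker = X.A := by
    ext t
    rw [MonoidHom.mem_ker]
    exact ⟨fun h => hE0 t (ofAdd_eq_one.mp h), fun h => ofAdd_eq_one.mpr (hEA h)⟩
  have hcard : Nat.card T = Nat.card φ.range * Nat.card X.A := by
    rw [← Subgroup.index_ker φ, hφ, mul_comm, card_mul_index]
  obtain ⟨k, hk⟩ : ∃ k, Nat.card φ.range = 2 ^ k := by
    haveI := fact_two
    exact IsPGroup.iff_card.mp (X.pT.of_surjective φ.rangeRestrict φ.rangeRestrict_surjective)
  have hk4 : k ≤ 4 := by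
    have h : Nat.card φ.range ≤ 16 := (Subgroup.card_le_card_group _).trans (le_of_eq (by simp [Nat.card_prod]))
    exact (Nat.pow_le_pow_iff_right (show 1 < 2 by norm_num)).mp (hk ▸ h)
  have hA := X.card_A hmove
  rcases Nat.eq_zero_or_pos k with rfl | hk0
  · right; right; right; left
    refine X.prank_of_top hmove fun t _ => ?_
    rw [pow_zero, card_eq_one] at hk
    rw [← hφ, MonoidHom.mem_ker, ← mem_bot, ← hk]
    exact ⟨t, rfl⟩
  obtain ⟨t0, ht0⟩ : ∃ t, t ∉ X.A := by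
    by_contra! h
    have : φ.range = ⊥ := (eq_bot_iff).mpr (by
      rintro _ ⟨t, rfl⟩
      rw [mem_bot, ← MonoidHom.mem_ker, hφ]; exact h t)
    rw [this, card_bot] at hk
    exact absurd hk (by
      have : 2 ^ 1 ≤ 2 ^ k := Nat.pow_le_pow_right (by norm_num) hk0
      omega)
  have hidx2 : k = 1 → ∀ s, s ∉ X.A → E s = E t0 := by
    intro h1 s hs
    by_contra hne
    classical
    haveI := Fintype.ofFinite φ.range
    let S3 : Finset φ.range := {1, ⟨φ t0, t0, rfl⟩, ⟨φ s, s, rfl⟩}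
    have h3 : S3.card = 3 := by
      have a1 : φ t0 ≠ 1 := fun e => ht0 (hφ ▸ (MonoidHom.mem_ker.mpr e))
      have a2 : φ s ≠ 1 := fun e => hs (hφ ▸ (MonoidHom.mem_ker.mpr e))
      have a3 : φ t0 ≠ φ s := fun e => hne (Multiplicative.ofAdd.injective e).symm
      simp only [S3]
      repeat rw [Finset.card_insert_of_notMem]
      · simp
      all_goals simp [Subtype.ext_iff, a1.symm, a2.symm, a3]
    have := Finset.card_le_univ S3
    rw [h3, ← Nat.card_eq_fintype_card, hk, h1] at this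
    omega
  have hfixedgen : ∀ t, conjS (E t) = E t → ∃ c, E c = E t ∧ X.σ c = c ∧ c * c = 1 := by
    intro t h
    obtain ⟨c, hc, hcf, hc2⟩ := X.fixed_involution hmove (hEeq t (X.σ t) (by rw [hEσ, h])) (hsq t)
    refine ⟨c, ?_, hcf, hc2⟩
    have h1 := hEA hc
    rw [hEmul, hEinv] at h1
    have : E t + (E t + E c) = E t := by rw [h1, add_zero]
    rwa [← add_assoc, Model.add_self_pair, zero_add] at this
  have no_rot : ∀ t, E t = Model.sE ∨ E t = Model.sE2 → X.expA = 2 → False := by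
    intro t ht h2
    have hj0 : j = 0 := by omega
    obtain ⟨c, hc, hcf, hc2⟩ := hfixedgen t (by rcases ht with h | h <;> rw [h] <;> decide)
    refine X.no_normal_four hOc hO4 hc2 (fun h => ?_) fun x => ?_
    · rw [hEA h] at hc
      rcases ht with h' | h' <;> rw [h'] at hc <;> exact absurd hc (by decide)
    · have hbA := hab c x
      set b := c⁻¹ * x⁻¹ * c * x
      refine ⟨hbA, ?_⟩
      have hinv := X.comm_inverted (x := x) hc2
      obtain ⟨v, hv⟩ := X.coord_of hmove C hbA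
      rw [h2] at hv
      norm_num at hv
      have h1 : b * b = C.ι v := by rw [← pow_two]; exact hv
      have h4 := hE c b hbA v (by rw [h2]; norm_num; exact hv)
      rw [hj0, pow_zero, pow_one] at h4
      change b * b * dlt c b = 1 at hinv
      rw [h1, h4, ← C.add, C.eq_one] at hinv
      have hfp : app (E c) v = v := (by decide : ∀ a b : V, a + b = 0 → b = a) _ _ hinv
      rw [h1, Model.fixed_point_free (E c) (hc ▸ ht) v hfp, C.zero]
  rcases Nat.lt_or_ge X.expA 3 with hn3 | hn3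
  · have h2 : X.expA = 2 := by omega
    rw [h2] at hA
    rw [hA, hk] at hcard
    interval_cases k
    · -- `|T/A| = 2`
      exfalso
      have hσt : X.σ t0 ∉ X.A := fun h => ht0 (hE0 t0 (by
        have := hEA h
        rw [hEσ] at this
        exact (by decide : ∀ e, conjS e = 0 → e = 0) _ this))
      have hcj : conjS (E t0) = E t0 := by rw [← hEσ]; exact hidx2 rfl _ hσt
      rcases Model.commutant _ hcj with h | h | h | h
      · exact ht0 (hE0 _ h)
      · obtain ⟨c, hc, hcf, hc2⟩ := hfixedgen t0 hcj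
        have hcA : c ∉ X.A := fun hh => ht0 (hE0 _ (by rw [← hc]; exact hEA hh))
        refine X.no_normal_four hOc hO4 hc2 hcA fun x => ?_
        have main : ∀ a ∈ X.A, c⁻¹ * a⁻¹ * c * a ∈ X.Om := fun a ha => by
          have e : c⁻¹ * a⁻¹ * c * a = (dlt c a)⁻¹ * 1 := by rw [dlt]; group
          have e' : c⁻¹ * a⁻¹ * c * a = (dlt c a)⁻¹ := by rw [e, mul_one]
          rw [e']
          refine inv_mem ⟨X.δ_mem ha, ?_⟩
          have := X.dlt_pow_expA hmove (t := c) ha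
          rw [h2] at this
          norm_num at this
          rw [← pow_two]; exact this
        by_cases hx : x ∈ X.A
        · exact main x hx
        · have hax : c⁻¹ * x ∈ X.A := hEeq c x (by rw [hidx2 rfl x hx, hc])
          have e : c⁻¹ * x⁻¹ * c * x = c⁻¹ * (c⁻¹ * x)⁻¹ * c * (c⁻¹ * x) := by group
          rw [e]; exact main _ hax
      · exact no_rot t0 (Or.inl h) h2
      · exact no_rot t0 (Or.inr h) h2
    · right; left; rw [hcard]; norm_num
    · right; right; left; rw [hcard]; norm_num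
    · -- `T/A` is the whole endomorphism group
      exfalso
      have htop : φ.range = ⊤ := eq_top_of_card_eq _ (by rw [hk]; simp [Nat.card_prod])
      obtain ⟨t, ht⟩ : Multiplicative.ofAdd Model.sE ∈ φ.range := htop ▸ mem_top _
      exact no_rot t (Or.inl (Multiplicative.ofAdd.injective ht)) h2
  -- exponent at least eight
  have hidem : ∀ t v, app (E t) (app (E t) v) = app (E t) v := by
    intro t v
    obtain ⟨a, ha, hv⟩ := X.coord_root hmove C v
    have hd := X.δ_mem (t := t) ha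
    have e0 := X.δ_comp (s := t) (t := t) ha
    rw [X.δ_eq_one_iff.mpr (X.A_comm ha (hsq t))] at e0
    have e2 := congrArg (· ^ 2 ^ (j - 1)) e0
    simp only [one_pow] at e2
    rw [(show Commute (dlt t a * dlt t a) _ from X.A_comm (mul_mem hd hd) (X.δ_mem (t := t) hd)).mul_pow,
      ← pow_two, ← pow_mul, ← pow_succ', show j - 1 + 1 = j by omega, hE t a ha v hv,
      ← X.δ_pow hd] at e2
    obtain ⟨y, hy, hyx⟩ := X.root hmove 2 j (by omega) _ (pow_mem hd (2 ^ (j - 1))) (by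
      rw [← pow_mul, ← pow_add, show j - 1 + 2 = X.expA - 1 by omega]
      exact X.dlt_pow_expA hmove ha)
    have hyv : y ^ 2 ^ (X.expA - 1) = C.ι (app (E t) v) := by
      rw [show X.expA - 1 = j + 1 by omega, pow_succ, pow_mul, hyx, ← pow_mul, ← pow_succ,
        show j - 1 + 1 = j by omega]
      exact hE t a ha v hv
    rw [← hyx, X.δ_pow hy, hE t y hy _ hyv, ← C.add, eq_comm, C.eq_one] at e2
    exact (by decide : ∀ a b : V, a + b = 0 → b = a) _ _ e2
  have hone : ∀ t, t ∉ X.A → E t = Model.one := fun t ht =>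
    (Model.idem (E t) (hidem t) (hEσ t ▸ hidem (X.σ t))
      (by rw [← hEσ, ← hEmul]; exact hidem _)).resolve_left fun h => ht (hE0 t h)
  have hk1 : k = 1 := by
    have h : Nat.card φ.range ≤ 2 := by
      have hsub : (φ.range : Set (Multiplicative (V × V))) ⊆ {1, Multiplicative.ofAdd Model.one} := by
        rintro _ ⟨t, rfl⟩
        by_cases ht : t ∈ X.A
        · exact Or.inl (ofAdd_eq_one.mpr (hEA ht))
        · exact Or.inr (congrArg Multiplicative.ofAdd (hone t ht))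
      calc Nat.card φ.range = Set.ncard (φ.range : Set (Multiplicative (V × V))) := Nat.card_coe_set_eq _
        _ ≤ _ := Set.ncard_le_ncard hsub (Set.toFinite _)
        _ ≤ 2 := by simpa using Set.ncard_insert_le (1 : Multiplicative (V × V)) {Multiplicative.ofAdd Model.one}
    rw [hk] at h
    have : k ≤ 1 := (Nat.pow_le_pow_iff_right (show 1 < 2 by norm_num)).mp (h.trans_eq (pow_one 2).symm)
    omega
  rw [hk, hk1] at hcard
  rcases Nat.lt_or_ge X.expA 4 with hn4 | hn4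
  · right; right; left
    rw [hcard, hA, show X.expA = 3 by omega]; norm_num
  right; right; right; right
  obtain ⟨c, hc, hcf, hc2⟩ := hfixedgen t0 (by rw [hone t0 ht0]; decide)
  refine ⟨⟨X.A, X.Om, fun w hw => hw.1, hOc, fun w hw => hw.2, hO4, fun a ha h => ⟨ha, h⟩, ?_, c, hc2,
    fun h => ht0 (hE0 _ (by rw [← hc]; exact hEA h)), fun x hx _ u hu => ?_⟩⟩
  · have h := card_mul_index X.A
    rw [hcard, mul_comm, pow_one] at h
    exact Nat.eq_of_mul_eq_mul_right Nat.card_pos h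
  · obtain ⟨v, rfl⟩ := C.surj u hu
    obtain ⟨y, hy, hyv⟩ := X.coord_root hmove C v
    refine ⟨y ^ 2 ^ j, pow_mem hy _, ?_⟩
    have h := hE x y hy v hyv
    rw [hone x hx, Model.app_one, ← X.δ_pow hy, dlt] at h
    set a := y ^ 2 ^ j
    have haA : a ∈ X.A := pow_mem hy _
    have h' : x⁻¹ * a * x = a * C.ι v := by rw [← h]; group
    have huu : C.ι v * C.ι v = 1 := (C.mem v).2
    calc a⁻¹ * x * a = a⁻¹ * x * (a * C.ι v) * (C.ι v)⁻¹ := by group
      _ = a⁻¹ * x * (x⁻¹ * a * x) * (C.ι v)⁻¹ := by rw [h']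
      _ = x * (C.ι v)⁻¹ := by group
      _ = x * C.ι v := by rw [inv_eq_of_mul_eq_one_right huu]

end Ctx

end Cfsg.Agent.NormalRankTwo
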