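import Cfsg.Agent.Lib.NormalRankTwo.FixedEnd
import Cfsg.Agent.Lib.NormalRankTwo.TransEnd
import Cfsg.Agent.Lib.RankTwoSimple.Basic
import Cfsg.Agent.Lib.CyclicFourFixed.Basic
import Cfsg.Agent.Lib.Transfer.Thompson

/-!
# Normal rank two: the two fusion arguments
-/

set_option autoImplicit false
set_option linter.style.haveILetI false

namespace Cfsg.Agent.NormalRankTwo

open Subgroup

universe u

variable {G : Type u} [Group G] [Finite G] (T : Sylow 2 G)

/-- An element of `T` conjugate to a central element: the centralizer in `T` can be moved into `T`. -/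
theorem exists_conj_centralizer {z x g0 : G} (hzc : ∀ c ∈ T, c * z = z * c) (hg : g0 * x * g0⁻¹ = z) :
    ∃ g : G, g * x * g⁻¹ = z ∧ ∀ c ∈ T, c * x = x * c → g * c * g⁻¹ ∈ T := by
  haveI : Fact (Nat.Prime 2) := ⟨Nat.prime_two⟩
  set C := centralizer ({z} : Set G) with hC
  have hTC : (T : Subgroup G) ≤ C := fun c hc => mem_centralizer_singleton_iff.mpr (hzc c hc)
  set K := ((T : Subgroup G) ⊓ centralizer ({x} : Set G)).map (MulAut.conj g0).toMonoidHom with hK
  have hKC : K ≤ C := by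
    rintro _ ⟨c, hc, rfl⟩
    have h := mem_centralizer_singleton_iff.mp hc.2
    refine mem_centralizer_singleton_iff.mpr ?_
    simp only [MulEquiv.coe_toMonoidHom, MulAut.conj_apply]
    rw [← hg, show g0 * c * g0⁻¹ * (g0 * x * g0⁻¹) = g0 * (c * x) * g0⁻¹ by group, h]
    group
  have hKp : IsPGroup 2 K := (T.isPGroup'.to_le inf_le_left).map _
  obtain ⟨Q, hQ⟩ := (hKp.of_equiv (subgroupOfEquivOfLe hKC).symm).exists_le_sylow
  obtain ⟨h, hh⟩ := MulAction.exists_smul_eq C Q (T.subtype hTC)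
  have hhz := mem_centralizer_singleton_iff.mp h.2
  refine ⟨(h : G) * g0, ?_, fun c hc hcx => ?_⟩
  · rw [show (h : G) * g0 * x * ((h : G) * g0)⁻¹ = (h : G) * (g0 * x * g0⁻¹) * (h : G)⁻¹ by group, hg,
      hhz, mul_inv_cancel_right]
  · have hk : g0 * c * g0⁻¹ ∈ K :=
      ⟨c, ⟨hc, mem_centralizer_singleton_iff.mpr hcx⟩, rfl⟩
    have h1 : (⟨g0 * c * g0⁻¹, hKC hk⟩ : C) ∈ (Q : Subgroup C) := hQ hk
    have h2 : h * ⟨g0 * c * g0⁻¹, hKC hk⟩ * h⁻¹ ∈ ((h • Q : Sylow 2 C) : Subgroup C) := by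
      rw [Sylow.smul_def]
      exact ⟨_, h1, rfl⟩
    rw [hh] at h2
    have h3 : (h : G) * (g0 * c * g0⁻¹) * (h : G)⁻¹ ∈ (T : Subgroup G) := h2
    have e : (h : G) * g0 * c * ((h : G) * g0)⁻¹ = (h : G) * (g0 * c * g0⁻¹) * (h : G)⁻¹ := by group
    rw [e]
    exact h3

variable [IsSimpleGroup G] (hG : ¬ IsMulCommutative G)

include hG

/-- The quaternion central product is impossible when no two central involutions are fused. -/
theorem no_fixedShape
    (hfix : ∀ z g : G, z ∈ T → (∀ c ∈ T, c * z = z * c) → z * z = 1 → g * z * g⁻¹ ∈ T →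
      (∀ c ∈ T, c * (g * z * g⁻¹) = g * z * g⁻¹ * c) → g * z * g⁻¹ = z)
    (S : FixedShape (T : Subgroup G)) : False := by
  obtain ⟨⟨z, hzT⟩, T0, hzc, hz1, hz2, hsq, hout, hquat, hcomm⟩ := S
  have hzc' : ∀ c ∈ T, c * z = z * c := fun c hc =>
    congrArg Subtype.val (mem_center_iff.mp hzc ⟨c, hc⟩)
  have hz2' : z * z = 1 := congrArg Subtype.val hz2
  have hord : orderOf z = 2 :=
    orderOf_eq_prime (by rw [pow_two]; exact hz2') fun h => hz1 (Subtype.ext h)
  have hiso := RankTwoSimple.not_isolated hG z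
  rw [Cfsg.IsIsolatedInvolution] at hiso
  push Not at hiso
  obtain ⟨g0, hg0, hne0⟩ := hiso hord
  obtain ⟨h, hh, hhT⟩ := CyclicFourFixed.exists_conj_mem_centralizer T
    (fun x hx => (hzc' x hx).symm) hg0 (k := 1)
    (by rw [pow_one, pow_two, conj_mul, hz2']; simp)
  set x := h * (g0 * z * g0⁻¹) * h⁻¹ with hx
  have hxz : x ≠ z := fun e => hne0 (by
    calc g0 * z * g0⁻¹ = h⁻¹ * (h * (g0 * z * g0⁻¹) * h⁻¹) * h := by group
      _ = h⁻¹ * (z * h) := by rw [← hx, e, mul_assoc]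
      _ = z := by rw [hh.eq, inv_mul_cancel_left])
  have hconj : (h * g0)⁻¹ * x * (h * g0)⁻¹⁻¹ = z := by rw [hx]; group
  obtain ⟨v, hv0, hvz, g1, hg1⟩ :
      ∃ v : (T : Subgroup G), v ∈ T0 ∧ (v : G) ≠ z ∧ ∃ g : G, g * v * g⁻¹ = z := by
    by_cases hxT0 : (⟨x, hhT⟩ : (T : Subgroup G)) ∈ T0
    · exact ⟨_, hxT0, hxz, _, hconj⟩
    obtain ⟨g, hgx, hgc⟩ := exists_conj_centralizer T hzc' hconj
    obtain ⟨⟨w, hwT⟩, hwz, hwx⟩ := hout _ hxT0
    have hwz' : w * w = z := congrArg Subtype.val hwz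
    have hgw : g * w * g⁻¹ ∈ T := hgc w hwT (congrArg Subtype.val hwx)
    refine ⟨⟨g * w * g⁻¹, hgw⟩ * ⟨g * w * g⁻¹, hgw⟩, hsq _, fun e => hxz ?_, g⁻¹, ?_⟩
    · have e' : g * z * g⁻¹ = z := by
        rw [← hwz']
        calc g * (w * w) * g⁻¹ = g * w * g⁻¹ * (g * w * g⁻¹) := by group
          _ = w * w := by rw [hwz']; exact e
      calc x = g⁻¹ * (g * x * g⁻¹) * g := by group
        _ = g⁻¹ * (g * z * g⁻¹) * g := by rw [hgx, e']
        _ = z := by group
    · show g⁻¹ * (g * w * g⁻¹ * (g * w * g⁻¹)) * g⁻¹⁻¹ = z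
      rw [← hwz']; group
  obtain ⟨g, hgv, hgc⟩ := exists_conj_centralizer T hzc' hg1
  obtain ⟨⟨q, hqT⟩, ⟨r, hrT⟩, hqv, hrv, hqr⟩ := hquat v hv0
  have hqr' : q⁻¹ * r⁻¹ * q * r = z := congrArg Subtype.val hqr
  let a : (T : Subgroup G) := ⟨g * q * g⁻¹, hgc q hqT (congrArg Subtype.val hqv)⟩
  let b : (T : Subgroup G) := ⟨g * r * g⁻¹, hgc r hrT (congrArg Subtype.val hrv)⟩
  have hab : ((a⁻¹ * b⁻¹ * a * b : (T : Subgroup G)) : G) = g * z * g⁻¹ := by
    rw [← hqr']
    show (g * q * g⁻¹)⁻¹ * (g * r * g⁻¹)⁻¹ * (g * q * g⁻¹) * (g * r * g⁻¹) = _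
    group
  have hsq1 : (a⁻¹ * b⁻¹ * a * b) * (a⁻¹ * b⁻¹ * a * b) = 1 := Subtype.ext (by
    rw [Subgroup.coe_mul, hab, Subgroup.coe_one, conj_mul, hz2']; group)
  have hcen := hcomm a b hsq1
  have hzz : g * z * g⁻¹ = z := hfix z g hzT hzc' hz2' (hab ▸ SetLike.coe_mem _) fun c hc => by
    rw [← hab]
    exact congrArg Subtype.val (mem_center_iff.mp hcen ⟨c, hc⟩)
  refine hvz ?_
  calc (v : G) = g⁻¹ * (g * v * g⁻¹) * g := by group
    _ = g⁻¹ * (g * z * g⁻¹) * g := by rw [hgv, hzz]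
    _ = z := by group

/-- The configuration `(ℤ/2ⁿ)² : 2` with `n ≥ 4` is impossible. -/
theorem no_transShape (S : TransShape (T : Subgroup G)) : False := by
  classical
  haveI : Fact (Nat.Prime 2) := ⟨Nat.prime_two⟩
  set Tg := (T : Subgroup G)
  obtain ⟨A0, U0, hUA0, hUc0, hUsq0, hU40, hmax0, hidx0, ⟨t, htT⟩, ht20, htA0, hsurj0⟩ := S
  set A := A0.map Tg.subtype with hA
  set U := U0.map Tg.subtype with hU
  have hAT : A ≤ Tg := map_subtype_le A0
  have hUA : U ≤ A := map_mono hUA0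
  have hUc : ∀ u ∈ U, ∀ c ∈ Tg, c * u = u * c := by
    rintro _ ⟨u, hu, rfl⟩ c hc
    exact congrArg Subtype.val (mem_center_iff.mp (hUc0 hu) ⟨c, hc⟩)
  have hU2 : ∀ u ∈ U, u * u = 1 := by
    rintro _ ⟨u, hu, rfl⟩
    exact congrArg Subtype.val (hUsq0 u hu)
  have hU4 : Nat.card U = 4 := by rw [hU, card_map_of_injective Tg.subtype_injective, hU40]
  have hmax : ∀ a ∈ A, a * a = 1 → a ∈ U := by
    rintro _ ⟨a, ha, rfl⟩ h
    exact ⟨a, hmax0 a ha (Subtype.ext h), rfl⟩
  have memA : ∀ {x : G} (hx : x ∈ Tg), x ∈ A ↔ (⟨x, hx⟩ : Tg) ∈ A0 := fun {x} hx =>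
    ⟨by rintro ⟨a, ha, rfl⟩; exact ha, fun h => ⟨_, h, rfl⟩⟩
  have hprod : ∀ x ∈ Tg, ∀ y ∈ Tg, x ∉ A → y ∉ A → x * y ∈ A := fun x hx y hy h1 h2 =>
    (memA (mul_mem hx hy)).mpr ((mul_mem_iff_of_index_two hidx0 (a := ⟨x, hx⟩) (b := ⟨y, hy⟩)).mpr
      (iff_of_false (fun h => h1 ((memA hx).mpr h)) fun h => h2 ((memA hy).mpr h)))
  have hsurj : ∀ x ∈ Tg, x ∉ A → x * x = 1 → ∀ u ∈ U, ∃ a ∈ A, a⁻¹ * x * a = x * u := by
    rintro x hx hxA hx2 _ ⟨u, hu, rfl⟩
    obtain ⟨a, ha, h⟩ := hsurj0 ⟨x, hx⟩ (fun h => hxA ((memA hx).mpr h)) (Subtype.ext hx2) u hu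
    exact ⟨a, ⟨a, ha, rfl⟩, congrArg Subtype.val h⟩
  have ht2 : t * t = 1 := congrArg Subtype.val ht20
  have htA : t ∉ A := fun h => htA0 ((memA htT).mp h)
  -- elementary subgroups of order eight
  have eight : ∀ F : Subgroup G, F ≤ Tg → (∀ f ∈ F, f * f = 1) → 8 ≤ Nat.card F → U ≤ F := by
    intro F hF hF2 h8
    have h2 : Nat.card F ≤ 2 * Nat.card ↥(F ⊓ A) := by
      by_cases hex : ∀ f ∈ F, f ∈ A
      · exact SecRank.card_union_two 1 fun f hf => Or.inl ⟨hf, hex f hf⟩
      push Not at hex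
      obtain ⟨f0, hf0, hf0A⟩ := hex
      refine SecRank.card_union_two f0 fun f hf => ?_
      by_cases hfA : f ∈ A
      · exact Or.inl ⟨hf, hfA⟩
      · exact Or.inr ⟨mul_mem hf0 hf, hprod f0 (hF hf0) f (hF hf) hf0A hfA⟩
    have hle : F ⊓ A ≤ U := fun f hf => hmax f hf.2 (hF2 f hf.1)
    exact (eq_of_le_of_card_ge hle (by rw [hU4]; omega)).ge.trans inf_le_left
  -- transfer
  obtain ⟨g1, hg1⟩ : ∃ g : G, g * t * g⁻¹ ∈ A := by
    by_contra! hno
    have hrel : A.relIndex Tg = 2 := by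
      rw [relIndex, subgroupOf, hA, comap_map_eq_self_of_injective Tg.subtype_injective]
      exact hidx0
    obtain ⟨M, -, hM, -⟩ := Transfer.exists_index_two_of_involution T A hAT hrel t
      (by rw [pow_two]; exact ht2) htT htA hno
    exact RankTwoSimple.index_ne_two hG M hM
  have hv : g1 * t * g1⁻¹ ∈ U := hmax _ hg1 (by rw [conj_mul, ht2]; group)
  obtain ⟨g, hgt, hgc⟩ := exists_conj_centralizer T (hUc _ hv) (rfl : g1 * t * g1⁻¹ = g1 * t * g1⁻¹)
  have htU : ∀ u ∈ U, t * u = u * t := fun u hu => hUc u hu t htT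
  let E : Subgroup G :=
    { carrier := {x | x ∈ U ∨ t * x ∈ U}
      one_mem' := Or.inl (one_mem U)
      mul_mem' := by
        rintro a b (ha | ha) (hb | hb)
        · exact Or.inl (mul_mem ha hb)
        · refine Or.inr ?_
          have e : t * (a * b) = a * (t * b) := by rw [← mul_assoc, htU a ha, mul_assoc]
          rw [e]; exact mul_mem ha hb
        · exact Or.inr (by rw [← mul_assoc]; exact mul_mem ha hb)
        · refine Or.inl ?_
          have e : a * b = (t * a) * (t * b) := by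
            calc a * b = t * t * (a * b) := by rw [ht2, one_mul]
              _ = t * (t * a) * b := by group
              _ = t * a * t * b := by rw [htU _ ha]
              _ = (t * a) * (t * b) := by group
          rw [e]; exact mul_mem ha hb
      inv_mem' := by
        rintro a (ha | ha)
        · exact Or.inl (inv_mem ha)
        · refine Or.inr ?_
          have ha' : a = t * (t * a) := by rw [← mul_assoc, ht2, one_mul]
          have e : t * a⁻¹ = t * ((t * a)⁻¹ * t) := by group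
          rw [e, ← htU _ (inv_mem ha), ← mul_assoc, ht2, one_mul]
          exact inv_mem ha }
  have hUE : U ≤ E := fun u hu => Or.inl hu
  have htE : t ∈ E := Or.inr (by rw [ht2]; exact one_mem U)
  have hET : E ≤ Tg := by
    rintro x (hx | hx)
    · exact hAT (hUA hx)
    · have := mul_mem htT (hAT (hUA hx))
      rwa [← mul_assoc, ht2, one_mul] at this
  have hE2 : ∀ e ∈ E, e * e = 1 := by
    rintro e (he | he)
    · exact hU2 e he
    · have e1 : e = t * (t * e) := by rw [← mul_assoc, ht2, one_mul]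
      rw [e1, show t * (t * e) * (t * (t * e)) = t * ((t * e) * t) * (t * e) by group, ← htU _ he,
        show t * (t * (t * e)) * (t * e) = t * t * ((t * e) * (t * e)) by group, ht2, hU2 _ he, one_mul]
  have hEcomm : ∀ e ∈ E, e * t = t * e := by
    rintro e (he | he)
    · exact (htU e he).symm
    · have e1 : e = t * (t * e) := by rw [← mul_assoc, ht2, one_mul]
      calc e * t = t * ((t * e) * t) := by rw [← mul_assoc, ← mul_assoc, ht2, one_mul]
        _ = t * (t * (t * e)) := by rw [htU _ he]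
        _ = t * e := by rw [← e1]
  have hE8 : 8 ≤ Nat.card E := by
    let f : U × Bool → E := fun p =>
      if p.2 then ⟨t * p.1, mul_mem htE (hUE p.1.2)⟩ else ⟨p.1, hUE p.1.2⟩
    have hf : Function.Injective f := by
      rintro ⟨a, _ | _⟩ ⟨b, _ | _⟩ h <;> replace h := congrArg Subtype.val h <;>
        simp only [f, Bool.false_eq_true, if_false, if_true, mul_right_inj] at h
      · exact Prod.ext (Subtype.ext h) rfl
      · exact absurd (by rw [show t = (a : G) * (b : G)⁻¹ by rw [h]; group]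
                         exact hUA (mul_mem a.2 (inv_mem b.2))) htA
      · exact absurd (by rw [show t = (b : G) * (a : G)⁻¹ by rw [← h]; group]
                         exact hUA (mul_mem b.2 (inv_mem a.2))) htA
      · exact Prod.ext (Subtype.ext h) rfl
    have := Nat.card_le_card_of_injective f hf
    rwa [Nat.card_prod, hU4, Nat.card_eq_fintype_card (α := Bool), Fintype.card_bool] at this
  have hgE : ∀ e ∈ E, g * e * g⁻¹ ∈ Tg := fun e he => hgc e (hET he) (hEcomm e he)
  -- `U' = g⁻¹ U g`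
  have hgU : U ≤ E.map (MulAut.conj g).toMonoidHom := eight _
    (by rintro _ ⟨e, he, rfl⟩; exact hgE e he)
    (by rintro _ ⟨e, he, rfl⟩; rw [← map_mul, hE2 e he, map_one])
    (by rw [card_map_of_injective (MulAut.conj g).injective]; exact hE8)
  set U' := U.map (MulAut.conj g⁻¹).toMonoidHom with hU'
  have memU' : ∀ {x}, x ∈ U' ↔ g * x * g⁻¹ ∈ U := fun {x} => by
    constructor
    · rintro ⟨u, hu, rfl⟩
      simp only [MulEquiv.coe_toMonoidHom, MulAut.conj_apply, inv_inv]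
      rw [show g * (g⁻¹ * u * g) * g⁻¹ = u by group]; exact hu
    · intro h
      exact ⟨_, h, by simp only [MulEquiv.coe_toMonoidHom, MulAut.conj_apply, inv_inv]; group⟩
  have hU'E : U' ≤ E := fun x hx => by
    obtain ⟨e, he, hex⟩ := hgU (memU'.mp hx)
    have : e = x := (MulAut.conj g).injective hex
    exact this ▸ he
  have hU'4 : Nat.card U' = 4 := by
    rw [hU', card_map_of_injective (MulAut.conj g⁻¹).injective, hU4]
  have htU' : t ∈ U' := memU'.mpr (hgt ▸ hv)
  obtain ⟨l, hlU, hlU', hl1⟩ : ∃ l, l ∈ U ∧ l ∈ U' ∧ l ≠ 1 := by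
    obtain ⟨w, hw, hwt⟩ : ∃ w ∈ U', w ∉ zpowers t := by
      by_contra! hall
      have := card_le_of_le (show U' ≤ zpowers t from hall)
      rw [hU'4, Nat.card_zpowers] at this
      have := orderOf_le_of_pow_eq_one two_pos (show t ^ 2 = 1 by rw [pow_two]; exact ht2)
      omega
    rcases hU'E hw with hwU | hwU
    · exact ⟨w, hwU, hw, fun h => hwt (h ▸ one_mem _)⟩
    · refine ⟨t * w, hwU, mul_mem htU' hw, fun h => hwt ?_⟩
      rw [eq_inv_of_mul_eq_one_right h]
      exact inv_mem (mem_zpowers t)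
  obtain ⟨u0, hu0, hu0'⟩ : ∃ u ∈ U, u ∉ U' := by
    by_contra! hall
    exact htA (hUA ((eq_of_le_of_card_ge hall (hU'4.trans hU4.symm).le).symm ▸ htU'))
  obtain ⟨a1, ha1, ha1t⟩ := hsurj t htT htA ht2 l hlU
  set X := g * u0 * g⁻¹ with hX
  have hXT : X ∈ Tg := hgE u0 (hUE hu0)
  have hX2 : X * X = 1 := by rw [hX, conj_mul, hU2 u0 hu0]; group
  have hXA : X ∉ A := fun h => hu0' (memU'.mpr (hmax X h hX2))
  obtain ⟨a2, ha2, ha2X⟩ := hsurj X hXT hXA hX2 _ (memU'.mp hlU')
  set y2 := g⁻¹ * a2⁻¹ * g with hy2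
  -- the stabilizer of the flag
  have hll : l * l = 1 := hU2 l hlU
  let N2 : Subgroup G :=
    { carrier := {y | ∀ e ∈ E, y * e * y⁻¹ = e ∨ y * e * y⁻¹ = e * l}
      one_mem' := fun e _ => Or.inl (by group)
      mul_mem' := by
        intro y y' hy hy' e he
        have hyl : y * l * y⁻¹ = l := (hy l (hUE hlU)).resolve_right fun h => hl1 (by
          rw [hll, mul_inv_eq_one] at h
          exact mul_eq_left.mp h)
        rcases hy' e he with h | h
        · rcases hy e he with h' | h'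
          · left; calc y * y' * e * (y * y')⁻¹ = y * (y' * e * y'⁻¹) * y⁻¹ := by group
                    _ = e := by rw [h, h']
          · right; calc y * y' * e * (y * y')⁻¹ = y * (y' * e * y'⁻¹) * y⁻¹ := by group
                    _ = e * l := by rw [h, h']
        · have e1 : y * y' * e * (y * y')⁻¹ = (y * e * y⁻¹) * (y * l * y⁻¹) := by
            calc y * y' * e * (y * y')⁻¹ = y * (y' * e * y'⁻¹) * y⁻¹ := by group
              _ = y * (e * l) * y⁻¹ := by rw [h]
              _ = _ := by group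
          rcases hy e he with h' | h' <;> rw [e1, hyl, h']
          · exact Or.inr rfl
          · left; rw [mul_assoc, hll, mul_one]
      inv_mem' := by
        intro y hy e he
        have hyl : y * l * y⁻¹ = l := (hy l (hUE hlU)).resolve_right fun h => hl1 (by
          rw [hll, mul_inv_eq_one] at h
          exact mul_eq_left.mp h)
        rcases hy e he with h | h
        · left
          calc y⁻¹ * e * y⁻¹⁻¹ = y⁻¹ * (y * e * y⁻¹) * y := by rw [h]; group
            _ = e := by group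
        · right
          calc y⁻¹ * e * y⁻¹⁻¹ = y⁻¹ * (e * (l * l)) * y := by rw [hll]; group
            _ = y⁻¹ * (y * e * y⁻¹ * (y * l * y⁻¹)) * y := by rw [h, hyl]; group
            _ = e * l := by group }
  have hUfix : ∀ a ∈ Tg, ∀ u ∈ U, a⁻¹ * u * a = u := fun a ha u hu => by
    rw [mul_assoc, ← hUc u hu a ha, inv_mul_cancel_left]
  have hy1N : a1⁻¹ ∈ N2 := by
    intro e he
    rw [inv_inv]
    rcases he with he | he
    · exact Or.inl (hUfix a1 (hAT ha1) e he)
    · refine Or.inr ?_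
      have e1 : e = t * (t * e) := by rw [← mul_assoc, ht2, one_mul]
      calc a1⁻¹ * e * a1 = (a1⁻¹ * t * a1) * (a1⁻¹ * (t * e) * a1) := by
            conv_lhs => rw [e1]
            group
        _ = t * (l * (t * e)) := by rw [ha1t, hUfix a1 (hAT ha1) _ he, mul_assoc]
        _ = t * (t * e) * l := by rw [hUc _ he l (hAT (hUA hlU)), ← mul_assoc]
        _ = e * l := by rw [← e1]
  have hy2N : y2 ∈ N2 := by
    intro e he
    set f := g * e * g⁻¹ with hf
    have hfT : f ∈ Tg := hgE e he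
    have hf2 : f * f = 1 := by rw [hf, conj_mul, hE2 e he]; group
    have e0 : y2 * e * y2⁻¹ = g⁻¹ * (a2⁻¹ * f * a2) * g := by rw [hy2, hf]; group
    rw [e0]
    by_cases hfA : f ∈ A
    · left
      rw [hUfix a2 (hAT ha2) f (hmax f hfA hf2), hf]; group
    · right
      have hXE : u0 * e ∈ E := mul_mem (hUE hu0) he
      have hsqX : (X * f) * (X * f) = 1 := by
        rw [hX, hf, show g * u0 * g⁻¹ * (g * e * g⁻¹) * (g * u0 * g⁻¹ * (g * e * g⁻¹)) =
          g * (u0 * e * (u0 * e)) * g⁻¹ by group, hE2 _ hXE]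
        group
      have hXf : X * f ∈ U := hmax _ (hprod X hXT f hfT hXA hfA) hsqX
      have ef : f = X * (X * f) := by rw [← mul_assoc, hX2, one_mul]
      have hglg := memU'.mp hlU'
      calc g⁻¹ * (a2⁻¹ * f * a2) * g = g⁻¹ * ((a2⁻¹ * X * a2) * (a2⁻¹ * (X * f) * a2)) * g := by
            conv_lhs => rw [ef]
            group
        _ = g⁻¹ * (X * ((g * l * g⁻¹) * (X * f))) * g := by
            rw [ha2X, hUfix a2 (hAT ha2) _ hXf, mul_assoc X]
        _ = g⁻¹ * (X * ((X * f) * (g * l * g⁻¹))) * g := by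
            rw [hUc _ hXf _ (hAT (hUA hglg))]
        _ = g⁻¹ * (f * (g * l * g⁻¹)) * g := by rw [← mul_assoc X, ← ef]
        _ = e * l := by rw [hf]; group
  have hEN : E ≤ N2 := fun y hy e he => Or.inl (by
    have h := hE2 _ (mul_mem hy he)
    rw [← inv_eq_of_mul_eq_one_right (hE2 y hy)] at h ⊢
    calc y⁻¹ * e * y⁻¹⁻¹ = y⁻¹ * e * (y⁻¹ * e) * (e⁻¹ * (y * y)) := by group
      _ = e := by rw [h, hE2 y hy, one_mul, mul_one, inv_eq_of_mul_eq_one_right (hE2 e he)])
  let C : Subgroup N2 := (centralizer (E : Set G)).subgroupOf N2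
  haveI : C.Normal := ⟨fun c hc y => by
    refine mem_subgroupOf.mpr (mem_centralizer_iff.mpr fun e he => ?_)
    have hye : (y : G)⁻¹ * e * (y : G) ∈ E := by
      rcases (y⁻¹).2 e he with h | h <;> rw [InvMemClass.coe_inv, inv_inv] at h <;> rw [h]
      exacts [he, mul_mem he (hUE hlU)]
    have hce := mem_centralizer_iff.mp (mem_subgroupOf.mp hc) _ hye
    simp only [Subgroup.coe_mul, InvMemClass.coe_inv]
    calc e * ((y : G) * c * (y : G)⁻¹) = (y : G) * (((y : G)⁻¹ * e * y) * c) * (y : G)⁻¹ := by group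
      _ = (y : G) * (c * ((y : G)⁻¹ * e * y)) * (y : G)⁻¹ := by rw [hce]
      _ = _ := by group⟩
  have hsqC : ∀ y : N2, y * y ∈ C := fun y => by
    refine mem_subgroupOf.mpr (mem_centralizer_iff.mpr fun e he => ?_)
    have hyl : (y : G) * l * (y : G)⁻¹ = l := (y.2 l (hUE hlU)).resolve_right fun h => hl1 (by
      rw [hll, mul_inv_eq_one] at h
      exact mul_eq_left.mp h)
    have h2 : (y : G) * y * e * ((y : G) * y)⁻¹ = e := by
      rcases y.2 e he with h | h
      · calc (y : G) * y * e * ((y : G) * y)⁻¹ = y * ((y : G) * e * (y : G)⁻¹) * (y : G)⁻¹ := by group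
          _ = e := by rw [h, h]
      · calc (y : G) * y * e * ((y : G) * y)⁻¹ = y * ((y : G) * e * (y : G)⁻¹) * (y : G)⁻¹ := by group
          _ = y * (e * l) * (y : G)⁻¹ := by rw [h]
          _ = ((y : G) * e * (y : G)⁻¹) * ((y : G) * l * (y : G)⁻¹) := by group
          _ = e := by rw [h, hyl, mul_assoc, hll, mul_one]
    rw [Subgroup.coe_mul]
    calc e * ((y : G) * y) = (y : G) * y * e * ((y : G) * y)⁻¹ * ((y : G) * y) := by rw [h2]
      _ = _ := by group
  haveI : (E.subgroupOf N2).Normal := ⟨fun c hc y => by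
    rw [mem_subgroupOf] at hc ⊢
    simp only [Subgroup.coe_mul, InvMemClass.coe_inv]
    rcases y.2 c hc with h | h <;> rw [h]
    exacts [hc, mul_mem hc (hUE hlU)]⟩
  obtain ⟨Q⟩ : Nonempty (Sylow 2 N2) := Sylow.nonempty
  have hEQ : E.subgroupOf N2 ≤ (Q : Subgroup N2) := by
    have hp : IsPGroup 2 (E.subgroupOf N2) :=
      (T.isPGroup'.to_le hET).of_equiv (subgroupOfEquivOfLe hEN).symm
    exact le_sup_left.trans (Q.is_maximal' (hp.to_sup_of_normal_left Q.isPGroup') le_sup_right).le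
  have hsup : (Q : Subgroup N2) ⊔ C = ⊤ := by
    have hq : IsPGroup 2 (N2 ⧸ C) := fun x => by
      obtain ⟨y, rfl⟩ := QuotientGroup.mk'_surjective C x
      exact ⟨1, by rw [pow_one, pow_two, ← map_mul]; exact (QuotientGroup.eq_one_iff _).mpr (hsqC y)⟩
    obtain ⟨k, hk⟩ := IsPGroup.iff_card.mp hq
    rw [← Subgroup.index_eq_card] at hk
    have h1 := Subgroup.index_dvd_of_le (le_sup_left : (Q : Subgroup N2) ≤ (Q : Subgroup N2) ⊔ C)
    have h2 := Subgroup.index_dvd_of_le (le_sup_right : C ≤ (Q : Subgroup N2) ⊔ C)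
    rw [hk] at h2
    obtain ⟨i, -, hi⟩ := (Nat.dvd_prime_pow Nat.prime_two).mp h2
    rw [← index_eq_one, hi]
    rcases Nat.eq_zero_or_pos i with rfl | hpos
    · rfl
    · exact absurd ((dvd_pow_self 2 hpos.ne').trans (hi ▸ h1)) Q.not_dvd_index
  obtain ⟨P, hP⟩ := (Q.isPGroup'.map N2.subtype).exists_le_sylow
  obtain ⟨h, hh⟩ := MulAction.exists_smul_eq G P T
  have hQT : ∀ q : N2, q ∈ (Q : Subgroup N2) → h * q * h⁻¹ ∈ Tg := fun q hq => by
    have h2 : h * (q : G) * h⁻¹ ∈ ((h • P : Sylow 2 G) : Subgroup G) := by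
      rw [Sylow.smul_def]
      exact ⟨_, hP ⟨q, hq, rfl⟩, rfl⟩
    rwa [hh] at h2
  have hhE : U ≤ E.map (MulAut.conj h).toMonoidHom := eight _
    (by rintro _ ⟨e, he, rfl⟩; exact hQT ⟨e, hEN he⟩ (hEQ (mem_subgroupOf.mpr he)))
    (by rintro _ ⟨e, he, rfl⟩; rw [← map_mul, hE2 e he, map_one])
    (by rw [card_map_of_injective (MulAut.conj h).injective]; exact hE8)
  have key : ∀ u ∈ U, h⁻¹ * u * h ∈ E ∧ ∀ y ∈ N2, y * (h⁻¹ * u * h) = h⁻¹ * u * h * y := by
    intro u hu
    obtain ⟨e, he, hew⟩ := hhE hu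
    simp only [MulEquiv.coe_toMonoidHom, MulAut.conj_apply] at hew
    have heq : h⁻¹ * u * h = e := by rw [← hew]; group
    rw [heq]
    refine ⟨he, fun y hy => ?_⟩
    have hmem : (⟨y, hy⟩ : N2) ∈ (Q : Subgroup N2) ⊔ C := hsup ▸ mem_top _
    obtain ⟨q, hq, c, hc, hqc⟩ := Subgroup.mem_sup_of_normal_right.mp hmem
    have hce := mem_centralizer_iff.mp (mem_subgroupOf.mp hc) e he
    have hqe : (q : G) * e = e * q := by
      have h1 := hUc u hu _ (hQT q hq)
      rw [← hew, show h * (q : G) * h⁻¹ * (h * e * h⁻¹) = h * ((q : G) * e) * h⁻¹ by group,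
        show h * e * h⁻¹ * (h * (q : G) * h⁻¹) = h * (e * q) * h⁻¹ by group] at h1
      exact mul_left_cancel (mul_right_cancel h1)
    have hy' : y = (q : G) * c := (congrArg Subtype.val hqc).symm
    rw [hy', mul_assoc, ← hce, ← mul_assoc, hqe, mul_assoc]
  have hfour : ∀ u ∈ U, h⁻¹ * u * h ∈ zpowers l := by
    intro u hu
    obtain ⟨he, hyc⟩ := key u hu
    set e := h⁻¹ * u * h
    have heU : e ∈ U := by
      rcases he with he' | he'
      · exact he'
      exfalso
      have h1 := hyc _ hy1N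
      have e1 : e = t * (t * e) := by rw [← mul_assoc, ht2, one_mul]
      have h2 : a1⁻¹ * e * a1 = e * l := by
        calc a1⁻¹ * e * a1 = (a1⁻¹ * t * a1) * (a1⁻¹ * (t * e) * a1) := by
              conv_lhs => rw [e1]
              group
          _ = t * (l * (t * e)) := by rw [ha1t, hUfix a1 (hAT ha1) _ he', mul_assoc]
          _ = t * (t * e) * l := by rw [hUc _ he' l (hAT (hUA hlU)), ← mul_assoc]
          _ = e * l := by rw [← e1]
      rw [h1, mul_assoc, inv_mul_cancel, mul_one, left_eq_mul] at h2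
      exact hl1 h2
    have heU' : e ∈ U' := by
      by_contra hne
      have h1 := hyc _ hy2N
      set f := g * e * g⁻¹ with hf
      have hf2 : f * f = 1 := by rw [hf, conj_mul, hU2 e heU]; group
      have hfT := hgE e he
      have hfA : f ∉ A := fun h => hne (memU'.mpr (hmax f h hf2))
      have hXE : u0 * e ∈ E := mul_mem (hUE hu0) he
      have hsqX : (X * f) * (X * f) = 1 := by
        rw [hX, hf, show g * u0 * g⁻¹ * (g * e * g⁻¹) * (g * u0 * g⁻¹ * (g * e * g⁻¹)) =
          g * (u0 * e * (u0 * e)) * g⁻¹ by group, hE2 _ hXE]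
        group
      have hXf : X * f ∈ U := hmax _ (hprod X hXT f hfT hXA hfA) hsqX
      have ef : f = X * (X * f) := by rw [← mul_assoc, hX2, one_mul]
      have h2 : a2⁻¹ * f * a2 = f * (g * l * g⁻¹) := by
        calc a2⁻¹ * f * a2 = (a2⁻¹ * X * a2) * (a2⁻¹ * (X * f) * a2) := by
              conv_lhs => rw [ef]
              group
          _ = X * ((g * l * g⁻¹) * (X * f)) := by rw [ha2X, hUfix a2 (hAT ha2) _ hXf, mul_assoc X]
          _ = X * (X * f) * (g * l * g⁻¹) := by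
              rw [hUc _ hXf _ (hAT (hUA (memU'.mp hlU'))), ← mul_assoc]
          _ = f * (g * l * g⁻¹) := by rw [← ef]
      have h3 : a2⁻¹ * f * a2 = f := by
        calc a2⁻¹ * f * a2 = g * (y2 * e) * y2⁻¹ * g⁻¹ := by rw [hy2, hf]; group
          _ = f := by rw [h1, hf]; group
      rw [h3, left_eq_mul, conj_eq_one_iff] at h2
      exact hl1 h2
    by_contra hel
    have hcom : l * e = e * l := hUc e heU l (hAT (hUA hlU))
    have he1 : e ≠ 1 := fun h => hel (h ▸ one_mem _)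
    have hle : l ≠ e := fun h => hel (h ▸ mem_zpowers l)
    have hF := card_four hll (hU2 e heU) hcom hl1 he1 hle
    have hFU : four hll (hU2 e heU) hcom ≤ U := by
      rintro x (hx | hx | hx | hx) <;> rw [hx]
      exacts [one_mem _, hlU, heU, mul_mem hlU heU]
    have hFU' : four hll (hU2 e heU) hcom ≤ U' := by
      rintro x (hx | hx | hx | hx) <;> rw [hx]
      exacts [one_mem _, hlU', heU', mul_mem hlU' heU']
    have h1 := eq_of_le_of_card_ge hFU (hU4.le.trans hF)
    have h2 := eq_of_le_of_card_ge hFU' (hU'4.le.trans hF)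
    exact htA (hUA (h1 ▸ h2.symm ▸ htU'))
  have hle : U.map (MulAut.conj h⁻¹).toMonoidHom ≤ zpowers l := by
    rintro _ ⟨u, hu, rfl⟩
    simpa using hfour u hu
  have := card_le_of_le hle
  rw [card_map_of_injective (MulAut.conj h⁻¹).injective, hU4, Nat.card_zpowers] at this
  have := orderOf_le_of_pow_eq_one two_pos (show l ^ 2 = 1 by rw [pow_two]; exact hll)
  omega

end Cfsg.Agent.NormalRankTwo
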