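import Cfsg.Agent.Lib.NormalRankTwo.Fusion
import Cfsg.Agent.Lib.SylL34.U34
import Cfsg.Agent.Lib.Fusion.RankTwoTwoGroups
import Cfsg.Agent.S1238
import Cfsg.Agent.S5112

/-!
# The order of a Sylow 2-subgroup of normal rank two with a large normalizer
-/

set_option autoImplicit false
set_option linter.style.haveILetI false

namespace Cfsg.Agent.NormalRankTwo

open Subgroup

universe u

variable {G : Type u} [Group G] [Finite G]

theorem mem_sylow_of_two_element (T : Sylow 2 G) {x : G}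
    (hx : x ∈ normalizer ((T : Subgroup G) : Set G)) {k : ℕ} (h : x ^ 2 ^ k = 1) : x ∈ T := by
  haveI : Fact (Nat.Prime 2) := ⟨Nat.prime_two⟩
  have hp : IsPGroup 2 (zpowers x) := by
    obtain ⟨i, -, hi⟩ := (Nat.dvd_prime_pow Nat.prime_two).mp (orderOf_dvd_of_pow_eq_one h)
    exact IsPGroup.of_card (n := i) (by rw [Nat.card_zpowers, hi])
  have hsup : IsPGroup 2 (zpowers x ⊔ (T : Subgroup G) : Subgroup G) :=
    hp.to_sup_of_normal_right' T.isPGroup' (zpowers_le.mpr hx)
  exact (T.is_maximal' hsup le_sup_right).le (mem_sup_left (mem_zpowers x))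

/-- An element of odd prime power order normalizing `T` and not centralizing it. -/
theorem exists_odd_element (T : Sylow 2 G)
    (hN : ¬ normalizer ((T : Subgroup G) : Set G) ≤ (T : Subgroup G) ⊔ centralizer ((T : Subgroup G) : Set G)) :
    ∃ (y : G) (p m : ℕ), p.Prime ∧ p ≠ 2 ∧ y ∈ normalizer ((T : Subgroup G) : Set G) ∧
      y ∉ centralizer ((T : Subgroup G) : Set G) ∧ y ^ p ^ m = 1 := by
  by_contra! hall
  set N := normalizer ((T : Subgroup G) : Set G)
  set M := (T : Subgroup G) ⊔ centralizer ((T : Subgroup G) : Set G)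
  refine hN ?_
  have key : ∀ n : ℕ, n ≠ 0 → ∀ x ∈ N, x ^ n = 1 → x ∈ M := by
    intro n
    induction n using Nat.recOnPrimeCoprime with
    | zero => exact fun h => absurd rfl h
    | prime_pow p k hp =>
      intro _ x hx h
      rcases eq_or_ne p 2 with rfl | hp2
      · exact mem_sup_left (mem_sylow_of_two_element T hx h)
      · by_contra hxM
        exact hall x p k hp hp2 hx (fun hc => hxM (mem_sup_right hc)) h
    | coprime a b ha hb hab iha ihb =>
      intro _ x hx h
      have h1 := ihb (by omega) (x ^ a) (pow_mem hx a) (by rw [← pow_mul, h])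
      have h2 := iha (by omega) (x ^ b) (pow_mem hx b) (by rw [← pow_mul, Nat.mul_comm, h])
      have e : x = (x ^ a) ^ a.gcdA b * (x ^ b) ^ a.gcdB b := by
        rw [← zpow_natCast x a, ← zpow_natCast x b, ← zpow_mul, ← zpow_mul, ← zpow_add,
          ← Nat.gcd_eq_gcd_ab, hab.gcd_eq_one, Nat.cast_one, zpow_one]
      rw [e]
      exact mul_mem (zpow_mem h1 _) (zpow_mem h2 _)
  exact fun x hx => key (orderOf x) (orderOf_pos x).ne' x hx (pow_orderOf_eq_one x)

/-- An element of `N(T)` as an automorphism of `T`. -/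
theorem exists_aut (T : Sylow 2 G) {y : G} (hy : y ∈ normalizer ((T : Subgroup G) : Set G)) {n : ℕ}
    (hn : y ^ n = 1) : ∃ σ : MulAut (T : Subgroup G), σ ^ n = 1 ∧
      ∀ t : (T : Subgroup G), (σ t : G) = y * t * y⁻¹ := by
  refine ⟨(T : Subgroup G).normalizerMonoidHom ⟨y, hy⟩, ?_, fun t => rfl⟩
  rw [← map_pow, show (⟨y, hy⟩ : normalizer ((T : Subgroup G) : Set G)) ^ n = 1 from Subtype.ext hn,
    map_one]

/-- In the rank two case the order is 4 or 64. -/
theorem order_of_rank_two [IsSimpleGroup G] (hG : ¬ IsMulCommutative G) (T : Sylow 2 G)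
    (heven : 2 ∣ Nat.card G) (hr : Cfsg.PRankLE 2 2 (T : Subgroup G))
    (σ : MulAut (T : Subgroup G)) {p m : ℕ} (hp : p.Prime) (hp2 : p ≠ 2) (hσ : σ ^ p ^ m = 1)
    (hσ1 : σ ≠ 1) : Nat.card (T : Subgroup G) = 4 ∨ Nat.card (T : Subgroup G) = 64 := by
  haveI : Fact (Nat.Prime 2) := ⟨Nat.prime_two⟩
  have hG2 : Cfsg.PRankLE 2 2 G := by
    intro A hA hsq
    obtain ⟨Q, hQ⟩ := (show IsPGroup 2 A from fun a => ⟨1, Subtype.ext (by
      rw [pow_one]; exact hsq a a.2)⟩).exists_le_sylow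
    let f : A →* (T : Subgroup G) := (Sylow.equiv Q T).toMonoidHom.comp (Subgroup.inclusion hQ)
    have hf : Function.Injective f :=
      (Sylow.equiv Q T).injective.comp (Subgroup.inclusion_injective hQ)
    rw [← card_top (G := A), ← card_map_of_injective (K := ⊤) hf]
    refine hr _ ⟨⟨?_⟩⟩ ?_
    · rintro ⟨_, a, -, rfl⟩ ⟨_, b, -, rfl⟩
      refine Subtype.ext ?_
      show f a * f b = f b * f a
      rw [← map_mul, ← map_mul, hA.is_comm.comm a b]
    · rintro _ ⟨a, -, rfl⟩
      rw [← map_pow, show a ^ 2 = 1 from Subtype.ext (hsq a a.2), map_one]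
  have no2 : IsPGroup 2 (MulAut (T : Subgroup G)) → False := fun h => by
    obtain ⟨k, hk⟩ := IsPGroup.iff_orderOf.mp h σ
    exact hσ1 (orderOf_eq_one_iff.mp (Nat.eq_one_of_dvd_coprimes
      (((Nat.coprime_primes hp Nat.prime_two).mpr hp2).pow m k) (orderOf_dvd_of_pow_eq_one hσ)
      (hk ▸ dvd_rfl)))
  let F := GaloisField 2 4
  haveI : Fintype F := Fintype.ofFinite F
  have hF : Fintype.card F = 16 := by
    rw [← Nat.card_eq_fintype_card, GaloisField.card 2 4 (by norm_num)]; norm_num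
  obtain ⟨P⟩ : Nonempty (Sylow 2 (Cfsg.PSU 3 F 4)) := Sylow.nonempty
  rcases Cfsg.Agent.S1238.result hG2 (RankTwoSimple.not_rank_one hG heven)
    (RankTwoSimple.index_ne_two hG) (RankTwoSimple.not_isolated hG) T hF P with
    ⟨k, hk, ⟨e⟩⟩ | hqd | hwr | ⟨n, hn, ⟨e⟩⟩ | ⟨⟨e⟩⟩
  · obtain ⟨i, hi⟩ := IsPGroup.iff_card.mp T.isPGroup'
    have hc : 2 * k = 2 ^ i := by rw [← hi, Nat.card_congr e.toEquiv, DihedralGroup.nat_card]
    obtain ⟨j, -, rfl⟩ := (Nat.dvd_prime_pow Nat.prime_two).mp (Dvd.intro_left 2 hc)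
    rcases Nat.lt_or_ge j 2 with hj | hj
    · left
      have hk1 : 1 ≤ j := by
        by_contra h
        rw [show j = 0 by omega] at hk
        norm_num at hk
      rw [Nat.card_congr e.toEquiv, DihedralGroup.nat_card, show j = 1 by omega]
      norm_num
    · exact (no2 ((Cfsg.Agent.S5112.isPGroup_mulAut_dihedral j hj).of_equiv
        (MulAut.congr e).symm)).elim
  · obtain ⟨n, hn, hcard, x, y, hx, -, hrel⟩ := hqd
    exact (no2 (Fusion.RankTwoTwoGroups.sd_mulAut hn hcard hx hrel)).elim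
  · obtain ⟨n, hn, hcard, x, y, z, hx, hxy, hdis, hz, hrel⟩ := hwr
    exact (no2 (Fusion.RankTwoTwoGroups.wr_mulAut hn hcard hx hxy hdis
      (by rw [← pow_two]; exact orderOf_dvd_iff_pow_eq_one.mp hz.dvd) hrel)).elim
  · exact ((RankTwoSimple.not_homocyclic hG heven T hn).false e).elim
  · right
    rw [Nat.card_congr e.toEquiv]
    exact (SylL34.props_of_sylow hF P).card

theorem main [IsSimpleGroup G] (hG : ¬ IsMulCommutative G) (T : Sylow 2 G)
    (hd2 : ∀ A : Subgroup (T : Subgroup G), A.Normal → IsMulCommutative A →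
      ∃ a b : (T : Subgroup G), closure {a, b} = A)
    (hnc : ∃ A : Subgroup (T : Subgroup G), A.Normal ∧ IsMulCommutative A ∧ ¬ IsCyclic A)
    (hN : ¬ normalizer ((T : Subgroup G) : Set G) ≤ (T : Subgroup G) ⊔ centralizer ((T : Subgroup G) : Set G)) :
    Nat.card (T : Subgroup G) = 4 ∨ Nat.card (T : Subgroup G) = 64 ∨
      Nat.card (T : Subgroup G) = 128 := by
  classical
  haveI : Fact (Nat.Prime 2) := ⟨Nat.prime_two⟩
  have heven : 2 ∣ Nat.card G := by
    obtain ⟨A, -, -, hA⟩ := hnc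
    have hne : Nat.card (T : Subgroup G) ≠ 1 := fun h => by
      haveI : Subsingleton (T : Subgroup G) := (Nat.card_eq_one_iff_unique.mp h).1
      haveI : Subsingleton A := Subtype.val_injective.subsingleton
      exact hA isCyclic_of_subsingleton
    obtain ⟨i, hi⟩ := IsPGroup.iff_card.mp T.isPGroup'
    refine dvd_trans ?_ (T : Subgroup G).card_subgroup_dvd_card
    rw [hi] at hne ⊢
    exact dvd_pow_self 2 (by rintro rfl; exact hne (pow_zero 2))
  have mk : ∀ y p m, Nat.Prime p → p ≠ 2 → y ∈ normalizer ((T : Subgroup G) : Set G) →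
      y ∉ centralizer ((T : Subgroup G) : Set G) → y ^ p ^ m = 1 →
      ∃ X : Ctx (T : Subgroup G), ∀ t : (T : Subgroup G), (X.σ t : G) = y * t * y⁻¹ := by
    intro y p m hp hp2 hy hyc hpow
    obtain ⟨σ, hσ, hσt⟩ := exists_aut T hy hpow
    have hne : σ ≠ 1 := by
      rintro rfl
      refine hyc (mem_centralizer_iff.mpr fun t ht => ?_)
      have h := hσt ⟨t, ht⟩
      rw [MulAut.one_apply] at h
      calc t * y = y * t * y⁻¹ * y := by rw [← h]
        _ = y * t := inv_mul_cancel_right _ _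
    obtain ⟨X, hX⟩ := exists_ctx T.isPGroup' hd2 σ hp hp2 hσ hne
    exact ⟨X, fun t => by rw [hX]; exact hσt t⟩
  have fin : ∀ X : Ctx (T : Subgroup G), Cfsg.PRankLE 2 2 (T : Subgroup G) →
      Nat.card (T : Subgroup G) = 4 ∨ Nat.card (T : Subgroup G) = 64 := fun X hr =>
    order_of_rank_two hG T heven hr X.σ X.hp X.p2 X.σpow X.σne
  by_cases hmv : ∃ y p m, Nat.Prime p ∧ p ≠ 2 ∧ y ∈ normalizer ((T : Subgroup G) : Set G) ∧
      y ∉ centralizer ((T : Subgroup G) : Set G) ∧ y ^ p ^ m = 1 ∧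
      ∃ z ∈ T, (∀ c ∈ T, c * z = z * c) ∧ z * z = 1 ∧ y * z * y⁻¹ ≠ z
  · obtain ⟨y, p, m, hp, hp2, hy, hyc, hpow, z, hzT, hzc, hz2, hyz⟩ := hmv
    obtain ⟨X, hX⟩ := mk y p m hp hp2 hy hyc hpow
    have hmove : ∃ u ∈ Subgroup.center (T : Subgroup G), u * u = 1 ∧ X.σ u ≠ u :=
      ⟨⟨z, hzT⟩, mem_center_iff.mpr fun c => Subtype.ext (hzc c c.2), Subtype.ext hz2,
        fun h => hyz (by rw [← hX ⟨z, hzT⟩, h])⟩
    rcases X.trans_cases hmove with h | h | h | h | h
    · exact Or.inl h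
    · exact Or.inr (Or.inl h)
    · exact Or.inr (Or.inr h)
    · exact (fin X h).imp id Or.inl
    · obtain ⟨S⟩ := h
      exact (no_transShape T hG S).elim
  push Not at hmv
  obtain ⟨y, p, m, hp, hp2, hy, hyc, hpow⟩ := exists_odd_element T hN
  obtain ⟨X, hX⟩ := mk y p m hp hp2 hy hyc hpow
  have hfix : ∀ u ∈ Subgroup.center (T : Subgroup G), u * u = 1 → X.σ u = u := fun u hu hu2 =>
    Subtype.ext ((hX u).trans (hmv y p m hp hp2 hy hyc hpow u u.2
      (fun c hc => congrArg Subtype.val (mem_center_iff.mp hu ⟨c, hc⟩)) (congrArg Subtype.val hu2)))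
  rcases X.fixed_cases hfix with h | h | h | h
  · exact Or.inr (Or.inl h)
  · exact Or.inr (Or.inr h)
  · exact (fin X h).imp id Or.inl
  obtain ⟨S⟩ := h
  refine (no_fixedShape T hG ?_ S).elim
  intro z g hzT hzc hz2 hgT hgc
  obtain ⟨n, hn, hgn⟩ := T.conj_eq_normalizer_conj_of_mem_centralizer z g⁻¹
    (mem_centralizer_iff.mpr hzc) (mem_centralizer_iff.mpr (by
      intro c hc; rw [inv_inv]; exact hgc c hc))
  rw [inv_inv] at hgn
  rw [hgn]
  -- every element of the normalizer fixes `z`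
  set Z := centralizer ({z} : Set G)
  suffices hn' : n ∈ Z by
    rw [mul_assoc, ← mem_centralizer_singleton_iff.mp hn', inv_mul_cancel_left]
  have key : ∀ k : ℕ, k ≠ 0 → ∀ x ∈ normalizer ((T : Subgroup G) : Set G), x ^ k = 1 → x ∈ Z := by
    intro k
    induction k using Nat.recOnPrimeCoprime with
    | zero => exact fun h => absurd rfl h
    | prime_pow q i hq =>
      intro _ x hx h
      refine mem_centralizer_singleton_iff.mpr ?_
      rcases eq_or_ne q 2 with rfl | hq2
      · exact hzc x (mem_sylow_of_two_element T hx h)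
      by_cases hxc : x ∈ centralizer ((T : Subgroup G) : Set G)
      · exact (mem_centralizer_iff.mp hxc z hzT).symm
      have h1 := hmv x q i hq hq2 hx hxc h z hzT hzc hz2
      calc x * z = x * z * x⁻¹ * x := by group
        _ = z * x := by rw [h1]
    | coprime a b ha hb hab iha ihb =>
      intro _ x hx h
      have h1 := ihb (by omega) (x ^ a) (pow_mem hx a) (by rw [← pow_mul, h])
      have h2 := iha (by omega) (x ^ b) (pow_mem hx b) (by rw [← pow_mul, Nat.mul_comm, h])
      have e : x = (x ^ a) ^ a.gcdA b * (x ^ b) ^ a.gcdB b := by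
        rw [← zpow_natCast x a, ← zpow_natCast x b, ← zpow_mul, ← zpow_mul, ← zpow_add,
          ← Nat.gcd_eq_gcd_ab, hab.gcd_eq_one, Nat.cast_one, zpow_one]
      rw [e]
      exact mul_mem (zpow_mem h1 _) (zpow_mem h2 _)
  exact key (orderOf n) (orderOf_pos n).ne' n hn (pow_orderOf_eq_one n)

end Cfsg.Agent.NormalRankTwo
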