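import Mathlib

/-!
# Endomorphisms of the four-group under conjugation by an element of order three

An endomorphism is given by the images of `(1, 0)` and `(0, 1)`.
-/

set_option autoImplicit false

namespace Cfsg.Agent.NormalRankTwo.Model

/-- The four-group. -/
abbrev V := ZMod 2 × ZMod 2

/-- The endomorphism with the given values on the basis. -/
def app (e : V × V) (v : V) : V :=
  (if v.1 = 1 then e.1 else 0) + (if v.2 = 1 then e.2 else 0)

/-- The automorphism of order three. -/
def S (v : V) : V := (v.2, v.1 + v.2)

/-- The inverse of `S`. -/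
def Sinv (v : V) : V := (v.1 + v.2, v.1)

/-- Conjugation by `S`. -/
def conjS (e : V × V) : V × V := (S (app e (Sinv (1, 0))), S (app e (Sinv (0, 1))))

/-- The identity. -/
abbrev one : V × V := ((1, 0), (0, 1))
/-- `S`. -/
abbrev sE : V × V := ((0, 1), (1, 1))
/-- `S²`. -/
abbrev sE2 : V × V := ((1, 1), (1, 0))

theorem S_Sinv : ∀ v, S (Sinv v) = v := by decide

theorem app_conjS : ∀ e v, app (conjS e) v = S (app e (Sinv v)) := by decide

theorem app_add : ∀ e f v, app (e + f) v = app e v + app f v := by decide

theorem app_one : ∀ v, app one v = v := by decide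

theorem app_zero : ∀ v, app 0 v = 0 := by decide

theorem add_self_pair : ∀ e : V × V, e + e = 0 := by decide

theorem app_ext : ∀ e f, app e (1, 0) = app f (1, 0) → app e (0, 1) = app f (0, 1) → e = f := by decide

theorem exists_injective : ∀ e : V × V, e ≠ 0 → (∀ v, app e v = 0 → v = 0) ∨
    (∀ v, app (e + conjS e + conjS (conjS e)) v = 0 → v = 0) := by decide

theorem commutant : ∀ e, conjS e = e → e = 0 ∨ e = one ∨ e = sE ∨ e = sE2 := by decide

theorem fixed_point_free : ∀ e, (e = sE ∨ e = sE2) → ∀ v, app e v = v → v = 0 := by decide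

theorem conjS_sE : conjS sE = sE := by decide

set_option synthInstance.maxSize 2000 in
theorem idem : ∀ e : V × V, (∀ v, app e (app e v) = app e v) →
    (∀ v, app (conjS e) (app (conjS e) v) = app (conjS e) v) →
    (∀ v, app (e + conjS e) (app (e + conjS e) v) = app (e + conjS e) v) →
    e = 0 ∨ e = one := by decide

end Cfsg.Agent.NormalRankTwo.Model
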