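import Cfsg.Agent.Lib.NormalRankTwo.Fixed
import Cfsg.Agent.Lib.NormalRankTwo.Model
import Cfsg.Prelude.Def_EvenTechniques

/-!
# Normal rank two: the odd automorphism moves a central involution

`A` is homocyclic and `T / A` embeds in the endomorphisms of `Ω₁(A)`.
-/

set_option autoImplicit false
set_option linter.style.haveILetI false

namespace Cfsg.Agent.NormalRankTwo

open Subgroup
open SecRank (SqSub)

universe u

variable {T : Type u} [Group T] [Finite T]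

/-- The configuration `(ℤ/2ⁿ)² : 2` used in the fusion argument. -/
structure TransShape (T : Type u) [Group T] where
  A : Subgroup T
  U : Subgroup T
  UA : U ≤ A
  U_center : U ≤ Subgroup.center T
  U_sq : ∀ u ∈ U, u * u = 1
  U_card : Nat.card U = 4
  U_max : ∀ a ∈ A, a * a = 1 → a ∈ U
  index_A : A.index = 2
  t : T
  t2 : t * t = 1
  tA : t ∉ A
  surj : ∀ x, x ∉ A → x * x = 1 → ∀ u ∈ U, ∃ a ∈ A, a⁻¹ * x * a = x * u

/-- The commutation map on `A`. -/
def dlt (t a : T) : T := a⁻¹ * (t⁻¹ * a * t)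

namespace Ctx

variable (X : Ctx T)

include X

theorem δ_mem {t a : T} (ha : a ∈ X.A) : dlt t a ∈ X.A :=
  mul_mem (inv_mem ha) (by simpa using X.normal_A.conj_mem a ha t⁻¹)

theorem δ_mul {t a b : T} (ha : a ∈ X.A) (hb : b ∈ X.A) :
    dlt t (a * b) = dlt t a * dlt t b := by
  have hconj : t⁻¹ * a * t ∈ X.A := by simpa using X.normal_A.conj_mem a ha t⁻¹
  calc dlt t (a * b) = b⁻¹ * (a⁻¹ * (t⁻¹ * a * t)) * (t⁻¹ * b * t) := by rw [dlt]; group
    _ = a⁻¹ * (t⁻¹ * a * t) * b⁻¹ * (t⁻¹ * b * t) := by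
        rw [X.A_comm (inv_mem hb) (mul_mem (inv_mem ha) hconj)]
    _ = _ := by rw [dlt, dlt]; group

theorem δ_one (t : T) : dlt t 1 = 1 := by simp [dlt]

theorem δ_pow {t a : T} (ha : a ∈ X.A) (k : ℕ) : dlt t (a ^ k) = dlt t a ^ k := by
  induction k with
  | zero => rw [pow_zero, pow_zero, X.δ_one]
  | succ k ih => rw [pow_succ, X.δ_mul (pow_mem ha k) ha, ih, pow_succ]

theorem δ_comp {s t a : T} (ha : a ∈ X.A) :
    dlt (s * t) a = dlt t a * dlt s a * dlt t (dlt s a) := by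
  have e : dlt (s * t) a = dlt t a * (t⁻¹ * dlt s a * t) := by simp only [dlt]; group
  rw [e, mul_assoc (dlt t a)]
  simp only [dlt]
  group

theorem δ_apply {t a : T} : dlt (X.σ t) (X.σ a) = X.σ (dlt t a) := by
  simp only [dlt, map_mul, map_inv]

theorem δ_eq_one_iff {t a : T} : dlt t a = 1 ↔ a * t = t * a := by
  rw [dlt, inv_mul_eq_one]
  constructor
  · intro h
    calc a * t = t * (t⁻¹ * a * t) := by group
      _ = t * a := by rw [← h]
  · intro h
    rw [mul_assoc, h, inv_mul_cancel_left]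

variable (hmove : ∃ u ∈ Subgroup.center T, u * u = 1 ∧ X.σ u ≠ u)

include hmove

theorem no_fixed_Om {w : T} (hw : w ∈ X.Om) (hf : X.σ w = w) : w = 1 := by
  obtain ⟨u, hu, hu2, hne⟩ := hmove
  by_contra hw1
  exact hne (X.fixed_of_four (fun _ => X.σ_Om) X.card_Om_le hw hw1 hf u ⟨X.center_le_A hu, hu2⟩)

theorem Om_center : X.Om ≤ Subgroup.center T ∧ Nat.card X.Om = 4 := by
  have hno : ∀ {w : T}, w ∈ X.Om → X.σ w = w → w = 1 := fun hw hf => X.no_fixed_Om hmove hw hf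
  obtain ⟨u, hu, hu2, hne⟩ := hmove
  have hσc : X.σ u ∈ Subgroup.center T := X.σ_mem inferInstance hu
  have hσ2 : X.σ u * X.σ u = 1 := by rw [← map_mul, hu2, map_one]
  have hu1 : u ≠ 1 := fun h => hne (by rw [h, map_one])
  have hσ1 : X.σ u ≠ 1 := fun h => hu1 (X.σ.map_eq_one_iff.mp h)
  have hcom := X.A_comm (X.center_le_A hu) (X.center_le_A hσc)
  have hF := card_four hu2 hσ2 hcom hu1 hσ1 (Ne.symm hne)
  have hFc : four hu2 hσ2 hcom ≤ Subgroup.center T := by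
    rintro x (h | h | h | h) <;> rw [h]
    exacts [one_mem _, hu, hσc, mul_mem hu hσc]
  have hFA : four hu2 hσ2 hcom ≤ X.Om := by
    rintro x (h | h | h | h) <;> rw [h]
    exacts [one_mem _, ⟨X.center_le_A hu, hu2⟩, ⟨X.center_le_A hσc, hσ2⟩,
      mul_mem (show u ∈ X.Om from ⟨X.center_le_A hu, hu2⟩) ⟨X.center_le_A hσc, hσ2⟩]
  have heq := eq_of_le_of_card_ge hFA (X.card_Om_le.trans hF)
  exact ⟨heq ▸ hFc, le_antisymm X.card_Om_le (hF.trans (card_le_of_le hFA))⟩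

theorem p_eq_three : X.p = 3 := by
  have h := X.card_modEq_fixed (K := X.Om) (fun _ => X.σ_Om)
  have hbot : X.Om ⊓ X.fixed = ⊥ := eq_bot_iff.mpr fun w hw =>
    mem_bot.mpr (X.no_fixed_Om hmove hw.1 hw.2)
  rw [hbot, card_bot, (X.Om_center hmove).2] at h
  have h' : X.p ∣ 3 := (Nat.modEq_iff_dvd' (by norm_num)).mp h.symm
  exact (Nat.prime_dvd_prime_iff_eq X.hp Nat.prime_three).mp h'

theorem no_fixed_A {a : T} (ha : a ∈ X.A) (hf : X.σ a = a) : a = 1 := by
  haveI := fact_two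
  obtain ⟨k, hk⟩ := IsPGroup.iff_orderOf.mp X.pT a
  have hk' : a ^ 2 ^ k = 1 := by rw [← hk, pow_orderOf_eq_one]
  clear hk
  induction k generalizing a with
  | zero => simpa using hk'
  | succ k ih =>
    have h2 : a * a = 1 := ih (mul_mem ha ha) (by rw [map_mul, hf]) (by
      rw [← pow_two, ← pow_mul, ← pow_succ']; exact hk')
    exact X.no_fixed_Om hmove ⟨ha, h2⟩ hf

/-- The exponent of `A` is `2 ^ expA`. -/
noncomputable def expA : ℕ :=
  @Nat.find (fun n => ∀ a ∈ X.A, a ^ 2 ^ n = 1) (Classical.decPred _) (by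
    obtain ⟨n, hn⟩ := IsPGroup.iff_card.mp X.pT
    exact ⟨n, fun a _ => by rw [← hn, pow_card_eq_one']⟩)

theorem pow_expA {a : T} (ha : a ∈ X.A) : a ^ 2 ^ X.expA = 1 :=
  @Nat.find_spec (fun n => ∀ a ∈ X.A, a ^ 2 ^ n = 1) (Classical.decPred _) _ a ha

theorem not_pow_lt {k : ℕ} (hk : k < X.expA) : ∃ a ∈ X.A, a ^ 2 ^ k ≠ 1 := by
  have := @Nat.find_min (fun n => ∀ a ∈ X.A, a ^ 2 ^ n = 1) (Classical.decPred _) _ k hk
  simpa using this

theorem Om_le_pw {k : ℕ} (hk : k < X.expA) : X.Om ≤ X.pw k := by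
  haveI := fact_two
  obtain ⟨hOc, hO4⟩ := X.Om_center hmove
  obtain ⟨a, ha, hne⟩ := X.not_pow_lt hmove hk
  have hbot : X.pw k ≠ ⊥ := fun h => hne (mem_bot.mp (h ▸ ⟨a, ha, rfl⟩))
  haveI : (X.pw k).Normal := ⟨fun x hx g => X.pw_conj hx g⟩
  obtain ⟨w, hw, -, hwo⟩ := PGroup.exists_orderOf_eq_mem_center X.pT (X.pw k) hbot
  have hw2 : w * w = 1 := by rw [← pow_two, ← hwo, pow_orderOf_eq_one]
  have hw1 : w ≠ 1 := fun h => by rw [h, orderOf_one] at hwo; omega
  have hwO : w ∈ X.Om := ⟨X.pw_le k hw, hw2⟩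
  have hne' : w ≠ X.σ w := fun h => hw1 (X.no_fixed_Om hmove hwO h.symm)
  have hσ2 : X.σ w * X.σ w = 1 := (X.σ_Om hwO).2
  have hcom := X.A_comm hwO.1 (X.σ_A hwO.1)
  have hF := card_four hw2 hσ2 hcom hw1 (fun h => hw1 (X.σ.map_eq_one_iff.mp h)) hne'
  have hFp : four hw2 hσ2 hcom ≤ X.pw k := by
    rintro x (h | h | h | h) <;> rw [h]
    exacts [one_mem _, hw, X.σ_pw hw, mul_mem hw (X.σ_pw hw)]
  have hFO : four hw2 hσ2 hcom ≤ X.Om := by
    rintro x (h | h | h | h) <;> rw [h]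
    exacts [one_mem _, hwO, X.σ_Om hwO, mul_mem hwO (X.σ_Om hwO)]
  exact (eq_of_le_of_card_ge hFO (hO4.le.trans hF)).ge.trans hFp

theorem root : ∀ j k : ℕ, j + k ≤ X.expA → ∀ a ∈ X.A, a ^ 2 ^ j = 1 →
    ∃ b ∈ X.A, b ^ 2 ^ k = a := by
  intro j
  induction j with
  | zero => exact fun k _ a _ h => ⟨1, one_mem _, by simp at h; simp [h]⟩
  | succ j ih =>
    intro k hjk a ha h
    obtain ⟨b, hb, hba⟩ := ih (k + 1) (by omega) (a ^ 2) (pow_mem ha 2) (by
      rw [← pow_mul, ← pow_succ']; exact h)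
    have hbk : b ^ 2 ^ k ∈ X.A := pow_mem hb _
    have hc : a * (b ^ 2 ^ k)⁻¹ ∈ X.Om := by
      refine ⟨mul_mem ha (inv_mem hbk), ?_⟩
      have hcom : Commute a (b ^ 2 ^ k)⁻¹ := X.A_comm ha (inv_mem hbk)
      rw [← pow_two, hcom.mul_pow, inv_pow, ← pow_mul, ← pow_succ, hba, mul_inv_cancel]
    obtain ⟨c, hc', hcw⟩ := X.Om_le_pw hmove (show k < X.expA by omega) hc
    refine ⟨c * b, mul_mem hc' hb, ?_⟩
    rw [(show Commute c b from X.A_comm hc' hb).mul_pow, hcw, inv_mul_cancel_right]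

theorem one_le_expA : 1 ≤ X.expA := by
  by_contra h
  obtain ⟨u, hu, -, hne⟩ := id hmove
  have h1 := X.pow_expA hmove (X.center_le_A hu)
  rw [show X.expA = 0 by omega, pow_zero, pow_one] at h1
  exact hne (by rw [h1, map_one])

theorem card_pw_succ {k : ℕ} (hk : k < X.expA) :
    Nat.card (X.pw k) = Nat.card (X.pw (k + 1)) * 4 := by
  let f : X.A →* T :=
    { toFun := fun a => (a : T) ^ 2
      map_one' := one_pow 2
      map_mul' := fun a b => (show Commute (a : T) b from X.A_comm a.2 b.2).mul_pow 2 }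
  have h := SecRank.card_split f ((X.pw k).subgroupOf X.A)
  have h1 : ((X.pw k).subgroupOf X.A).map f = X.pw (k + 1) := by
    ext x
    constructor
    · rintro ⟨a, ⟨b, hb, hba⟩, rfl⟩
      exact ⟨b, hb, by show b ^ 2 ^ (k + 1) = (a : T) ^ 2; rw [pow_succ, pow_mul, hba]; rfl⟩
    · rintro ⟨b, hb, rfl⟩
      exact ⟨⟨b ^ 2 ^ k, pow_mem hb _⟩, ⟨b, hb, rfl⟩, by
        show (b ^ 2 ^ k) ^ 2 = _; rw [← pow_mul, ← pow_succ]⟩
  rw [h1, Nat.card_congr (subgroupOfEquivOfLe (X.pw_le k)).toEquiv] at h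
  rw [h]
  congr 1
  rw [← (X.Om_center hmove).2]
  exact Nat.card_congr
    { toFun := fun a => ⟨(a.1 : T), a.1.2, by
        rw [← pow_two]; exact MonoidHom.mem_ker.mp a.2.2⟩
      invFun := fun a => ⟨⟨a.1, a.2.1⟩, X.Om_le_pw hmove hk a.2,
        MonoidHom.mem_ker.mpr ((pow_two (a.1 : T)).trans a.2.2)⟩
      left_inv := fun _ => rfl
      right_inv := fun _ => rfl }

theorem card_A : Nat.card X.A = 4 ^ X.expA := by
  have key : ∀ i k, k + i = X.expA → Nat.card (X.pw k) = 4 ^ i := by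
    intro i
    induction i with
    | zero =>
      intro k hk
      rw [pow_zero, card_eq_one, eq_bot_iff]
      rintro x ⟨a, ha, rfl⟩
      rw [mem_bot, show k = X.expA by omega, X.pow_expA hmove ha]
    | succ i ih =>
      intro k hk
      rw [X.card_pw_succ hmove (by omega), ih (k + 1) (by omega), pow_succ]
  rw [← key _ 0 (Nat.zero_add _)]
  rw [show X.pw 0 = X.A from le_antisymm (X.pw_le 0) fun a ha => ⟨a, ha, by simp⟩]

theorem abelian_of_idx_four {K : Subgroup T} (hAK : X.A ≤ K) (hKD : K ≤ X.D)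
    (hK : ∀ x ∈ K, X.σ x ∈ K) (h4 : X.idx K ≤ 4) : ∀ x ∈ K, ∀ y ∈ K, x * y = y * x := by
  intro x hx y hy
  by_contra hne
  have hne' : X.σ x * X.σ y ≠ X.σ y * X.σ x := fun h => hne (X.σ.injective (by rwa [map_mul, map_mul]))
  have h := (X.comm_unique hAK hKD h4 hx hy hne (hK x hx) (hK y hy)).resolve_left hne'
  have hf : X.σ (x⁻¹ * y⁻¹ * x * y) = x⁻¹ * y⁻¹ * x * y := by
    rw [map_mul, map_mul, map_mul, map_inv, map_inv, h]
  have h1 := X.no_fixed_A hmove (X.comm_mem (hKD hx) (hKD hy)) hf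
  refine hne ?_
  calc x * y = y * x * (x⁻¹ * y⁻¹ * x * y) := by group
    _ = y * x := by rw [h1, mul_one]

omit hmove in
/-- No involution outside `A` with all its conjugates in its coset of `Ω₁(A)`. -/
theorem no_normal_four (hOc : X.Om ≤ Subgroup.center T) (hO4 : Nat.card X.Om = 4) {c : T}
    (hc2 : c * c = 1) (hcA : c ∉ X.A) (hconj : ∀ x : T, c⁻¹ * x⁻¹ * c * x ∈ X.Om) : False := by
  set K := closure ((X.Om : Set T) ∪ {c}) with hK
  have hOK : X.Om ≤ K := fun w hw => subset_closure (Or.inl hw)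
  have hcK : c ∈ K := subset_closure (Or.inr rfl)
  have hn : K.Normal := ⟨fun x hx g => by
    have hle : K ≤ K.comap (MulAut.conj g).toMonoidHom := by
      rw [hK, closure_le]
      intro a ha
      simp only [SetLike.mem_coe, mem_comap, MulEquiv.coe_toMonoidHom, MulAut.conj_apply]
      rcases ha with ha | rfl
      · rw [mem_center_iff.mp (hOc ha) g, mul_inv_cancel_right]; exact hOK ha
      · have := hconj g⁻¹
        rw [show g * a * g⁻¹ = a * (a⁻¹ * g⁻¹⁻¹ * a * g⁻¹) by group]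
        exact mul_mem hcK (hOK this)
    exact hle hx⟩
  have hKc : ∀ a ∈ K, ∀ b ∈ K, a * b = b * a := closure_comm (by
    rintro a (ha | rfl) b (hb | rfl)
    · exact X.A_comm ha.1 hb.1
    · exact (mem_center_iff.mp (hOc ha) b).symm
    · exact mem_center_iff.mp (hOc hb) a
    · rfl)
  exact hcA (X.no_extra hn hKc hOK (fun w hw => hw.2) hO4.ge hcK hc2).1

/-- A fixed coset outside `A` gives a fixed involution. -/
theorem fixed_involution {x : T} (hx : x⁻¹ * X.σ x ∈ X.A) (hxx : x * x ∈ X.A) :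
    ∃ c, x⁻¹ * c ∈ X.A ∧ X.σ c = c ∧ c * c = 1 := by
  obtain ⟨n, hn, hf⟩ := X.exists_fixed_mul (fun _ => X.σ_A) hx
  refine ⟨x * n, by simpa using hn, hf, X.no_fixed_A hmove ?_ (by rw [map_mul, hf])⟩
  have e : x * n * (x * n) = x * x * (x⁻¹ * n * x) * n := by group
  rw [e]
  exact mul_mem (mul_mem hxx (by simpa using X.normal_A.conj_mem n hn x⁻¹)) hn

theorem cases_one (h1 : X.expA = 1) : Nat.card T = 4 ∨ Nat.card T = 64 := by
  obtain ⟨hOc, hO4⟩ := X.Om_center hmove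
  have hA4 : Nat.card X.A = 4 := by rw [X.card_A hmove, h1, pow_one]
  have hAO : X.A ≤ X.Om := fun a ha => ⟨ha, by rw [← pow_two]; simpa [h1] using X.pow_expA hmove ha⟩
  have hDT : ∀ t : T, t ∈ X.D := fun t => mem_centralizer_iff.mpr fun a ha =>
    (mem_center_iff.mp (hOc (hAO ha)) t).symm
  have hfree : X.Free X.D := by
    intro x hx hxσ
    obtain ⟨c, hxc, hcf, hc2⟩ := X.fixed_involution hmove hxσ (X.D_sq_mem hx)
    by_contra hxA
    refine X.no_normal_four hOc hO4 hc2 (fun h => hxA ?_) fun g => hAO (X.comm_mem (hDT c) (hDT g))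
    have := mul_mem h (inv_mem hxc)
    simpa [← mul_assoc] using this
  have hcard : Nat.card T = X.idx X.D * 4 := by
    rw [← hA4, ← X.card_eq_idx X.A_le_D, (show X.D = ⊤ from eq_top_iff.mpr fun t _ => hDT t), card_top]
  have hm := X.idx_modEq (fun _ => X.σ_D) hfree
  rw [X.p_eq_three hmove] at hm
  obtain ⟨e, he⟩ := X.exists_idx X.D
  have he4 : e ≤ 4 := (Nat.pow_le_pow_iff_right (show 1 < 2 by norm_num)).mp (he ▸ X.idx_D_le)
  rw [Nat.ModEq, he] at hm
  interval_cases e <;> simp_all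
  -- four cosets: abelian
  have hab := X.abelian_of_idx_four hmove X.A_le_D le_rfl (fun _ => X.σ_D) (by rw [he])
  have hDA : X.D ≤ X.A := fun x hx => X.mem_A_of_central_D fun d hd => hab d hd x hx
  have := X.idx_mono hDA
  have hA1 : X.idx X.A = 1 := (mul_eq_right₀ Nat.card_pos.ne').mp (X.card_eq_idx (le_refl X.A)).symm
  omega

theorem D_le_A (h2 : 2 ≤ X.expA) : X.D ≤ X.A := by
  obtain ⟨hOc, hO4⟩ := X.Om_center hmove
  haveI : (X.pw 1).Normal := ⟨fun x hx g => X.pw_conj hx g⟩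
  let π1 := QuotientGroup.mk' (X.pw 1)
  have hOp : X.Om ≤ X.pw 1 := X.Om_le_pw hmove (by omega)
  have esq : ∀ {d e : T}, d ∈ X.D → e ∈ X.D →
      d * e * (d * e) = d * d * (e * e) * (e⁻¹ * d⁻¹ * e * d) := fun {d e} hd he => by
    calc d * e * (d * e) = d * d * e * ((e⁻¹ * d⁻¹ * e * d) * e) := by group
      _ = d * d * e * (e * (e⁻¹ * d⁻¹ * e * d)) := by rw [X.A_D (X.comm_mem he hd) he]
      _ = d * d * (e * e) * (e⁻¹ * d⁻¹ * e * d) := by group
  let f : X.D →* T ⧸ X.pw 1 :=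
    { toFun := fun d => π1 ((d : T) * d)
      map_one' := by simp
      map_mul' := fun d e => by
        have : π1 ((e : T)⁻¹ * (d : T)⁻¹ * e * d) = 1 :=
          (QuotientGroup.eq_one_iff _).mpr (hOp ⟨X.comm_mem e.2 d.2, X.comm_sq e.2 d.2⟩)
        rw [Subgroup.coe_mul, esq d.2 e.2, map_mul, this, mul_one, map_mul] }
  let K : Subgroup T := f.ker.map X.D.subtype
  have hKmem : ∀ x, x ∈ K ↔ x ∈ X.D ∧ x * x ∈ X.pw 1 := by
    intro x
    constructor
    · rintro ⟨d, hd, rfl⟩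
      exact ⟨d.2, (QuotientGroup.eq_one_iff _).mp hd⟩
    · rintro ⟨h1, h3⟩
      exact ⟨⟨x, h1⟩, (QuotientGroup.eq_one_iff _).mpr h3, rfl⟩
  have hAK : X.A ≤ K := fun a ha => (hKmem a).mpr ⟨X.A_le_D ha, X.mem_pw_one.mpr ⟨a, ha, rfl⟩⟩
  have hKD : K ≤ X.D := fun x hx => ((hKmem x).mp hx).1
  have hKσ : ∀ x ∈ K, X.σ x ∈ K := fun x hx => by
    obtain ⟨h1, h3⟩ := (hKmem x).mp hx
    exact (hKmem _).mpr ⟨X.σ_D h1, by rw [← map_mul]; exact X.σ_pw h3⟩
  have hA4 : Nat.card X.A = Nat.card (X.pw 1) * 4 := by rw [X.card_A_eq, hO4]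
  have hK4 : X.idx K ≤ 4 := by
    have h := X.card_le_sixteen (⟨(X.pw_le 1).trans hAK, fun x hx => ((hKmem x).mp hx).2⟩ : SqSub (X.pw 1) K)
    rw [X.card_eq_idx hAK, hA4] at h
    have hp : 0 < Nat.card (X.pw 1) := Nat.card_pos
    nlinarith
  have hKab := X.abelian_of_idx_four hmove hAK hKD hKσ hK4
  have hKn : K.Normal := ⟨fun x hx g => by
    obtain ⟨h1, h3⟩ := (hKmem x).mp hx
    refine (hKmem _).mpr ⟨X.normal_D.conj_mem x h1 g, ?_⟩
    rw [show g * x * g⁻¹ * (g * x * g⁻¹) = g * (x * x) * g⁻¹ by group]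
    exact X.pw_conj h3 g⟩
  have hKA : K ≤ X.A := by
    intro k hk
    obtain ⟨h1, h3⟩ := (hKmem k).mp hk
    obtain ⟨b, hb, hbk⟩ := X.mem_pw_one.mp h3
    have h5 : k * b⁻¹ * (k * b⁻¹) = 1 := by
      calc k * b⁻¹ * (k * b⁻¹) = k * (b⁻¹ * k) * b⁻¹ := by group
        _ = k * k * (b * b)⁻¹ := by rw [X.A_D (inv_mem hb) h1]; group
        _ = 1 := by rw [hbk, mul_inv_cancel]
    have h6 := X.no_extra hKn hKab (L := X.Om) (fun w hw => hAK hw.1) (fun w hw => hw.2) hO4.ge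
      (mul_mem hk (hAK (inv_mem hb))) h5
    simpa using mul_mem h6.1 hb
  have hD4 : X.idx X.D ≤ 4 := by
    have h := SecRank.card_split f ⊤
    have hker : Nat.card f.ker ≤ Nat.card X.A := by
      rw [← card_map_of_injective X.D.subtype_injective]
      exact card_le_of_le hKA
    have him : Nat.card ((⊤ : Subgroup X.D).map f) ≤ Nat.card (X.A.map π1) := by
      refine card_le_of_le ?_
      rintro _ ⟨d, -, rfl⟩
      exact ⟨_, X.D_sq_mem d.2, rfl⟩
    have hAi := SecRank.card_split π1 X.A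
    rw [QuotientGroup.ker_mk', inf_eq_right.mpr (X.pw_le 1), hA4, mul_comm _ 4] at hAi
    have h4 : Nat.card (X.A.map π1) = 4 := (Nat.eq_of_mul_eq_mul_right Nat.card_pos hAi).symm
    rw [card_top, top_inf_eq, X.card_eq_idx X.A_le_D] at h
    rw [h4] at him
    have := Nat.mul_le_mul him hker
    rw [← h] at this
    exact Nat.le_of_mul_le_mul_right this Nat.card_pos
  have hab := X.abelian_of_idx_four hmove X.A_le_D le_rfl (fun _ => X.σ_D) hD4
  exact fun x hx => X.mem_A_of_central_D fun d hd => hab d hd x hx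

end Ctx

end Cfsg.Agent.NormalRankTwo
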